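import Cfsg.Agent.Lib.Involutions.ClassSquare.D4Setup

/-!
The triality twisted group: fixed parts, parameters, and the translates of its big cell.
-/

set_option autoImplicit false
set_option linter.unusedSectionVars false

open scoped Matrix

namespace Cfsg.Agent.Involutions.ClassSquare.D4

open Cfsg.Lie Cfsg.Agent.Chevalley Cfsg.Agent.Chevalley.Cert Cfsg.Agent.Chevalley.Group
  Cfsg.Agent.Chevalley.Table Cfsg.Agent.Chevalley.Unip Cfsg.Agent.Chevalley.Bruhat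
  Cfsg.Agent.Chevalley.Borel

/-- The data defining a triality twisted group. -/
structure Env (K : Type*) [Field K] [Fintype K] where
  q : ℕ
  hq : IsPrimePow q
  hK : Fintype.card K = q ^ 3
  X : Twist.D4.Setup (K := K) hK
  θ : K →+* K
  hθ : ∀ t, θ t = t ^ q

variable {K : Type*} [Field K] [Fintype K]

theorem exists_env {q : ℕ} (hq : IsPrimePow q) (hK : Fintype.card K = q ^ 3) :
    ∃ E : Env K, E.q = q := by
  obtain ⟨X⟩ := Twist.D4.exists_setup hq hK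
  exact ⟨⟨q, hq, hK, X, X.S.hom 0, fun t => X.hom_eq 0 (by norm_num) t⟩, rfl⟩

variable (E : Env K)

local notation "GG" => GL chevD4.Idx K
local notation "SL" => Matrix.SpecialLinearGroup (Fin 2) K

/-- The twisted group. -/
abbrev Env.G : Subgroup (GL chevD4.Idx K) := twistedD4 K E.q

theorem mem_iff {g : GG} : g ∈ E.G ↔ Twist.Img E.X.S g g := Twist.mem_K_iff E.X.gen

theorem θ3 (t : K) : E.θ (E.θ (E.θ t)) = t := by
  rw [E.hθ, E.hθ, E.hθ]; exact Twist.D4.qqq E.hK t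

/-- The allowed parameters. -/
def Par (i : Fin 2) (t : K) : Prop := i = 1 → E.θ t = t

theorem Par.zero (t : K) : Par E 0 t := fun h => absurd h (by decide)

theorem wordGL_two {r s k : ℕ} (a b c : K) :
    Twist.wordGL hC [(r, a), (s, b), (k, c)] = xx r a * (xx s b * xx k c) := by
  simp [Twist.wordGL]

theorem Xp_mem {i : Fin 2} {t : K} (h : Par E i t) : Xp E.θ i t ∈ E.G := by
  fin_cases i
  · show Xp E.θ 0 t ∈ E.G
    rw [Xp0, ← wordGL_two]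
    refine Twist.wordGL_mem (Or.inr ⟨t, (d4p1, d4p3, d4p4), by simp, ?_⟩)
    simp [E.hθ, d4p1, d4p3, d4p4, sq, pow_mul]
  · show Xp E.θ 1 t ∈ E.G
    have ht : t ^ E.q = t := by rw [← E.hθ]; exact h rfl
    have := Twist.wordGL_mem (hC := hC) (W := d4Words K E.q) (w := [(14, t)])
      (Or.inl ⟨t, ht, 14, by simp [d4p2], rfl⟩)
    rw [Xp1]
    simpa [Twist.wordGL] using! this

theorem Yn_mem {i : Fin 2} {t : K} (h : Par E i t) : Yn E.θ i t ∈ E.G := by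
  fin_cases i
  · show Yn E.θ 0 t ∈ E.G
    rw [Yn0, ← wordGL_two]
    refine Twist.wordGL_mem (Or.inr ⟨t, (d4m1, d4m3, d4m4), by simp, ?_⟩)
    simp [E.hθ, d4m1, d4m3, d4m4, sq, pow_mul]
  · show Yn E.θ 1 t ∈ E.G
    have ht : t ^ E.q = t := by rw [← E.hθ]; exact h rfl
    have := Twist.wordGL_mem (hC := hC) (W := d4Words K E.q) (w := [(9, t)])
      (Or.inl ⟨t, ht, 9, by simp [d4m2], rfl⟩)
    rw [Yn1]
    simpa [Twist.wordGL] using! this

theorem nJ_mem (i : Fin 2) : nL hC K (Jw i) ∈ E.G := by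
  have h0 := Twist.nL_mem_K E.X.O E.X.gen E.X.π_eq (Twist.D4.hOr E.X) (Twist.D4.k0 E.X)
  have h1 := Twist.nL_mem_K E.X.O E.X.gen E.X.π_eq (Twist.D4.hOr E.X) (Twist.D4.k1 E.X)
  rw [show E.X.O.J 0 = [1] from E.X.J_eq 0] at h0
  rw [show E.X.O.J 1 = [3, 2, 0] from E.X.J_eq 1] at h1
  fin_cases i
  exacts [h1, h0]

theorem n0_mem : (n0 : GG) ∈ E.G := by
  have h0 := nJ_mem E 0
  have h1 := nJ_mem E 1
  have e : w0 = Jw 1 ++ (Jw 0 ++ (Jw 1 ++ (Jw 0 ++ (Jw 1 ++ Jw 0)))) := by decide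
  rw [n0, e]
  simp only [Weyl.nL_append]
  exact mul_mem h1 (mul_mem h0 (mul_mem h1 (mul_mem h0 (mul_mem h1 h0))))

theorem om_mem {g : GG} (hg : g ∈ E.G) : om g ∈ E.G := by
  rw [om_apply]
  exact mul_mem (mul_mem (n0_mem E) hg) (inv_mem (n0_mem E))

theorem le_group {g : GG} (hg : g ∈ E.G) : g ∈ chevD4.group K :=
  Twist.K_le_group E.X.gen hg

/-! ### Fixed parts -/

theorem img_RS {L M : List ℕ} (h : ∀ r ∈ L, r < 24 ∧ Types.GAut.tabD4a.ρ r ∈ M) {g g' : GG}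
    (hg : g ∈ RS K L) (hi : Twist.Img E.X.S g g') : g' ∈ RS K M := by
  refine Twist.Img.closure (fun x hx => ?_) hg hi
  obtain ⟨r, hr, t, rfl⟩ := hx
  refine ⟨_, Subgroup.subset_closure ⟨_, ?_, _, rfl⟩, Twist.img_xg E.X.S (lt24 (h r hr).1) t⟩
  rw [E.X.ρ_eq]
  exact (h r hr).2

theorem fixed_parts {A B : List ℕ} (hA : ∀ r ∈ A, r < 24 ∧ Types.GAut.tabD4a.ρ r ∈ A)
    (hB : ∀ r ∈ B, r < 24 ∧ Types.GAut.tabD4a.ρ r ∈ B)
    (hi : ∀ g : GG, g ∈ RS K A → g ∈ RS K B → g = 1) {a b : GG} (ha : a ∈ RS K A)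
    (hb : b ∈ RS K B) (hg : a * b ∈ E.G) : a ∈ E.G ∧ b ∈ E.G := by
  have hAG : RS K A ≤ chevD4.group K := RS_le fun r hr t => xg_mem_group hC (lt24 (hA r hr).1) t
  have hBG : RS K B ≤ chevD4.group K := RS_le fun r hr t => xg_mem_group hC (lt24 (hB r hr).1) t
  obtain ⟨a', ha'⟩ := Twist.Img.exists_of_mem (S := E.X.S) (hAG ha)
  obtain ⟨b', hb'⟩ := Twist.Img.exists_of_mem (S := E.X.S) (hBG hb)
  have h1 := img_RS E hA ha ha'
  have h2 := img_RS E hB hb hb'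
  have e : a' * b' = a * b := (ha'.mul hb').unique ((mem_iff E).1 hg)
  have e' : a⁻¹ * a' = b * b'⁻¹ := by
    calc a⁻¹ * a' = a⁻¹ * (a' * b') * b'⁻¹ := by group
      _ = _ := by rw [e]; group
  have h3 := hi _ (mul_mem (inv_mem ha) h1) (e' ▸ mul_mem hb (inv_mem h2))
  have ea : a' = a := (inv_mul_eq_one.1 h3).symm
  have eb : b' = b := (mul_inv_eq_one.1 (e'.symm.trans h3)).symm
  rw [ea] at ha'
  rw [eb] at hb'
  exact ⟨(mem_iff E).2 ha', (mem_iff E).2 hb'⟩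

theorem ρ_lists : ∀ i : Fin 2, (∀ r ∈ Rp i, r < 24 ∧ Types.GAut.tabD4a.ρ r ∈ Rp i) ∧
    (∀ r ∈ Rn i, r < 24 ∧ Types.GAut.tabD4a.ρ r ∈ Rn i) ∧
    (∀ r ∈ Ps i, r < 24 ∧ Types.GAut.tabD4a.ρ r ∈ Ps i) ∧
    (∀ r ∈ Ns i, r < 24 ∧ Types.GAut.tabD4a.ρ r ∈ Ns i) := by decide +kernel

theorem img_simple {i : ℕ} (hi : i < 4) (t : K) :
    Twist.Img E.X.S (xx (chevD4.simple i) t) (xx (chevD4.simple (Twist.nodePi Twist.D4.L i)) (E.θ t)) ∧
      Twist.Img E.X.S (xx (chevD4.neg (chevD4.simple i)) t)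
        (xx (chevD4.neg (chevD4.simple (Twist.nodePi Twist.D4.L i))) (E.θ t)) := by
  have hr : i < chevD4.rank := by rw [simple_vals.2.2.2.2]; exact hi
  have h1 := Twist.img_xg E.X.S (hC.simple_lt hr) t
  have h2 := Twist.img_xg E.X.S (hC.neg_lt (hC.simple_lt hr)) t
  rw [E.X.S.ρ_simple i hr, E.X.S.act_simple i hr, E.X.π_eq, E.X.hom_eq i hi, ← E.hθ] at h1
  rw [E.X.S.ρ_neg_simple i hr, E.X.S.act_neg_simple i hr, E.X.π_eq, E.X.hom_eq i hi, ← E.hθ] at h2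
  exact ⟨h1, h2⟩

/-- A fixed element of a triple of orthogonal root groups permuted cyclically. -/
theorem triple_param {r s k : ℕ}
    (img : ∀ t : K, Twist.Img E.X.S (xx r t) (xx s (E.θ t)) ∧
      Twist.Img E.X.S (xx s t) (xx k (E.θ t)) ∧ Twist.Img E.X.S (xx k t) (xx r (E.θ t)))
    (hrs : ∀ a b : K, Commute (xx r a) (xx s b)) (hrk : ∀ a b : K, Commute (xx r a) (xx k b))
    (hr : r < 24) (hs : s < 24) (hk : k < 24)
    (sep : ∀ g : GG, g ∈ RS K [r] → g ∈ RS K [s, k] → g = 1)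
    (sep' : ∀ g : GG, g ∈ RS K [s] → g ∈ RS K [k] → g = 1)
    (h1 : CommOK [r] s ∧ CommOK [r] k ∧ CommOK [s] k) {g : GG} (hg : g ∈ RS K [r, s, k])
    (hG : g ∈ E.G) : ∃ t : K, g = xx r t * (xx s (E.θ t) * xx k (E.θ (E.θ t))) := by
  obtain ⟨a', ha', w, hw, rfl⟩ := RS_split (A := [r]) (B := [s, k]) (fun x hx => by
    simp at hx; rcases hx with rfl | rfl; exacts [h1.1, h1.2.1]) hg
  obtain ⟨b', hb', c', hc', rfl⟩ := RS_split (A := [s]) (B := [k]) (fun x hx => by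
    simp at hx; subst hx; exact h1.2.2) hw
  obtain ⟨a, rfl⟩ := RS_singleton ha'
  obtain ⟨b, rfl⟩ := RS_singleton hb'
  obtain ⟨c, rfl⟩ := RS_singleton hc'
  have e := ((img a).1.mul ((img b).2.1.mul (img c).2.2)).unique ((mem_iff E).1 hG)
  rw [show xx s (E.θ a) * (xx k (E.θ b) * xx r (E.θ c)) =
      xx r (E.θ c) * (xx s (E.θ a) * xx k (E.θ b)) by
    rw [← (hrk (E.θ c) (E.θ b)).eq, ← mul_assoc, ← (hrs (E.θ c) (E.θ a)).eq, mul_assoc]] at e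
  have m1 : ∀ x y : K, xx s x * xx k y ∈ RS K [s, k] := fun x y =>
    mul_mem (xx_mem_RS (by simp) x) (xx_mem_RS (by simp) y)
  have e1 : (xx r a)⁻¹ * xx r (E.θ c) = (xx s b * xx k c) * (xx s (E.θ a) * xx k (E.θ b))⁻¹ := by
    calc _ = (xx r a)⁻¹ * (xx r (E.θ c) * (xx s (E.θ a) * xx k (E.θ b))) *
          (xx s (E.θ a) * xx k (E.θ b))⁻¹ := by group
      _ = _ := by rw [e]; group
  have z1 := sep _ (mul_mem (inv_mem (xx_mem_RS (by simp) a)) (xx_mem_RS (by simp) _))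
    (e1 ▸ mul_mem (m1 b c) (inv_mem (m1 _ _)))
  have hac : a = E.θ c := xg_injective hC (lt24 hr) (inv_mul_eq_one.1 z1)
  rw [← hac] at e
  have e2 : (xx s b)⁻¹ * xx s (E.θ a) = xx k c * (xx k (E.θ b))⁻¹ := by
    calc _ = (xx s b)⁻¹ * (xx s (E.θ a) * xx k (E.θ b)) * (xx k (E.θ b))⁻¹ := by group
      _ = _ := by rw [mul_left_cancel e]; group
  have z2 := sep' _ (mul_mem (inv_mem (xx_mem_RS (by simp) b)) (xx_mem_RS (by simp) _))
    (e2 ▸ mul_mem (xx_mem_RS (by simp) c) (inv_mem (xx_mem_RS (by simp) _)))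
  have hb : b = E.θ a := xg_injective hC (lt24 hs) (inv_mul_eq_one.1 z2)
  have hc : c = E.θ (E.θ a) := by
    rw [z2] at e2
    rw [← hb]
    exact xg_injective hC (lt24 hk) (mul_inv_eq_one.1 e2.symm)
  exact ⟨a, by rw [hb, hc]⟩

theorem triple_ok :
    (CommOK [18] 13 ∧ CommOK [18] 12 ∧ CommOK [13] 12) ∧
    (CommOK [5] 10 ∧ CommOK [5] 11 ∧ CommOK [10] 11) ∧
    (∀ p ∈ [(18, 13), (18, 12), (5, 10), (5, 11)],
      p.2 ≠ p.1 ∧ p.2 ≠ chevD4.neg p.1 ∧ chevD4.commTerms p.1 p.2 = []) ∧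
    (wL chevD4 [0] 18 < 12 ∧ 12 ≤ wL chevD4 [0] 13 ∧ wL chevD4 [0] 13 < 24 ∧
      12 ≤ wL chevD4 [0] 12 ∧ wL chevD4 [0] 12 < 24) ∧
    (12 ≤ wL chevD4 [0] 5 ∧ wL chevD4 [0] 5 < 24 ∧ wL chevD4 [0] 10 < 12 ∧
      wL chevD4 [0] 11 < 12) ∧
    (wL chevD4 [2] 13 < 12 ∧ 12 ≤ wL chevD4 [2] 12 ∧ wL chevD4 [2] 12 < 24 ∧
      12 ≤ wL chevD4 [2] 10 ∧ wL chevD4 [2] 10 < 24 ∧ wL chevD4 [2] 11 < 12) := by decide +kernel

theorem nodePi_vals : Twist.nodePi Twist.D4.L 0 = 2 ∧ Twist.nodePi Twist.D4.L 2 = 3 ∧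
    Twist.nodePi Twist.D4.L 3 = 0 ∧ Twist.nodePi Twist.D4.L 1 = 1 := by decide

theorem param_Xp {i : Fin 2} {g : GG} (hg : g ∈ RS K (Ps i)) (hG : g ∈ E.G) :
    ∃ t : K, Par E i t ∧ g = Xp E.θ i t := by
  obtain ⟨s0, s1, s2, s3, -⟩ := simple_vals
  obtain ⟨p0, p2, p3, p1⟩ := nodePi_vals
  fin_cases i
  · obtain ⟨ok, -, hcm, hw0, -, hw2⟩ := triple_ok
    obtain ⟨t, ht⟩ := triple_param E (r := 18) (s := 13) (k := 12)
      (fun t => ⟨by simpa [s0, s2, p0] using (img_simple E (i := 0) (by norm_num) t).1,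
        by simpa [s2, s3, p2] using (img_simple E (i := 2) (by norm_num) t).1,
        by simpa [s0, s3, p3] using (img_simple E (i := 3) (by norm_num) t).1⟩)
      (fun a b => by
        obtain ⟨x, y, z⟩ := hcm (18, 13) (by simp)
        exact xx_comm_of_nil (by norm_num) (by norm_num) x y z a b)
      (fun a b => by
        obtain ⟨x, y, z⟩ := hcm (18, 12) (by simp)
        exact xx_comm_of_nil (by norm_num) (by norm_num) x y z a b)
      (by norm_num) (by norm_num) (by norm_num)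
      (fun g h h' => RS_inf (w := [0]) (by decide) (by simpa using hw0.1)
        (by simpa using! ⟨⟨hw0.2.1, hw0.2.2.1⟩, hw0.2.2.2⟩) h h')
      (fun g h h' => RS_inf (w := [2]) (by decide) (by simpa using hw2.1)
        (by simpa using! ⟨hw2.2.1, hw2.2.2.1⟩) h h') ok hg hG
    exact ⟨t, Par.zero E t, by rw [ht]; exact (Xp0 E.θ t).symm⟩
  · obtain ⟨t, rfl⟩ := RS_singleton hg
    have h := (img_simple E (i := 1) (by norm_num) t).1
    rw [s1, p1, s1] at h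
    have e := xg_injective hC (lt24 (show 14 < 24 by norm_num)) (h.unique ((mem_iff E).1 hG))
    exact ⟨t, fun _ => e, (Xp1 E.θ t).symm⟩

theorem param_Yn {i : Fin 2} {g : GG} (hg : g ∈ RS K (Ns i)) (hG : g ∈ E.G) :
    ∃ t : K, Par E i t ∧ g = Yn E.θ i t := by
  obtain ⟨s0, s1, s2, s3, -⟩ := simple_vals
  obtain ⟨p0, p2, p3, p1⟩ := nodePi_vals
  obtain ⟨n5, n10, n11, n9, -⟩ := neg_simples
  fin_cases i
  · obtain ⟨-, ok, hcm, -, hw0, hw2⟩ := triple_ok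
    obtain ⟨t, ht⟩ := triple_param E (r := 5) (s := 10) (k := 11)
      (fun t => ⟨by simpa [s0, s2, p0, n5, n10] using (img_simple E (i := 0) (by norm_num) t).2,
        by simpa [s2, s3, p2, n10, n11] using (img_simple E (i := 2) (by norm_num) t).2,
        by simpa [s0, s3, p3, n5, n11] using (img_simple E (i := 3) (by norm_num) t).2⟩)
      (fun a b => by
        obtain ⟨x, y, z⟩ := hcm (5, 10) (by simp)
        exact xx_comm_of_nil (by norm_num) (by norm_num) x y z a b)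
      (fun a b => by
        obtain ⟨x, y, z⟩ := hcm (5, 11) (by simp)
        exact xx_comm_of_nil (by norm_num) (by norm_num) x y z a b)
      (by norm_num) (by norm_num) (by norm_num)
      (fun g h h' => RS_inf (w := [0]) (by decide) (by simpa using! ⟨hw0.2.2.1, hw0.2.2.2⟩)
        (by simpa using! ⟨hw0.1, hw0.2.1⟩) h' h)
      (fun g h h' => RS_inf (w := [2]) (by decide) (by simpa using! hw2.2.2.2.2.2)
        (by simpa using! ⟨hw2.2.2.2.1, hw2.2.2.2.2.1⟩) h' h) ok hg hG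
    exact ⟨t, Par.zero E t, by rw [ht]; exact (Yn0 E.θ t).symm⟩
  · obtain ⟨t, rfl⟩ := RS_singleton hg
    have h := (img_simple E (i := 1) (by norm_num) t).2
    rw [s1, p1, s1, n9] at h
    have e := xg_injective hC (lt24 (show 9 < 24 by norm_num)) (h.unique ((mem_iff E).1 hG))
    exact ⟨t, fun _ => e, (Yn1 E.θ t).symm⟩

theorem U_parts (i : Fin 2) {u : GG} (hu : u ∈ chevD4.posUnipotent K) (hG : u ∈ E.G) :
    ∃ a ∈ RS K (Rp i), a ∈ E.G ∧ ∃ t : K, Par E i t ∧ u = a * Xp E.θ i t := by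
  obtain ⟨a, ha, b, hb, rfl⟩ := RS_split (fun s hs => (list_ok.1 i s (List.mem_append_left _ hs)).1)
    (U_le_RS i hu)
  obtain ⟨hρR, -, hρP, -⟩ := ρ_lists i
  obtain ⟨ga, gb⟩ := fixed_parts E hρR hρP
    (fun g h h' => RS_inf (Jw_lt i) (sep_ok i).1 (sep_ok i).2.1 h' h) ha hb hG
  obtain ⟨t, ht, rfl⟩ := param_Xp E hb gb
  exact ⟨a, ha, ga, t, ht, rfl⟩

theorem V_parts (i : Fin 2) {v : GG} (hv : v ∈ chevD4.negUnipotent K) (hG : v ∈ E.G) :
    ∃ a ∈ RS K (Rn i), a ∈ E.G ∧ ∃ t : K, Par E i t ∧ v = a * Yn E.θ i t := by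
  obtain ⟨a, ha, b, hb, rfl⟩ := RS_split (fun s hs => (list_ok.1 i s (List.mem_append_right _ hs)).2)
    (V_le_RS i hv)
  obtain ⟨-, hρR, -, hρP⟩ := ρ_lists i
  obtain ⟨ga, gb⟩ := fixed_parts E hρR hρP
    (fun g h h' => RS_inf (Jw_lt i) (sep_ok i).2.2.1 (sep_ok i).2.2.2 h h') ha hb hG
  obtain ⟨t, ht, rfl⟩ := param_Yn E hb gb
  exact ⟨a, ha, ga, t, ht, rfl⟩

theorem U_left (i : Fin 2) {u : GG} (hu : u ∈ chevD4.posUnipotent K) (hG : u ∈ E.G) :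
    ∃ t : K, Par E i t ∧ ∃ a ∈ RS K (Rp i), a ∈ E.G ∧ u = Xp E.θ i t * a := by
  obtain ⟨a, ha, ga, t, ht, rfl⟩ := U_parts E i hu hG
  refine ⟨t, ht, (Xp E.θ i t)⁻¹ * a * Xp E.θ i t, ?_, ?_, by group⟩
  · have h := conj_Rp (inv_mem (Ps_le i (Xp_mem_RS E.θ i t))) ha
    rwa [inv_inv] at h
  · exact mul_mem (mul_mem (inv_mem (Xp_mem E ht)) ga) (Xp_mem E ht)

theorem V_left (i : Fin 2) {v : GG} (hv : v ∈ chevD4.negUnipotent K) (hG : v ∈ E.G) :
    ∃ t : K, Par E i t ∧ ∃ a ∈ RS K (Rn i), a ∈ E.G ∧ v = Yn E.θ i t * a := by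
  obtain ⟨a, ha, ga, t, ht, rfl⟩ := V_parts E i hv hG
  refine ⟨t, ht, (Yn E.θ i t)⁻¹ * a * Yn E.θ i t, ?_, ?_, by group⟩
  · have h := conj_Rn (inv_mem (Ns_le i (Yn_mem_RS E.θ i t))) ha
    rwa [inv_inv] at h
  · exact mul_mem (mul_mem (inv_mem (Yn_mem E ht)) ga) (Yn_mem E ht)

theorem Xp_mem_U (i : Fin 2) (t : K) : Xp E.θ i t ∈ chevD4.posUnipotent K :=
  RS_le_U (fun r hr => (list_ok.2 i r).1 (List.mem_append_right _ hr)) (Xp_mem_RS E.θ i t)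

theorem Yn_mem_V (i : Fin 2) (t : K) : Yn E.θ i t ∈ chevD4.negUnipotent K :=
  RS_le_V (fun r hr => (list_ok.2 i r).2 (List.mem_append_right _ hr)) (Yn_mem_RS E.θ i t)

theorem Yn_inj {i : Fin 2} {t : K} (h : Yn E.θ i t = (1 : GG)) : t = 0 := by
  fin_cases i
  · change Yn E.θ 0 t = 1 at h
    rw [Yn0] at h
    obtain ⟨-, -, -, -, hw0, -⟩ := triple_ok
    have z := RS_inf (g := xx 5 t) (w := [0]) (A := [10, 11]) (B := [5]) (by decide)
      (by simpa using! ⟨hw0.2.2.1, hw0.2.2.2⟩) (by simpa using! ⟨hw0.1, hw0.2.1⟩)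
      (by rw [eq_inv_of_mul_eq_one_left h]
          exact inv_mem (mul_mem (xx_mem_RS (by simp) _) (xx_mem_RS (by simp) _)))
      (xx_mem_RS (by simp) t)
    exact xg_injective hC (lt24 (show 5 < 24 by norm_num)) (z.trans (xx_zero 5).symm)
  · change Yn E.θ 1 t = 1 at h
    rw [Yn1] at h
    exact xg_injective hC (lt24 (show 9 < 24 by norm_num)) (h.trans (xx_zero 9).symm)

theorem Xp_inj {i : Fin 2} {t : K} (h : Xp E.θ i t = (1 : GG)) : t = 0 := by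
  fin_cases i
  · change Xp E.θ 0 t = 1 at h
    rw [Xp0] at h
    obtain ⟨-, -, -, hw0, -⟩ := triple_ok
    have z := RS_inf (g := xx 18 t) (w := [0]) (A := [18]) (B := [13, 12]) (by decide)
      (by simpa using! hw0.1) (by simpa using! ⟨⟨hw0.2.1, hw0.2.2.1⟩, hw0.2.2.2⟩) (xx_mem_RS (by simp) t)
      (by rw [eq_inv_of_mul_eq_one_left h]
          exact inv_mem (mul_mem (xx_mem_RS (by simp) _) (xx_mem_RS (by simp) _)))
    exact xg_injective hC (lt24 (show 18 < 24 by norm_num)) (z.trans (xx_zero 18).symm)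
  · change Xp E.θ 1 t = 1 at h
    rw [Xp1] at h
    exact xg_injective hC (lt24 (show 14 < 24 by norm_num)) (h.trans (xx_zero 14).symm)

/-! ### The torus -/

theorem tt_mem (a : Kˣ) {b : Kˣ} (hb : E.θ (b : K) = b) : tt E.θ a b ∈ E.G :=
  Twist.D4.tor_dvec_mem E.X E.θ E.hθ b a (Units.ext hb)

theorem mem_torus {h : GG} (hh : h ∈ chevD4.diagonalSubgroup K) (hG : h ∈ E.G) :
    ∃ a b : Kˣ, E.θ (b : K) = b ∧ h = tt E.θ a b := by
  obtain ⟨c, rfl⟩ := (mem_H_iff hC).1 hh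
  obtain ⟨c', hc', h'⟩ := E.X.fix c ((Twist.mem_K_iff E.X.gen).1 hG)
  obtain ⟨p0, p2, p3, p1⟩ := nodePi_vals
  have step : ∀ i < 4, (c' (Twist.nodePi Twist.D4.L i) : K) = E.θ (c' i : K) := fun i hi => by
    have := h' i (by rw [simple_vals.2.2.2.2]; exact hi)
    rw [E.X.π_eq, E.X.hom_eq i hi, ← E.hθ] at this
    exact this
  refine ⟨c' 0, c' 1, ?_, ?_⟩
  · have := step 1 (by norm_num)
    rw [p1] at this
    exact this.symm
  · rw [← hc']
    refine tor_congr4 fun j hj => ?_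
    have e2 : c' 2 = Twist.D4.Θu E.θ (c' 0) := Units.ext (by
      have := step 0 (by norm_num); rwa [p0] at this)
    have e3 : c' 3 = Twist.D4.Θu E.θ (c' 2) := Units.ext (by
      have := step 2 (by norm_num); rwa [p2] at this)
    interval_cases j <;> simp [Twist.D4.dvec, e2, e3]

theorem th_mem {i : Fin 2} {s : Kˣ} (hs : Par E i (s : K)) : th E.θ i s ∈ E.G := by
  fin_cases i
  · exact tt_mem E s (map_one E.θ)
  · exact tt_mem E 1 (hs rfl)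

theorem th_mem_H (i : Fin 2) (s : Kˣ) : th E.θ i s ∈ chevD4.diagonalSubgroup K := by
  fin_cases i <;> exact tt_mem_H E.θ _ _

theorem H_conj_U {h u : GG} (hh : h ∈ chevD4.diagonalSubgroup K)
    (hu : u ∈ chevD4.posUnipotent K) : h * u * h⁻¹ ∈ chevD4.posUnipotent K :=
  (Subgroup.mem_normalizer_iff.1 (H_normalizes_U hC hh) u).1 hu

theorem H_conj_V {h v : GG} (hh : h ∈ chevD4.diagonalSubgroup K)
    (hv : v ∈ chevD4.negUnipotent K) : h * v * h⁻¹ ∈ chevD4.negUnipotent K :=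
  (Subgroup.mem_normalizer_iff.1 (H_normalizes_V hC hh) v).1 hv

/-! ### The big cell -/

/-- The translates of the big cell inside the twisted group. -/
def Cell (g : GL chevD4.Idx K) : Prop :=
  ∃ a ∈ chevD4.posUnipotent K ⊓ E.G, ∃ b ∈ chevD4.negUnipotent K ⊓ E.G,
    ∃ h ∈ chevD4.diagonalSubgroup K ⊓ E.G, ∃ c ∈ chevD4.posUnipotent K ⊓ E.G, g = a * b * h * c

theorem gens_le {H : Subgroup GG}
    (h : ∀ i : Fin 2, ∀ t : K, Par E i t → Xp E.θ i t ∈ H ∧ Yn E.θ i t ∈ H) : E.G ≤ H := by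
  show twistedD4 K E.q ≤ H
  rw [twistedD4, Twist.genSubgroup_eq hC, Subgroup.closure_le]
  rintro g ⟨w, hw, rfl⟩
  rcases hw with ⟨t, ht, r, hr, rfl⟩ | ⟨t, rs, hrs, rfl⟩
  · obtain ⟨h1, h2⟩ := h 1 t (fun _ => by rw [E.hθ]; exact ht)
    rw [Xp1] at h1
    rw [Yn1] at h2
    simp [d4p2, d4m2] at hr
    rcases hr with rfl | rfl <;> simpa [Twist.wordGL]
  · obtain ⟨h1, h2⟩ := h 0 t (Par.zero E t)
    rw [Xp0, E.hθ, E.hθ, ← pow_mul, ← sq] at h1
    rw [Yn0, E.hθ, E.hθ, ← pow_mul, ← sq] at h2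
    simp [d4p1, d4p3, d4p4, d4m1, d4m3, d4m4] at hrs
    rcases hrs with rfl | rfl <;> simpa [Twist.wordGL]

theorem Phi_mem {i : Fin 2} {M : SL} (h : i = 1 → fm E.θ M = M) : Phi E.θ i M ∈ E.G := by
  have hel : ∀ a b, i = 1 → E.θ (SL2.el M a b) = SL2.el M a b := fun a b hi => by
    conv_rhs => rw [← h hi]
    simp [fm, SL2.el]
  by_cases hc : SL2.el M 1 0 = 0
  · have ha : SL2.el M 0 0 ≠ 0 := fun h0 => by
      have := SL2.el_det M; rw [h0, hc] at this; simp at this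
    rw [ldu ha, map_mul, map_mul, Phi_dw]
    refine mul_mem (mul_mem (Yn_mem E fun hi => ?_) (th_mem E fun hi => ?_)) (Xp_mem E fun hi => ?_)
    · rw [map_div₀, hel _ _ hi, hel _ _ hi]
    · exact hel _ _ hi
    · rw [map_div₀, hel _ _ hi, hel _ _ hi]
  · rw [SL2.decomp hc, map_mul, map_mul]
    refine mul_mem (mul_mem (Xp_mem E fun hi => ?_) (Yn_mem E (hel 1 0))) (Xp_mem E fun hi => ?_) <;>
      rw [map_div₀, map_sub, map_one, hel _ _ hi, hel _ _ hi]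

theorem cell_pos {i : Fin 2} {t : K} (ht : Par E i t) {g : GG} (hg : Cell E g) :
    Cell E (Xp E.θ i t * g) := by
  obtain ⟨a, ha, b, hb, h, hh, c, hc, rfl⟩ := hg
  exact ⟨_, mul_mem (show Xp E.θ i t ∈ chevD4.posUnipotent K ⊓ E.G from
    ⟨Xp_mem_U E i t, Xp_mem E ht⟩) ha, b, hb, h, hh, c, hc, by simp only [mul_assoc]⟩

theorem cell_neg {i : Fin 2} {t : K} (ht : Par E i t) {g : GG} (hg : Cell E g) :
    Cell E (Yn E.θ i t * g) := by
  obtain ⟨a, ha0, b, hb0, h, hh0, c, hc, rfl⟩ := hg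
  obtain ⟨ha, gha⟩ := Subgroup.mem_inf.1 ha0
  obtain ⟨hb, ghb⟩ := Subgroup.mem_inf.1 hb0
  obtain ⟨hh, ghh⟩ := Subgroup.mem_inf.1 hh0
  obtain ⟨p, hp, gp, s, hs, rfl⟩ := U_parts E i ha gha
  obtain ⟨r, hr, w, hw, gw, rfl⟩ := V_left E i hb ghb
  obtain ⟨M, hM⟩ : ∃ M : SL, M = SL2.sy t * SL2.sx s * SL2.sy r := ⟨_, rfl⟩
  have hfix : i = 1 → fm E.θ M = M := fun hi => by
    rw [hM, map_mul, map_mul, fm_sx, fm_sy, fm_sy, ht hi, hs hi, hr hi]
  have hM' : Phi E.θ i M = Yn E.θ i t * Xp E.θ i s * Yn E.θ i r := by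
    rw [hM, map_mul, map_mul]; rfl
  obtain ⟨s0, M', hs0, hMM, h00⟩ : ∃ (s0 : K) (M' : SL), Par E i s0 ∧ M = SL2.sx s0 * M' ∧
      SL2.el M' 0 0 ≠ 0 := by
    by_cases h00 : SL2.el M 0 0 = 0
    · refine ⟨1, (SL2.sx (1 : K))⁻¹ * M, fun _ => map_one _, by group, fun h => ?_⟩
      have e : (SL2.sx (1 : K))⁻¹ = SL2.sx (-1) := inv_eq_of_mul_eq_one_right (by
        ext a b; fin_cases a <;> fin_cases b <;> simp [Matrix.mul_apply, Fin.sum_univ_two])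
      rw [e, SL2.el_mul] at h
      simp [SL2.el] at h h00
      have := SL2.el_det M
      simp [SL2.el, h00] at this
      rw [h00] at h
      simp at h
      rw [h] at this
      simp at this
    · refine ⟨0, M, fun _ => map_zero _, ?_, h00⟩
      have e : SL2.sx (0 : K) = 1 := by
        ext a b; fin_cases a <;> fin_cases b <;> simp
      rw [e, one_mul]
  have hfix' : i = 1 → ∀ a b, E.θ (SL2.el M' a b) = SL2.el M' a b := by
    intro hi a b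
    have e : fm E.θ M' = M' := mul_left_cancel (a := SL2.sx s0) (by
      conv_lhs => rw [← hs0 hi, ← fm_sx, ← map_mul, ← hMM, hfix hi]
      exact hMM)
    conv_rhs => rw [← e]
    simp [fm, SL2.el]
  obtain ⟨l, d, m, hl, hd, hm, hlm⟩ : ∃ (l : K) (d : GG) (m : K), Par E i l ∧
      d ∈ chevD4.diagonalSubgroup K ⊓ E.G ∧ Par E i m ∧
      Phi E.θ i M' = Yn E.θ i l * d * Xp E.θ i m := by
    refine ⟨SL2.el M' 1 0 / SL2.el M' 0 0, th E.θ i (Units.mk0 _ h00),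
      SL2.el M' 0 1 / SL2.el M' 0 0, fun hi => ?_, ⟨th_mem_H E i _,
      th_mem E fun hi => hfix' hi 0 0⟩, fun hi => ?_, ?_⟩
    case refine_3 =>
      conv_lhs => rw [ldu h00]
      simp only [map_mul, Phi_dw]
      rfl
    all_goals rw [map_div₀, hfix' hi, hfix' hi]
  rw [hMM, map_mul, hlm, show Phi E.θ i (SL2.sx s0) = Xp E.θ i s0 from rfl] at hM'
  obtain ⟨w', hw', gw', hwm⟩ : ∃ w' ∈ RS K (Rn i), w' ∈ E.G ∧
      Xp E.θ i m * w = w' * Xp E.θ i m :=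
    ⟨_, conj_Rn (Ps_le i (Xp_mem_RS E.θ i m)) hw,
      mul_mem (mul_mem (Xp_mem E hm) gw) (inv_mem (Xp_mem E hm)), by group⟩
  have hpU : Yn E.θ i t * p * (Yn E.θ i t)⁻¹ ∈ chevD4.posUnipotent K :=
    RS_Rp_le_U i (conj_Rp (Ns_le i (Yn_mem_RS E.θ i t)) hp)
  have gpU : Yn E.θ i t * p * (Yn E.θ i t)⁻¹ ∈ E.G :=
    mul_mem (mul_mem (Yn_mem E ht) gp) (inv_mem (Yn_mem E ht))
  refine ⟨_, mul_mem (show _ ∈ chevD4.posUnipotent K ⊓ E.G from ⟨hpU, gpU⟩)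
      ⟨Xp_mem_U E i s0, Xp_mem E hs0⟩,
    Yn E.θ i l * (d * w' * d⁻¹), Subgroup.mem_inf.2 ⟨mul_mem (Yn_mem_V E i l) (H_conj_V (Subgroup.mem_inf.1 hd).1 (RS_Rn_le_V i hw')),
      mul_mem (Yn_mem E hl) (mul_mem (mul_mem (Subgroup.mem_inf.1 hd).2 gw') (inv_mem (Subgroup.mem_inf.1 hd).2))⟩,
    d * h, mul_mem hd (Subgroup.mem_inf.2 ⟨hh, ghh⟩), h⁻¹ * Xp E.θ i m * h * c,
    mul_mem (show h⁻¹ * Xp E.θ i m * h ∈ chevD4.posUnipotent K ⊓ E.G from
      Subgroup.mem_inf.2 ⟨by simpa using H_conj_U (inv_mem hh) (Xp_mem_U E i m),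
        mul_mem (mul_mem (inv_mem ghh) (Xp_mem E hm)) ghh⟩) hc, ?_⟩
  calc _ = (Yn E.θ i t * p * (Yn E.θ i t)⁻¹) *
        (Yn E.θ i t * Xp E.θ i s * Yn E.θ i r) * w * h * c := by group
    _ = (Yn E.θ i t * p * (Yn E.θ i t)⁻¹) * Xp E.θ i s0 * Yn E.θ i l * d *
          (Xp E.θ i m * w) * h * c := by rw [← hM']; group
    _ = _ := by rw [hwm]; group

theorem cell_all {g : GG} (hg : g ∈ E.G) : Cell E g := by
  let H : Subgroup GG := Subgroup.closure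
    {x | ∃ i : Fin 2, ∃ t : K, Par E i t ∧ (x = Xp E.θ i t ∨ x = Yn E.θ i t)}
  have hle : E.G ≤ H := gens_le E fun i t ht =>
    ⟨Subgroup.subset_closure ⟨i, t, ht, Or.inl rfl⟩, Subgroup.subset_closure ⟨i, t, ht, Or.inr rfl⟩⟩
  have h1 : Cell E (1 : GG) := ⟨1, one_mem _, 1, one_mem _, 1, one_mem _, 1, one_mem _, by simp⟩
  refine Subgroup.closure_induction_left (p := fun x _ => Cell E x) h1 ?_ ?_ (hle hg)
  · rintro x ⟨i, t, ht, rfl | rfl⟩ y - hy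
    exacts [cell_pos E ht hy, cell_neg E ht hy]
  · rintro x ⟨i, t, ht, rfl | rfl⟩ y - hy
    · rw [Xp_inv]; exact cell_pos E (fun hi => by rw [map_neg, ht hi]) hy
    · rw [Yn_inv]; exact cell_neg E (fun hi => by rw [map_neg, ht hi]) hy

/-! ### The longest element -/

theorem om_Rp (i : Fin 2) {u : GG} (hu : u ∈ RS K (Rp i)) : om u ∈ RS K (Rn i) :=
  om_RS (neg_lists i).1 hu

theorem om_Rn (i : Fin 2) {u : GG} (hu : u ∈ RS K (Rn i)) : om u ∈ RS K (Rp i) :=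
  om_RS (neg_lists i).2.1 hu

theorem om_U {u : GG} (hu : u ∈ chevD4.posUnipotent K) : om u ∈ chevD4.negUnipotent K := by
  obtain ⟨a, ha, b, hb, rfl⟩ := RS_split (fun s hs => (list_ok.1 0 s (List.mem_append_left _ hs)).1)
    (U_le_RS 0 hu)
  rw [map_mul]
  exact mul_mem (RS_Rn_le_V 0 (om_Rp 0 ha))
    (RS_le_V (fun r hr => (list_ok.2 0 r).2 (List.mem_append_right _ hr))
      (om_RS (neg_lists 0).2.2.1 hb))

theorem om_V {v : GG} (hv : v ∈ chevD4.negUnipotent K) : om v ∈ chevD4.posUnipotent K := by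
  obtain ⟨a, ha, b, hb, rfl⟩ := RS_split (fun s hs => (list_ok.1 0 s (List.mem_append_right _ hs)).2)
    (V_le_RS 0 hv)
  rw [map_mul]
  exact mul_mem (RS_Rp_le_U 0 (om_Rn 0 ha))
    (RS_le_U (fun r hr => (list_ok.2 0 r).1 (List.mem_append_right _ hr))
      (om_RS (neg_lists 0).2.2.2 hb))

theorem om_Xp {i : Fin 2} {t : K} (ht : Par E i t) :
    ∃ t' : K, Par E i t' ∧ (t ≠ 0 → t' ≠ 0) ∧ om (Xp E.θ i t) = Yn E.θ i t' := by
  obtain ⟨t', ht', e⟩ := param_Yn E (om_RS (neg_lists i).2.2.1 (Xp_mem_RS E.θ i t))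
    (om_mem E (Xp_mem E ht))
  refine ⟨t', ht', fun h h' => h ?_, e⟩
  rw [h', Yn_zero] at e
  exact Xp_inj E ((map_eq_one_iff (om (K := K)) (om (K := K)).injective).1 e)

end Cfsg.Agent.Involutions.ClassSquare.D4
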