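import Cfsg.Agent.Lib.Chevalley.Twist.InvolD4
import Cfsg.Agent.Lib.Involutions.ClassSquare.D4Group

/-!
Explicit conjugations in a triality twisted group of characteristic two.
-/

set_option autoImplicit false
set_option linter.unusedSectionVars false
set_option linter.unusedSimpArgs false

namespace Cfsg.Agent.Involutions.ClassSquare.D4

open Cfsg.Lie Cfsg.Agent.Chevalley Cfsg.Agent.Chevalley.Cert Cfsg.Agent.Chevalley.Group
  Cfsg.Agent.Chevalley.Table Cfsg.Agent.Chevalley.Unip Cfsg.Agent.Chevalley.Bruhat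
  Cfsg.Agent.Chevalley.Borel Cfsg.Agent.Chevalley.Twist.D4

variable {K : Type*} [Field K] [Fintype K] [CharP K 2] (E : Env K)

local notation "GG" => GL chevD4.Idx K

theorem xx_inv2 (r : ℕ) (a : K) : (xx r a : GG)⁻¹ = xx r a := Twist.CharTwo.xg_inv_self r a

theorem Xp_inv2 (i : Fin 2) (a : K) : (Xp E.θ i a : GG)⁻¹ = Xp E.θ i a := by
  rw [Xp_inv, Twist.CharTwo.neg_eq]

theorem nJ0_conj {r : ℕ} (hr : r < 24) (a : K) :
    nL hC K (Jw 0) * xx r a * (nL hC K (Jw 0))⁻¹ = xx (wL chevD4 (Jw 0) r) a :=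
  Twist.CharTwo.nL_conj (Jw_lt 0) (lt24 hr) a

theorem nJ1_conj {r : ℕ} (hr : r < 24) (a : K) :
    nL hC K (Jw 1) * xx r a * (nL hC K (Jw 1))⁻¹ = xx (wL chevD4 (Jw 1) r) a :=
  Twist.CharTwo.nL_conj (Jw_lt 1) (lt24 hr) a

theorem om_two {r : ℕ} (hr : r < 24) (a : K) : om (xx r a) = (xx (chevD4.neg r) a : GG) := by
  rw [om_apply, ← wL_w0 r hr]
  exact Twist.CharTwo.nL_conj w0_lt (lt24 hr) a

theorem w_vals : wL chevD4 (Jw 0) 14 = 22 ∧ wL chevD4 (Jw 0) 22 = 14 ∧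
    wL chevD4 (Jw 0) 19 = 17 ∧ wL chevD4 (Jw 0) 16 = 20 ∧ wL chevD4 (Jw 0) 15 = 21 ∧
    wL chevD4 (Jw 0) 17 = 19 ∧ wL chevD4 (Jw 0) 20 = 16 ∧ wL chevD4 (Jw 0) 21 = 15 ∧
    wL chevD4 (Jw 0) 23 = 23 ∧ wL chevD4 (Jw 0) 0 = 0 ∧
    wL chevD4 (Jw 0) 18 = 5 ∧ wL chevD4 (Jw 0) 13 = 10 ∧ wL chevD4 (Jw 0) 12 = 11 ∧
    wL chevD4 (Jw 1) 0 = 1 ∧ wL chevD4 (Jw 1) 23 = 22 ∧
    wL chevD4 (Jw 1) 18 = 19 ∧ wL chevD4 (Jw 1) 13 = 16 ∧ wL chevD4 (Jw 1) 12 = 15 := by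
  decide +kernel

theorem neg_vals : chevD4.neg 14 = 9 ∧ chevD4.neg 18 = 5 ∧ chevD4.neg 13 = 10 ∧
    chevD4.neg 12 = 11 ∧ chevD4.neg 19 = 4 ∧ chevD4.neg 16 = 7 ∧ chevD4.neg 15 = 8 ∧
    chevD4.neg 17 = 6 ∧ chevD4.neg 20 = 3 ∧ chevD4.neg 21 = 2 ∧ chevD4.neg 22 = 1 ∧
    chevD4.neg 23 = 0 ∧ chevD4.neg 5 = 18 ∧ chevD4.neg 10 = 13 ∧ chevD4.neg 11 = 12 ∧
    chevD4.neg 0 = 23 := by decide +kernel

theorem om_Xp2 (a : K) : om (Xp E.θ 0 a) = (Yn E.θ 0 a : GG) := by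
  obtain ⟨-, n18, n13, n12, -⟩ := neg_vals
  rw [Xp0, Yn0, map_mul, map_mul, om_two (by norm_num), om_two (by norm_num),
    om_two (by norm_num), n18, n13, n12]

theorem om_Yn2 (a : K) : om (Yn E.θ 0 a) = (Xp E.θ 0 a : GG) := by
  obtain ⟨-, -, -, -, -, -, -, -, -, -, -, -, n5, n10, n11, -⟩ := neg_vals
  rw [Xp0, Yn0, map_mul, map_mul, om_two (by norm_num), om_two (by norm_num),
    om_two (by norm_num), n5, n10, n11]

theorem nJ0_Xp (a : K) :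
    nL hC K (Jw 0) * Xp E.θ 0 a * (nL hC K (Jw 0))⁻¹ = (Yn E.θ 0 a : GG) := by
  obtain ⟨-, -, -, -, -, -, -, -, -, -, w18, w13, w12, -⟩ := w_vals
  have h1 := nJ0_conj (K := K) (r := 18) (by norm_num) a
  have h2 := nJ0_conj (K := K) (r := 13) (by norm_num) (E.θ a)
  have h3 := nJ0_conj (K := K) (r := 12) (by norm_num) (E.θ (E.θ a))
  rw [w18] at h1; rw [w13] at h2; rw [w12] at h3
  rw [Xp0, Yn0, ← h1, ← h2, ← h3]
  group

theorem Xp0_eq (a : K) : (Xp E.θ 0 a : GG) = Invol.Pt E.θ 0 a 0 0 0 0 := by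
  simp [Xp0, Invol.Pt, Collect.P, xg_zero hC]

theorem coords {p : GG} (hp : p ∈ RS K (Rp 0)) (hG : p ∈ E.G) :
    ∃ b c d e f : K, E.θ b = b ∧ E.θ e = e ∧ E.θ f = f ∧ p = Invol.Pt E.θ b 0 c d e f := by
  obtain ⟨b, a, c, d, e, f, hb, he, hf, rfl⟩ :=
    Invol.exists_Pt E.X E.θ E.hθ E.hq (RS_Rp_le_U 0 hp) hG
  suffices ha : a = 0 by subst ha; exact ⟨b, c, d, e, f, hb, he, hf, rfl⟩
  apply Xp_inj E (i := 0)
  have hsplit : Invol.Pt E.θ b a c d e f =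
      xx 14 b * Xp E.θ 0 a * (xx 19 c * (xx 16 (E.θ c) * (xx 15 (E.θ (E.θ c)) * (xx 17 d *
        (xx 20 (E.θ d) * (xx 21 (E.θ (E.θ d)) * (xx 22 e * xx 23 f))))))) := by
    simp [Invol.Pt, Collect.P, Xp0, mul_assoc]
  rw [hsplit] at hp
  refine RS_inf (Jw_lt 0) (sep_ok 0).1 (sep_ok 0).2.1 (Xp_mem_RS E.θ 0 a) ?_
  have h14 : ∀ r ∈ [14, 19, 16, 15, 17, 20, 21, 22, 23], ∀ u : K, xx r u ∈ RS K (Rp 0) :=
    fun r hr u => xx_mem_RS ((show ∀ r ∈ [14, 19, 16, 15, 17, 20, 21, 22, 23], r ∈ Rp 0 by decide)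
      r hr) u
  have := mul_mem (mul_mem (inv_mem (h14 14 (by simp) b)) hp) (inv_mem
    (mul_mem (h14 19 (by simp) c) (mul_mem (h14 16 (by simp) (E.θ c))
      (mul_mem (h14 15 (by simp) (E.θ (E.θ c))) (mul_mem (h14 17 (by simp) d)
        (mul_mem (h14 20 (by simp) (E.θ d)) (mul_mem (h14 21 (by simp) (E.θ (E.θ d)))
          (mul_mem (h14 22 (by simp) e) (h14 23 (by simp) f)))))))))
  simpa [mul_assoc] using this

theorem conj_coords (a c d e f : K) :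
    Xp E.θ 0 a * Invol.Pt E.θ 0 0 c d e f * (Xp E.θ 0 a)⁻¹ =
      Invol.Pt E.θ 0 0 c (d + (E.θ a * E.θ (E.θ c) + E.θ (E.θ a) * E.θ c))
        (e + a * d + E.θ a * (E.θ d + a * E.θ (E.θ c)) +
          E.θ (E.θ a) * (E.θ (E.θ d) + a * E.θ c + E.θ a * c))
        (f + a * E.θ c * E.θ (E.θ c) + E.θ a * c * E.θ (E.θ c) + E.θ (E.θ a) * c * E.θ c) := by
  rw [Xp_inv2]
  have h : Xp E.θ 0 a * Invol.Pt E.θ 0 0 c d e f =
      Collect.P 0 a (E.θ a) (E.θ (E.θ a)) c (E.θ c) (E.θ (E.θ c)) d (E.θ d) (E.θ (E.θ d)) e f := by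
    simp [Xp0, Invol.Pt, Collect.P, xg_zero hC, mul_assoc]
  rw [h, Xp0, ← mul_assoc, ← mul_assoc, Collect.P_mul18, Collect.P_mul13, Collect.P_mul12]
  simp only [Invol.Pt, map_add, map_mul, map_zero, θ3 E, _root_.CharTwo.add_self_eq_zero]
  congr 1 <;> ring

/-- The negative roots below the two lowest levels. -/
def N2 : List ℕ := [6, 3, 2, 1, 0]

theorem N2_ok : CommOK N2 14 ∧ (∀ r ∈ N2, r ∈ Rn 0) ∧
    (∀ p ∈ [(4, 7), (4, 8), (7, 8), (9, 0), (8, 0), (7, 0), (4, 0)],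
      p.2 ≠ p.1 ∧ p.2 ≠ chevD4.neg p.1 ∧ chevD4.commTerms p.1 p.2 = []) ∧
    chevD4.commTerms 14 4 = [(5, (-1 : ℤ), 1, 1)] ∧ chevD4.commTerms 14 7 = [(10, (1 : ℤ), 1, 1)] ∧
    chevD4.commTerms 14 8 = [(11, (1 : ℤ), 1, 1)] ∧
    chevD4.commTerms 23 9 = [(22, (-1 : ℤ), 1, 1)] ∧
    chevD4.commTerms 22 0 = [(9, (1 : ℤ), 1, 1)] := by decide +kernel

theorem conj_one {r s k : ℕ} {z : ℤ} (hr : r < 24) (hs : s < 24) (hsr : s ≠ r)
    (hsn : s ≠ chevD4.neg r) (hz : z = 1 ∨ z = -1) (h : chevD4.commTerms r s = [(k, z, 1, 1)])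
    (a b : K) : xx r a * xx s b * (xx r a)⁻¹ = (xx s b * xx k (a * b) : GG) := by
  rw [conj_expand hr hs hsr hsn]
  simp only [ChevalleyDatum.commWord, h, List.map_cons, List.map_nil, List.prod_cons, List.prod_nil,
    mul_one]
  rcases hz with rfl | rfl <;> simp [Twist.CharTwo.neg_eq]

/-- The image of a coordinate vector under the longest element after the outer reflection. -/
theorem mirror_coords (c d e f : K) :
    ∃ R ∈ RS K N2, om (nL hC K (Jw 0) * (Invol.Pt E.θ 0 0 c d e f)⁻¹ * (nL hC K (Jw 0))⁻¹) =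
      (xx 9 e * (xx 4 d * (xx 7 (E.θ d) * xx 8 (E.θ (E.θ d)))) * R : GG) := by
  obtain ⟨-, w22, w19, w16, w15, w17, w20, w21, w23, -⟩ := w_vals
  obtain ⟨n14, -, -, -, n19, n16, n15, n17, n20, n21, -, n23, -⟩ := neg_vals
  have hm : ∀ r < 24, ∀ u : K, om (nL hC K (Jw 0) * xx r u * (nL hC K (Jw 0))⁻¹) =
      (xx (chevD4.neg (wL chevD4 (Jw 0) r)) u : GG) := fun r hr u => by
    rw [nJ0_conj hr, om_two (wL_lt hC (Jw_lt 0) (lt24 hr))]
  have e0 : om (nL hC K (Jw 0) * (Invol.Pt E.θ 0 0 c d e f)⁻¹ * (nL hC K (Jw 0))⁻¹) =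
      (xx 0 f * (xx 9 e * (xx 8 (E.θ (E.θ d)) * (xx 7 (E.θ d) * (xx 4 d *
        (xx 2 (E.θ (E.θ c)) * (xx 3 (E.θ c) * xx 6 c)))))) : GG) := by
    have ep : (Invol.Pt E.θ 0 0 c d e f)⁻¹ = (xx 23 f * (xx 22 e * (xx 21 (E.θ (E.θ d)) *
        (xx 20 (E.θ d) * (xx 17 d * (xx 15 (E.θ (E.θ c)) * (xx 16 (E.θ c) * xx 19 c)))))) : GG) := by
      simp [Invol.Pt, Collect.P, xg_zero hC, mul_inv_rev, mul_assoc, xx_inv2]
    rw [ep, show ∀ n a b c d e f g h : GG, n * (a * (b * (c * (d * (e * (f * (g * h))))))) * n⁻¹ =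
      (n * a * n⁻¹) * ((n * b * n⁻¹) * ((n * c * n⁻¹) * ((n * d * n⁻¹) * ((n * e * n⁻¹) *
        ((n * f * n⁻¹) * ((n * g * n⁻¹) * (n * h * n⁻¹))))))) from
      fun n a b c d e f g h => by group]
    simp only [map_mul, hm 23 (by norm_num), hm 22 (by norm_num), hm 21 (by norm_num),
      hm 20 (by norm_num), hm 17 (by norm_num), hm 15 (by norm_num), hm 16 (by norm_num),
      hm 19 (by norm_num), w22, w19, w16, w15, w17, w20, w21, w23, n14, n19, n16, n15, n17, n20,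
      n21, n23]
  have cm : ∀ r s, (r, s) ∈ [(4, 7), (4, 8), (7, 8), (9, 0), (8, 0), (7, 0), (4, 0)] →
      ∀ u w : K, Commute (xx r u : GG) (xx s w) := by
    intro r s h u w
    obtain ⟨h1, h2, h3⟩ := N2_ok.2.2.1 (r, s) h
    exact xx_comm_of_nil ((show ∀ p ∈ [(4, 7), (4, 8), (7, 8), (9, 0), (8, 0), (7, 0), (4, 0)],
      p.1 < 24 by decide) (r, s) h) ((show ∀ p ∈ [(4, 7), (4, 8), (7, 8), (9, 0), (8, 0), (7, 0),
        (4, 0)], p.2 < 24 by decide) (r, s) h) h1 h2 h3 u w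
  refine ⟨xx 0 f * (xx 2 (E.θ (E.θ c)) * (xx 3 (E.θ c) * xx 6 c)),
    mul_mem (xx_mem_RS (by decide) _) (mul_mem (xx_mem_RS (by decide) _)
      (mul_mem (xx_mem_RS (by decide) _) (xx_mem_RS (by decide) _))), ?_⟩
  rw [e0]
  have c1 : Commute (xx 9 e * (xx 4 d * (xx 7 (E.θ d) * xx 8 (E.θ (E.θ d)))) : GG) (xx 0 f) :=
    (cm 9 0 (by simp) _ _).mul_left ((cm 4 0 (by simp) _ _).mul_left
      ((cm 7 0 (by simp) _ _).mul_left (cm 8 0 (by simp) _ _)))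
  have e1 : xx 8 (E.θ (E.θ d)) * (xx 7 (E.θ d) * xx 4 d) =
      (xx 4 d * (xx 7 (E.θ d) * xx 8 (E.θ (E.θ d))) : GG) := by
    rw [← (cm 4 7 (by simp) d (E.θ d)).eq, ← mul_assoc, ← (cm 4 8 (by simp) d _).eq, mul_assoc,
      ← (cm 7 8 (by simp) (E.θ d) _).eq]
  rw [← mul_assoc _ (xx 0 f), c1.eq, ← e1]
  simp only [mul_assoc]

/-- Conjugating the two lowest levels by the long fundamental root group. -/
theorem conj_E {ρ e : K} (hρ : E.θ ρ = ρ) {R : GG} (hR : R ∈ RS K N2) :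
    ∃ W ∈ RS K (Rn 0),
      xx 14 ρ * (xx 4 e * (xx 7 (E.θ e) * xx 8 (E.θ (E.θ e))) * R) * (xx 14 ρ)⁻¹ =
        W * Yn E.θ 0 (ρ * e) := by
  obtain ⟨ok14, hsub, -, t4, t7, t8, -⟩ := N2_ok
  have h4 := conj_one (K := K) (r := 14) (s := 4) (by norm_num) (by norm_num) (by norm_num)
    (by decide) (Or.inr rfl) t4 ρ e
  have h7 := conj_one (K := K) (r := 14) (s := 7) (by norm_num) (by norm_num) (by norm_num)
    (by decide) (Or.inl rfl) t7 ρ (E.θ e)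
  have h8 := conj_one (K := K) (r := 14) (s := 8) (by norm_num) (by norm_num) (by norm_num)
    (by decide) (Or.inl rfl) t8 ρ (E.θ (E.θ e))
  have hA : ∀ r ∈ [5, 10, 11], ∀ u : K, xx r u ∈ RS K (Ps 0 ++ Ns 0) := fun r hr u =>
    xx_mem_RS ((show ∀ r ∈ [5, 10, 11], r ∈ Ps 0 ++ Ns 0 by decide) r hr) u
  have hn : ∀ r ∈ [4, 7, 8], ∀ u : K, xx r u ∈ RS K (Rn 0) := fun r hr u =>
    xx_mem_RS ((show ∀ r ∈ [4, 7, 8], r ∈ Rn 0 by decide) r hr) u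
  have hR' : xx 14 ρ * R * (xx 14 ρ)⁻¹ ∈ RS K (Rn 0) :=
    RS_mono hsub (xx_conj_RS ok14 ρ hR)
  generalize hA5 : (xx 5 (ρ * e) : GG) = A at h4
  generalize hB : (xx 10 (ρ * E.θ e) : GG) = B at h7
  generalize hC' : (xx 11 (ρ * E.θ (E.θ e)) : GG) = C at h8
  have mA : A ∈ RS K (Ps 0 ++ Ns 0) := hA5 ▸ hA 5 (by simp) _
  have mB : B ∈ RS K (Ps 0 ++ Ns 0) := hB ▸ hA 10 (by simp) _
  have mC : C ∈ RS K (Ps 0 ++ Ns 0) := hC' ▸ hA 11 (by simp) _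
  refine ⟨xx 4 e * (A * xx 7 (E.θ e) * A⁻¹) * (A * B * xx 8 (E.θ (E.θ e)) * (A * B)⁻¹) *
      (A * B * C * (xx 14 ρ * R * (xx 14 ρ)⁻¹) * (A * B * C)⁻¹),
    mul_mem (mul_mem (mul_mem (hn 4 (by simp) e) (conj_Rn mA (hn 7 (by simp) _)))
      (conj_Rn (mul_mem mA mB) (hn 8 (by simp) _))) (conj_Rn (mul_mem (mul_mem mA mB) mC) hR'), ?_⟩
  have eY : (Yn E.θ 0 (ρ * e) : GG) = A * B * C := by
    rw [Yn0, map_mul, map_mul, hρ, hρ, hA5, hB, hC', mul_assoc]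
  rw [eY]
  calc _ = (xx 14 ρ * xx 4 e * (xx 14 ρ)⁻¹) * (xx 14 ρ * xx 7 (E.θ e) * (xx 14 ρ)⁻¹) *
        (xx 14 ρ * xx 8 (E.θ (E.θ e)) * (xx 14 ρ)⁻¹) * (xx 14 ρ * R * (xx 14 ρ)⁻¹) := by group
    _ = _ := by rw [h4, h7, h8]; group

/-- The defect of the middle coordinate is not confined to the fixed field. -/
theorem exists_unfixed {c : K} (hc : c ≠ 0) (d : K) :
    ∃ a : K, E.θ (d + (E.θ a * E.θ (E.θ c) + E.θ (E.θ a) * E.θ c)) ≠
      d + (E.θ a * E.θ (E.θ c) + E.θ (E.θ a) * E.θ c) := by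
  classical
  by_contra hcon
  push Not at hcon
  let f : K →+ K :=
    { toFun := fun a => E.θ a * E.θ (E.θ c) + E.θ (E.θ a) * E.θ c
      map_zero' := by simp
      map_add' := fun x y => by simp only [map_add]; ring }
  have hd : E.θ d = d := by simpa using hcon 0
  have hrange : ∀ y ∈ f.range, y ^ E.q = y := by
    rintro _ ⟨a, rfl⟩
    have h := hcon a
    rw [map_add, hd] at h
    rw [← E.hθ]
    exact add_left_cancel h
  have hker : ∀ a ∈ f.ker, (a / c) ^ E.q = a / c := by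
    intro a ha
    rw [← E.hθ]
    refine E.θ.injective ?_
    have h : E.θ a * E.θ (E.θ c) + E.θ (E.θ a) * E.θ c = 0 := ha
    have h' := _root_.CharTwo.add_eq_zero.1 h
    simp only [map_div₀]
    rw [div_eq_div_iff ((map_ne_zero _).2 ((map_ne_zero _).2 hc)) ((map_ne_zero _).2 hc)]
    exact h'.symm
  have hcard := Twist.card_powfix (K := K) E.hq.two_le E.hK
  have h1 : Nat.card f.range ≤ E.q := by
    rw [← hcard]
    refine Nat.card_le_card_of_injective (fun y => ⟨y.1, hrange _ y.2⟩) fun y z h => ?_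
    have h' := congrArg Subtype.val h
    exact Subtype.ext h'
  have h2 : Nat.card f.ker ≤ E.q := by
    rw [← hcard]
    refine Nat.card_le_card_of_injective (fun a => ⟨a.1 / c, hker _ a.2⟩) fun y z h => ?_
    have := congrArg Subtype.val h
    exact Subtype.ext ((div_left_inj' hc).1 this)
  have hmul : Nat.card f.ker * Nat.card f.range = E.q ^ 3 := by
    rw [← E.hK, ← Nat.card_eq_fintype_card, ← AddSubgroup.index_ker, AddSubgroup.card_mul_index]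
  have h3 := Nat.mul_le_mul h2 h1
  have h4 := Nat.mul_le_mul_left (E.q * E.q) E.hq.two_le
  have hq0 : 0 < E.q * E.q := Nat.mul_pos (by have := E.hq.two_le; omega) (by have := E.hq.two_le; omega)
  rw [hmul, show E.q ^ 3 = E.q * E.q * E.q by ring] at h3
  omega

end Cfsg.Agent.Involutions.ClassSquare.D4
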