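import Cfsg.Agent.Lib.Involutions.ClassSquare.D4Twist
import Cfsg.Agent.Lib.Involutions.ClassSquare.D4Moves

/-!
Every element of `³D₄(q)`, `q ≥ 3`, is conjugate to a product with a covered middle factor.
-/

set_option autoImplicit false
set_option linter.unusedSectionVars false

open scoped Matrix

namespace Cfsg.Agent.Involutions.ClassSquare.D4

open Cfsg.Lie Cfsg.Agent.Chevalley Cfsg.Agent.Chevalley.Cert Cfsg.Agent.Chevalley.Group
  Cfsg.Agent.Chevalley.Table Cfsg.Agent.Chevalley.Unip Cfsg.Agent.Chevalley.Bruhat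
  Cfsg.Agent.Chevalley.Borel Cfsg.Agent.Chevalley.Twist.D4

variable {K : Type*} [Field K] [Fintype K] {E : Env K} {δ t : K}

local notation "GG" => GL chevD4.Idx K
local notation "M2" => Matrix (Fin 2) (Fin 2) K
local notation "det'" => Matrix.GeneralLinearGroup.det

theorem one_of_ne_zero {i : Fin 2} (h : i ≠ 0) : i = 1 := by omega

/-! ### Shifts -/

theorem shift {i : Fin 2} {c : K} (hc : c ≠ 0) (hcP : Par E i c) {w h u : GG}
    (hw : w ∈ RS K (Rn i)) (gw : w ∈ E.G) (hh : h ∈ chevD4.diagonalSubgroup K) (gh : h ∈ E.G)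
    (hu : u ∈ chevD4.posUnipotent K) (gu : u ∈ E.G) {s : Kˣ} (hsP : Par E i (s : K)) :
    ∃ a ∈ E.G, ∃ v ∈ chevD4.negUnipotent K, v ∈ E.G ∧ ∃ u' ∈ chevD4.posUnipotent K, u' ∈ E.G ∧
      a * (Yn E.θ i c * w * h * u) * a⁻¹ = v * (th E.θ i s * h) * u' ∧
      (i = 1 → u ∈ RS K (Rp 0) → u' ∈ RS K (Rp 0)) := by
  obtain ⟨r, hr⟩ : ∃ r : K, r = ((s : K) - 1) / c := ⟨_, rfl⟩
  have hrP : Par E i r := fun hi => by rw [hr, map_div₀, map_sub, map_one, hsP hi, hcP hi]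
  have hs : (s : K) = 1 + r * c := by rw [hr, div_mul_cancel₀ _ hc]; ring
  have hs0 : 1 + r * c ≠ 0 := hs ▸ s.ne_zero
  have e := Xp_Yn E.θ i hs0
  rw [show (Units.mk0 _ hs0 : Kˣ) = s from Units.ext hs.symm] at e
  obtain ⟨ρ, hρ⟩ : ∃ ρ : K, ρ = r / (1 + r * c) := ⟨_, rfl⟩
  rw [← hρ] at e
  have hρP : Par E i ρ := fun hi => by
    rw [hρ, ← hs, map_div₀, hrP hi, hsP hi]
  have hcP' : Par E i (c / (1 + r * c)) := fun hi => by
    rw [← hs, map_div₀, hcP hi, hsP hi]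
  have hX : h⁻¹ * Xp E.θ i ρ * h ∈ chevD4.posUnipotent K := by
    simpa using H_conj_U (inv_mem hh) (Xp_mem_U E i ρ)
  have gX : h⁻¹ * Xp E.θ i ρ * h ∈ E.G := mul_mem (mul_mem (inv_mem gh) (Xp_mem E hρP)) gh
  refine ⟨Xp E.θ i r, Xp_mem E hrP,
    Yn E.θ i (c / (1 + r * c)) * (th E.θ i s *
      (Xp E.θ i ρ * w * (Xp E.θ i ρ)⁻¹) * (th E.θ i s)⁻¹),
    mul_mem (Yn_mem_V E i _) (RS_Rn_le_V i (H_conj_Rn i (th_mem_H E i s)
      (conj_Rn (Ps_le i (Xp_mem_RS E.θ i ρ)) hw))),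
    mul_mem (Yn_mem E hcP') (mul_mem (mul_mem (th_mem E hsP)
      (mul_mem (mul_mem (Xp_mem E hρP) gw) (inv_mem (Xp_mem E hρP)))) (inv_mem (th_mem E hsP))),
    h⁻¹ * Xp E.θ i ρ * h * u * (Xp E.θ i r)⁻¹,
    mul_mem (mul_mem hX hu) (inv_mem (Xp_mem_U E i r)),
    mul_mem (mul_mem gX gu) (inv_mem (Xp_mem E hrP)), ?_, fun hi hu0 => ?_⟩
  · calc _ = (Xp E.θ i r * Yn E.θ i c) * w * h * u * (Xp E.θ i r)⁻¹ := by group
      _ = _ := by rw [e]; group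
  · subst hi
    have hm : ∀ a : K, Xp E.θ 1 a ∈ RS K (Rp 0) := fun a => by
      rw [Xp1]; exact xx_mem_RS (by decide) _
    refine mul_mem (mul_mem ?_ hu0) (inv_mem (hm r))
    simpa using H_conj_Rp 0 (inv_mem hh) (hm ρ)

/-- The character of a negative orbit. -/
def nu (θ : K →+* K) (i : Fin 2) (a b : Kˣ) : K :=
  if i = 0 then (b : K) / ((a : K) * a) else (a : K) * θ a * θ (θ a) / ((b : K) * b)

theorem chi_vals (θ : K →+* K) (a b : Kˣ) :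
    chi θ a b 5 = (b : K) / ((a : K) * a) ∧ chi θ a b 10 = (b : K) / (θ (a : K) * θ a) ∧
      chi θ a b 11 = (b : K) / (θ (θ (a : K)) * θ (θ a)) ∧
      chi θ a b 9 = (a : K) * θ a * θ (θ a) / ((b : K) * b) := by
  have hc : (∀ j < 4, chevD4.cartan j 5 = [-2, 1, 0, 0].getD j 0) ∧
      (∀ j < 4, chevD4.cartan j 10 = [0, 1, -2, 0].getD j 0) ∧
      (∀ j < 4, chevD4.cartan j 11 = [0, 1, 0, -2].getD j 0) ∧
      (∀ j < 4, chevD4.cartan j 9 = [1, -2, 1, 1].getD j 0) := by decide +kernel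
  obtain ⟨h5, h10, h11, h9⟩ := hc
  refine ⟨?_, ?_, ?_, ?_⟩ <;>
    simp only [chi, torChar, simple_vals.2.2.2.2, Finset.prod_range_succ, Finset.prod_range_zero,
      one_mul, Twist.D4.dvec, show (0 : ℕ) ≠ 1 by decide, show (2 : ℕ) ≠ 1 by decide,
      show (3 : ℕ) ≠ 1 by decide, show (2 : ℕ) ≠ 0 by decide, show (3 : ℕ) ≠ 0 by decide,
      show (3 : ℕ) ≠ 2 by decide, if_true, if_false]
  · rw [h5 0 (by norm_num), h5 1 (by norm_num), h5 2 (by norm_num), h5 3 (by norm_num)]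
    simp [zpow_neg, zpow_ofNat]
    field_simp
  · rw [h10 0 (by norm_num), h10 1 (by norm_num), h10 2 (by norm_num), h10 3 (by norm_num)]
    simp [zpow_neg, zpow_ofNat, Twist.D4.Θu]
    field_simp
  · rw [h11 0 (by norm_num), h11 1 (by norm_num), h11 2 (by norm_num), h11 3 (by norm_num)]
    simp [zpow_neg, zpow_ofNat, Twist.D4.Θu]
    field_simp
  · rw [h9 0 (by norm_num), h9 1 (by norm_num), h9 2 (by norm_num), h9 3 (by norm_num)]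
    simp [zpow_neg, zpow_ofNat, Twist.D4.Θu]
    field_simp

theorem tt_Yn (i : Fin 2) (a b : Kˣ) (hb : E.θ (b : K) = b) (z : K) :
    tt E.θ a b * Yn E.θ i z * (tt E.θ a b)⁻¹ = (Yn E.θ i (nu E.θ i a b * z) : GG) := by
  obtain ⟨h5, h10, h11, h9⟩ := chi_vals E.θ a b
  fin_cases i
  · show tt E.θ a b * Yn E.θ 0 z * _ = Yn E.θ 0 (nu E.θ 0 a b * z)
    have c5 := tt_conj E.θ a b 5 (by norm_num) z
    have c10 := tt_conj E.θ a b 10 (by norm_num) (E.θ z)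
    have c11 := tt_conj E.θ a b 11 (by norm_num) (E.θ (E.θ z))
    rw [h5] at c5; rw [h10] at c10; rw [h11] at c11
    rw [Yn0, Yn0, nu, if_pos rfl]
    simp only [map_mul, map_div₀, hb]
    rw [← c5, ← c10, ← c11]
    group
  · show tt E.θ a b * Yn E.θ 1 z * _ = Yn E.θ 1 (nu E.θ 1 a b * z)
    rw [Yn1, Yn1, tt_conj E.θ a b 9 (by norm_num), h9, nu, if_neg (by decide)]

theorem nu_fix {i : Fin 2} {a b : Kˣ} (hb : E.θ (b : K) = b) : Par E i (nu E.θ i a b) := by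
  intro hi
  subst hi
  rw [nu, if_neg (by decide), map_div₀, map_mul, map_mul, map_mul, θ3 E, hb]
  ring

theorem cov_shift {x : GG} (hx : Cj E x x⁻¹) {i : Fin 2} {a b : Kˣ} (hb : E.θ (b : K) = b)
    (hne : nu E.θ i a b ≠ 1) {s : Kˣ} (hsP : Par E i (s : K))
    (H : ∀ v ∈ chevD4.negUnipotent K, v ∈ E.G → ∀ u ∈ chevD4.posUnipotent K, u ∈ E.G →
      Cov E x (v * (th E.θ i s * tt E.θ a b) * u))
    {v u : GG} (hv : v ∈ chevD4.negUnipotent K) (gv : v ∈ E.G) (hu : u ∈ chevD4.posUnipotent K)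
    (gu : u ∈ E.G) : Cov E x (v * tt E.θ a b * u) := by
  have key : ∀ {c : K}, c ≠ 0 → Par E i c → ∀ {w u : GG}, w ∈ RS K (Rn i) → w ∈ E.G →
      u ∈ chevD4.posUnipotent K → u ∈ E.G → Cov E x (Yn E.θ i c * w * tt E.θ a b * u) := by
    intro c hc hcP w u hw gw hu gu
    obtain ⟨y, hy, v', hv', gv', u', hu', gu', e, -⟩ :=
      shift hc hcP hw gw (tt_mem_H E.θ a b) (tt_mem E a hb) hu gu hsP
    exact Cov.of_conj E hy (e ▸ H v' hv' gv' u' hu' gu')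
  obtain ⟨c, hcP, w, hw, gw, rfl⟩ := V_left E i hv gv
  by_cases hc : c = 0
  swap
  · exact key hc hcP hw gw hu gu
  rw [hc, Yn_zero, one_mul]
  obtain ⟨d, hdP, p, hp, gp, rfl⟩ := U_left E i hu gu
  by_cases hd : d = 0
  swap
  · refine Cov.of_mirror E hx ?_
    obtain ⟨d', hd'P, hd'0, he⟩ := om_Xp E (i := i) (t := -d) (fun hi => by rw [map_neg, hdP hi])
    have e : om (w * tt E.θ a b * (Xp E.θ i d * p))⁻¹ =
        om p⁻¹ * Yn E.θ i d' * tt E.θ a b * om w⁻¹ := by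
      rw [mul_inv_rev, mul_inv_rev, mul_inv_rev, Xp_inv, map_mul, map_mul, map_mul, he,
        map_inv om (tt E.θ a b), om_tt, inv_inv]
      simp only [mul_assoc]
    rw [e, show om p⁻¹ * Yn E.θ i d' =
      Yn E.θ i d' * ((Yn E.θ i d')⁻¹ * om p⁻¹ * Yn E.θ i d') by group]
    refine key (hd'0 (neg_ne_zero.2 hd)) hd'P ?_ ?_ (RS_Rp_le_U i (om_Rn i (inv_mem hw)))
      (om_mem E (inv_mem gw))
    · have := conj_Rn (inv_mem (Ns_le i (Yn_mem_RS E.θ i d'))) (om_Rp i (inv_mem hp))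
      rwa [inv_inv] at this
    · exact mul_mem (mul_mem (inv_mem (Yn_mem E hd'P)) (om_mem E (inv_mem gp))) (Yn_mem E hd'P)
  rw [hd, Xp_zero, one_mul]
  set χ : K := nu E.θ i a b with hχ
  have hχP : Par E i χ := nu_fix hb
  refine Cov.of_conj E (Yn_mem E (i := i) (t := 1) fun _ => map_one _) ?_
  have hz := tt_Yn (E := E) i a b hb (-1)
  rw [← hχ] at hz
  have hN : Yn E.θ i (1 - χ) = Yn E.θ i 1 *
      (tt E.θ a b * Yn E.θ i (-1) * (tt E.θ a b : GG)⁻¹) := by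
    rw [hz, ← Yn_add]
    congr 1
    ring
  have hzG : Yn E.θ i (χ * -1) ∈ E.G := Yn_mem E fun hi => by rw [map_mul, map_neg, map_one, hχP hi]
  have hw' : (tt E.θ a b * Yn E.θ i (-1) * (tt E.θ a b : GG)⁻¹)⁻¹ * w *
      (tt E.θ a b * Yn E.θ i (-1) * (tt E.θ a b : GG)⁻¹) ∈ RS K (Rn i) := by
    rw [hz]
    simpa using conj_Rn (inv_mem (Ns_le i (Yn_mem_RS E.θ i (χ * -1)))) hw
  have gw' : (tt E.θ a b * Yn E.θ i (-1) * (tt E.θ a b : GG)⁻¹)⁻¹ * w *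
      (tt E.θ a b * Yn E.θ i (-1) * (tt E.θ a b : GG)⁻¹) ∈ E.G := by
    rw [hz]
    exact mul_mem (mul_mem (inv_mem hzG) gw) hzG
  have h1P : Par E i (1 : K) := fun _ => map_one _
  have := key (c := 1 - χ) (sub_ne_zero.2 (Ne.symm hne))
    (fun hi => by rw [map_sub, map_one, hχP hi]) hw' gw'
    (RS_Rp_le_U i (conj_Rp (Ns_le i (Yn_mem_RS E.θ i 1)) hp))
    (mul_mem (mul_mem (Yn_mem E h1P) gp) (inv_mem (Yn_mem E h1P)))
  rw [hN] at this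
  refine (congrArg (Cov E x) ?_).mp this
  rw [show Yn E.θ i (-1 : K) = (Yn E.θ i 1)⁻¹ from (Yn_inv _ _ _).symm]
  group

theorem main_cases {x : GG} (hx : Cj E x x⁻¹)
    (H : ∀ v ∈ chevD4.negUnipotent K, v ∈ E.G → ∀ u ∈ chevD4.posUnipotent K, u ∈ E.G → ∀ a : Kˣ,
      Cov E x (v * tt E.θ a 1 * u)) {v u : GG} (hv : v ∈ chevD4.negUnipotent K) (gv : v ∈ E.G)
    (hu : u ∈ chevD4.posUnipotent K) (gu : u ∈ E.G) (a b : Kˣ) (hb : E.θ (b : K) = b) :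
    Cov E x (v * tt E.θ a b * u) := by
  have hb_case : ∀ a b : Kˣ, E.θ (b : K) = b → (b : K) * b ≠ (a : K) * E.θ a * E.θ (E.θ a) →
      ∀ v ∈ chevD4.negUnipotent K, v ∈ E.G → ∀ u ∈ chevD4.posUnipotent K, u ∈ E.G →
        Cov E x (v * tt E.θ a b * u) := by
    intro a b hb hab v hv gv u hu gu
    refine cov_shift hx (i := 1) hb ?_ (s := b⁻¹)
      (fun _ => by rw [Units.val_inv_eq_inv_val, map_inv₀, hb]) (fun v hv gv u hu gu => ?_)
      hv gv hu gu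
    · rw [nu, if_neg (by decide)]
      intro h
      apply hab
      rw [div_eq_one_iff_eq (mul_ne_zero b.ne_zero b.ne_zero)] at h
      exact h.symm
    · rw [th, if_neg (by decide), tt_mul, one_mul, inv_mul_cancel]
      exact H v hv gv u hu gu a
  by_cases hb1 : b = 1
  · subst hb1; exact H v hv gv u hu gu a
  by_cases hab : (b : K) * b = (a : K) * E.θ a * E.θ (E.θ a)
  swap
  · exact hb_case a b hb hab v hv gv u hu gu
  have hbK : (b : K) ≠ 1 := fun h => hb1 (Units.ext h)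
  obtain ⟨s, hs⟩ : ∃ s : Kˣ, s = a * a / b := ⟨_, rfl⟩
  have hsK : (s : K) = (a : K) * a / b := by rw [hs]; simp
  have hne : nu E.θ 0 a b ≠ 1 := by
    intro h
    rw [nu, if_pos rfl, div_eq_one_iff_eq (mul_ne_zero a.ne_zero a.ne_zero)] at h
    apply hbK
    have hb3 : (b : K) * b * (b * b) = b * b * b := by
      have e : (b : K) * b * (b * b) =
          ((a : K) * a) * E.θ ((a : K) * a) * E.θ (E.θ ((a : K) * a)) := by
        rw [map_mul, map_mul, hab]; ring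
      rw [e, ← h, hb, hb]
    have : (b : K) * b * b * ((b : K) - 1) = 0 := by linear_combination hb3
    exact sub_eq_zero.1 ((mul_eq_zero.1 this).resolve_left
      (mul_ne_zero (mul_ne_zero b.ne_zero b.ne_zero) b.ne_zero))
  refine cov_shift hx (i := 0) hb hne (s := s) (Par.zero E _) (fun v hv gv u hu gu => ?_) hv gv hu gu
  rw [th, if_pos rfl, tt_mul, one_mul]
  refine hb_case _ _ hb (fun h => hbK ?_) v hv gv u hu gu
  rw [Units.val_mul, map_mul, map_mul] at h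
  have e : (s : K) * E.θ s * E.θ (E.θ s) = b := by
    rw [hsK, map_div₀, map_div₀, hb, hb, map_mul, map_mul]
    have := b.ne_zero
    field_simp
    linear_combination (-1 : K) * ((a : K) * E.θ a * E.θ (E.θ a) + b * b) * hab
  have h' : (b : K) * b = b * (b * b) := by
    calc (b : K) * b = _ := h
      _ = ((s : K) * E.θ s * E.θ (E.θ s)) * ((a : K) * E.θ a * E.θ (E.θ a)) := by ring
      _ = _ := by rw [e, ← hab]
  exact (mul_right_eq_self₀.1 (by rw [mul_comm]; exact h'.symm)).resolve_right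
    (mul_ne_zero b.ne_zero b.ne_zero)

/-! ### The middle factor -/

theorem lev_three (c : K) (a b : Kˣ) (hb : E.θ (b : K) = b) (e : K) :
    Yn E.θ 0 c * tt E.θ a b * Xp E.θ 0 e =
      (Lev E (G2.g4 (a : K) (a * e) (c * a) (c * a * e + b / a) (G2.three_ne c a b e)) : GG) := by
  obtain ⟨L1, h1⟩ : ∃ L1 : GL (Fin 2) K, (L1 : M2) = !![1, 0; c, 1] :=
    ⟨G2.g4 1 0 c 1 (by simp), rfl⟩
  obtain ⟨L2, h2⟩ : ∃ L2 : GL (Fin 2) K, (L2 : M2) = !![(a : K), 0; 0, ((b / a : Kˣ) : K)] :=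
    ⟨G2.g4 (a : K) 0 0 ((b / a : Kˣ) : K) (by simp), rfl⟩
  obtain ⟨L3, h3⟩ : ∃ L3 : GL (Fin 2) K, (L3 : M2) = !![1, e; 0, 1] :=
    ⟨G2.g4 1 e 0 1 (by simp), rfl⟩
  have e2 : Lev E L2 = (tt E.θ a b : GG) := by rw [Lev_diag E a (b / a) L2 h2, mul_div_cancel]
  have d1 : DFix E L1 := DFix.of_one E (by ext; simp [h1])
  have d2 : DFix E L2 := by
    have : det' L2 = b := by
      ext; simp [h2]
      field_simp
    rw [DFix, this, hb]
  rw [← Lev_lower E c L1 h1, ← e2, ← Lev_upper E e L3 h3, ← Lev_mul E d1, ← Lev_mul E (d1.mul E d2)]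
  congr 1
  apply Units.ext
  rw [Units.val_mul, Units.val_mul, h1, h2, h3, G2.coe_g4]
  ext i j
  fin_cases i <;> fin_cases j <;> simp [Matrix.mul_apply, Fin.sum_univ_two]

/-! ### Characteristic two -/

section two

variable [CharP K 2]

theorem two_eq : (2 : K) = 0 := _root_.CharTwo.two_eq_zero

theorem cov_lower (hp : Pars E δ t) (hδ : δ * δ ≠ 1) {c : K} (hc : c ≠ 0) (hcθ : E.θ c = c)
    {w u : GG} (hw : w ∈ RS K (Rn 1)) (gw : w ∈ E.G) (hu : u ∈ RS K (Rp 0)) (gu : u ∈ E.G) :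
    Cov E (xel hp) (Yn E.θ 1 c * w * u) := by
  obtain ⟨s, hs⟩ : ∃ s : Kˣ, (s : K) = δ * δ :=
    ⟨Units.mk0 (δ * δ) (mul_ne_zero hp.good.d0 hp.good.d0), rfl⟩
  have hsθ : E.θ (s : K) = s := by rw [hs, map_mul, hp.fix]
  obtain ⟨a, ha, v, hv, gv, u', -, gu', e, hu'⟩ := shift (i := 1) hc (fun _ => hcθ) hw gw
    (one_mem (chevD4.diagonalSubgroup K)) (one_mem _) (RS_Rp_le_U 0 hu) gu (s := s) (fun _ => hsθ)
  refine Cov.of_conj E ha ?_
  rw [mul_one, mul_one, th, if_neg (show (1 : Fin 2) ≠ 0 by decide)] at e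
  rw [e]
  obtain ⟨k, -, w', hw', gw', rfl⟩ := V_left E 0 hv gv
  have hu7 := hu' rfl hu
  have hY : Yn E.θ 0 k ∈ E.G := Yn_mem E (Par.zero E k)
  have e3 := lev_three (E := E) k 1 s hsθ (0 : K)
  rw [Xp_zero, mul_one] at e3
  rw [show Yn E.θ 0 k * w' = (Yn E.θ 0 k * w' * (Yn E.θ 0 k)⁻¹) * Yn E.θ 0 k by group,
    mul_assoc _ (Yn E.θ 0 k) (tt E.θ _ _), e3]
  refine cov_tri hp (conj_Rn (Ns_le 0 (Yn_mem_RS E.θ 0 k)) hw')
    (mul_mem (mul_mem hY gw') (inv_mem hY)) hu7 gu' (G2.ok_trace two_eq hp.good (Or.inl ?_) ?_)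
  · rw [G2.coe_g4, Matrix.det_fin_two_of]; simp [hs]
  · rw [G2.coe_g4, Matrix.trace_fin_two]
    simp [hs]
    intro h
    exact hδ (by linear_combination h - two_eq (K := K))

set_option maxHeartbeats 800000 in
theorem core (hp : Pars E δ t) (hδ : δ * δ ≠ 1) {c e : K} (hcθ : E.θ c = c)
    (hce : (c = 0 ∧ e ≠ 0) ∨ (c ≠ 0 ∧ c ≠ e)) {R : GG} (hR : R ∈ RS K N2)
    (hvG : xx 9 c * (xx 4 e * (xx 7 (E.θ e) * xx 8 (E.θ (E.θ e)))) * R ∈ E.G)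
    {p : GG} (hp' : p ∈ RS K (Rp 0)) (gp : p ∈ E.G) :
    Cov E (xel hp)
      (xx 9 c * (xx 4 e * (xx 7 (E.θ e) * xx 8 (E.θ (E.θ e)))) * R * Xp E.θ 0 1 * p) := by
  obtain ⟨r, s, hs, hd, hr, hrθ⟩ : ∃ (r : K) (s : Kˣ), (s : K) = 1 + r * c ∧
      ((s : K) = δ * δ ∨ (s : K) = 1) ∧ r * (c + e) ≠ 0 ∧ E.θ r = r := by
    rcases hce with ⟨rfl, he0⟩ | ⟨hc, hce⟩
    · exact ⟨1, 1, by simp, Or.inr rfl, by simpa using he0, map_one _⟩
    · refine ⟨(δ * δ - 1) / c, Units.mk0 (δ * δ) (mul_ne_zero hp.good.d0 hp.good.d0),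
        by field_simp; simp, Or.inl rfl,
        mul_ne_zero (div_ne_zero (sub_ne_zero.2 hδ) hc) fun h => hce (_root_.CharTwo.add_eq_zero.1 h),
        by rw [map_div₀, map_sub, map_mul, map_one, hp.fix, hcθ]⟩
  have hsθ : E.θ (s : K) = s := by rw [hs, map_add, map_one, map_mul, hrθ, hcθ]
  have hs0 : 1 + r * c ≠ 0 := hs ▸ s.ne_zero
  have e6 := Xp_Yn E.θ 1 hs0
  rw [show (Units.mk0 _ hs0 : Kˣ) = s from Units.ext hs.symm, th,
    if_neg (show (1 : Fin 2) ≠ 0 by decide), Xp1, Xp1, Yn1, Yn1] at e6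
  obtain ⟨ρ, hρ⟩ : ∃ ρ : K, ρ = r / (1 + r * c) := ⟨_, rfl⟩
  rw [← hρ] at e6
  have hρθ : E.θ ρ = ρ := by rw [hρ, ← hs, map_div₀, hrθ, hsθ]
  have hc'θ : E.θ (c / (1 + r * c)) = c / (1 + r * c) := by rw [← hs, map_div₀, hcθ, hsθ]
  have g14 : ∀ u : K, E.θ u = u → (xx 14 u : GG) ∈ E.G := fun u hu => by
    rw [← Xp1 E.θ]; exact Xp_mem E fun _ => hu
  have g9 : ∀ u : K, E.θ u = u → (xx 9 u : GG) ∈ E.G := fun u hu => by
    rw [← Yn1 E.θ]; exact Yn_mem E fun _ => hu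
  obtain ⟨W, hW, eW⟩ := conj_E E (e := e) hρθ hR
  have gER : xx 4 e * (xx 7 (E.θ e) * xx 8 (E.θ (E.θ e))) * R ∈ E.G := by
    have := mul_mem (inv_mem (g9 c hcθ)) hvG
    rwa [mul_assoc (xx 9 c), inv_mul_cancel_left] at this
  have gW : W ∈ E.G := by
    rw [eq_mul_inv_of_mul_eq eW.symm]
    exact mul_mem (mul_mem (mul_mem (g14 ρ hρθ) gER) (inv_mem (g14 ρ hρθ)))
      (inv_mem (Yn_mem E (Par.zero E _)))
  obtain ⟨m, hm, gm, hmdef⟩ : ∃ m ∈ RS K (Rn 0), m ∈ E.G ∧ m = xx 9 (c / (1 + r * c)) *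
      (tt E.θ 1 s * W * (tt E.θ 1 s)⁻¹) :=
    ⟨_, mul_mem (xx_mem_RS (by decide) _) (H_conj_Rn 0 (tt_mem_H E.θ 1 s) hW),
      mul_mem (g9 _ hc'θ) (mul_mem (mul_mem (tt_mem E 1 hsθ) gW) (inv_mem (tt_mem E 1 hsθ))), rfl⟩
  have hX1 : Xp E.θ 0 (1 : K) ∈ E.G := Xp_mem E (Par.zero E _)
  obtain ⟨q, hq, gq, hqdef⟩ : ∃ q ∈ RS K (Rp 0), q ∈ E.G ∧
      q = (Xp E.θ 0 1)⁻¹ * xx 14 ρ * Xp E.θ 0 1 * p * (xx 14 r)⁻¹ := by
    refine ⟨_, ?_, mul_mem (mul_mem (mul_mem (mul_mem (inv_mem hX1) (g14 ρ hρθ)) hX1) gp)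
      (inv_mem (g14 r hrθ)), rfl⟩
    have h1 := conj_Rp (inv_mem (Ps_le 0 (Xp_mem_RS E.θ 0 (1 : K))))
      (xx_mem_RS (r := 14) (L := Rp 0) (by decide) ρ)
    rw [inv_inv] at h1
    exact mul_mem (mul_mem h1 hp') (inv_mem (xx_mem_RS (by decide) r))
  refine Cov.of_conj E (g14 r hrθ) ?_
  obtain ⟨l, hl, hll⟩ : ∃ l : GL (Fin 2) K, (l : M2) = !![1, 1; r * e, r * e + (s : K)] ∧
      (tt E.θ 1 s * Yn E.θ 0 (ρ * e) * Xp E.θ 0 1 : GG) = Lev E l := by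
    obtain ⟨L2, hL2⟩ : ∃ L2 : GL (Fin 2) K, (L2 : M2) = !![((1 : Kˣ) : K), 0; 0, (s : K)] :=
      ⟨G2.g4 ((1 : Kˣ) : K) 0 0 (s : K) (by simp), rfl⟩
    have h3 := lev_three (E := E) (ρ * e) 1 1 (map_one _) (1 : K)
    rw [tt_one, mul_one] at h3
    have d2 : DFix E L2 := by
      have : det' L2 = s := by ext; simp [hL2]
      rw [DFix, this, hsθ]
    refine ⟨L2 * G2.g4 ((1 : Kˣ) : K) (((1 : Kˣ) : K) * 1) (ρ * e * ((1 : Kˣ) : K))
      (ρ * e * ((1 : Kˣ) : K) * 1 + ((1 : Kˣ) : K) / ((1 : Kˣ) : K)) (G2.three_ne (ρ * e) 1 1 1), ?_,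
      by rw [Lev_mul E d2, Lev_diag E 1 s L2 hL2, ← h3, one_mul, mul_assoc]⟩
    rw [Units.val_mul, hL2, G2.coe_g4, hρ, ← hs]
    ext i j
    fin_cases i <;> fin_cases j <;> simp [Matrix.mul_apply, Fin.sum_univ_two] <;> field_simp
  have eq : xx 14 r * (xx 9 c * (xx 4 e * (xx 7 (E.θ e) * xx 8 (E.θ (E.θ e)))) * R *
      Xp E.θ 0 1 * p) * (xx 14 r)⁻¹ =
      m * (tt E.θ 1 s * Yn E.θ 0 (ρ * e) * Xp E.θ 0 1) * q := by
    calc _ = (xx 14 r * xx 9 c) * (xx 4 e * (xx 7 (E.θ e) * xx 8 (E.θ (E.θ e))) * R) *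
            Xp E.θ 0 1 * p * (xx 14 r)⁻¹ := by group
      _ = xx 9 (c / (1 + r * c)) * tt E.θ 1 s *
            (xx 14 ρ * (xx 4 e * (xx 7 (E.θ e) * xx 8 (E.θ (E.θ e))) * R) * (xx 14 ρ)⁻¹) *
            (xx 14 ρ * Xp E.θ 0 1 * p * (xx 14 r)⁻¹) := by rw [e6]; group
      _ = _ := by rw [eW, hmdef, hqdef]; group
  rw [eq, hll]
  refine cov_tri hp hm gm hq gq (G2.ok_trace two_eq hp.good ?_ ?_)
  · rw [hl, Matrix.det_fin_two_of]
    rcases hd with hd | hd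
    · left; linear_combination hd
    · right; linear_combination hd
  · rw [hl, Matrix.trace_fin_two]
    intro h
    apply hr
    simp at h
    linear_combination h - hs - two_eq (K := K)

/-- The outer reflection followed by inversion and the longest element. -/
theorem mirror_state (v p : GG) :
    om (nL hC K (Jw 0) * (v * Xp E.θ 0 1 * p) * (nL hC K (Jw 0))⁻¹)⁻¹ =
      om (nL hC K (Jw 0) * p⁻¹ * (nL hC K (Jw 0))⁻¹) * Xp E.θ 0 1 *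
        om (nL hC K (Jw 0) * v⁻¹ * (nL hC K (Jw 0))⁻¹) := by
  have h : om (nL hC K (Jw 0) * (Xp E.θ 0 (1 : K))⁻¹ * (nL hC K (Jw 0))⁻¹) = (Xp E.θ 0 1 : GG) := by
    rw [Xp_inv2, nJ0_Xp, om_Yn2]
  have e : ∀ n a X c : GG, (n * (a * X * c) * n⁻¹)⁻¹ =
      (n * c⁻¹ * n⁻¹) * (n * X⁻¹ * n⁻¹) * (n * a⁻¹ * n⁻¹) := fun n a X c => by group
  rw [e, map_mul, map_mul, h]

theorem Jw0_fix : ∀ r ∈ Rp 0, r < 24 ∧ wL chevD4 (Jw 0) r ∈ Rp 0 := by decide +kernel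

theorem Jw0_fix' : ∀ r ∈ Rn 0, r < 24 ∧ wL chevD4 (Jw 0) r ∈ Rn 0 := by decide +kernel

theorem Cov.of_state (hp : Pars E δ t) {v p : GG}
    (h : Cov E (xel hp) (om (nL hC K (Jw 0) * p⁻¹ * (nL hC K (Jw 0))⁻¹) * Xp E.θ 0 1 *
        om (nL hC K (Jw 0) * v⁻¹ * (nL hC K (Jw 0))⁻¹))) :
    Cov E (xel hp) (v * Xp E.θ 0 1 * p) := by
  rw [← mirror_state] at h
  exact Cov.of_conj E (nJ_mem E 0) (Cov.of_mirror E (xel_inv hp) h)

theorem top_coords (f : K) : (Invol.Pt E.θ 0 0 0 0 0 f : GG) = xx 23 f := by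
  simp [Invol.Pt, Collect.P, xg_zero hC]

theorem stateA_reduce (hp : Pars E δ t) (hδ : δ * δ ≠ 1) {v p : GG} (hv : v ∈ RS K (Rn 0))
    (gv : v ∈ E.G) (hp' : p ∈ RS K (Rp 0)) (gp : p ∈ E.G) :
    Cov E (xel hp) (v * Xp E.θ 0 1 * p) ∨ ∃ f : K, p = xx 23 f := by
  obtain ⟨b, c, d, e, f, hb, he, -, rfl⟩ := coords E hp' gp
  have n0G := nJ_mem E 0
  by_cases hb0 : b = 0
  swap
  · left
    refine Cov.of_mirror E (xel_inv hp) ?_
    obtain ⟨n14, -⟩ := neg_vals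
    have hstuff : (Invol.Pt E.θ b 0 c d e f)⁻¹ =
        (xx 14 b * (Invol.Pt E.θ 0 0 c d e f))⁻¹ := by
      simp [Invol.Pt, Collect.P, xg_zero hC]
    have hrest : Invol.Pt E.θ 0 0 c d e f ∈ RS K (Rp 1) := by
      simp only [Invol.Pt, Collect.P, xg_zero hC, one_mul, map_zero]
      repeat' first
        | exact xx_mem_RS (by decide) _
        | apply mul_mem
    have hw : (Yn E.θ 1 b)⁻¹ * (om (Invol.Pt E.θ 0 0 c d e f)⁻¹ * Yn E.θ 1 b) * Yn E.θ 0 1 ∈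
        RS K (Rn 1) := by
      refine mul_mem ?_ (RS_mono (show ∀ r ∈ Ns 0, r ∈ Rn 1 by decide) (Yn_mem_RS E.θ 0 1))
      rw [← mul_assoc]
      have := conj_Rn (inv_mem (Ns_le 1 (Yn_mem_RS E.θ 1 b))) (om_Rp 1 (inv_mem hrest))
      rwa [inv_inv] at this
    have eg : om (v * Xp E.θ 0 1 * Invol.Pt E.θ b 0 c d e f)⁻¹ =
        Yn E.θ 1 b * ((Yn E.θ 1 b)⁻¹ * (om (Invol.Pt E.θ 0 0 c d e f)⁻¹ * Yn E.θ 1 b) *
          Yn E.θ 0 1) * om v⁻¹ := by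
      rw [mul_inv_rev, mul_inv_rev, map_mul, map_mul, hstuff, mul_inv_rev, map_mul, xx_inv2,
        om_two (by norm_num), n14, ← Yn1 E.θ, Xp_inv2, om_Xp2]
      group
    rw [eg]
    refine cov_lower hp hδ hb0 hb hw ?_ (om_Rn 0 (inv_mem hv)) (om_mem E (inv_mem gv))
    have hg : om (v * Xp E.θ 0 1 * Invol.Pt E.θ b 0 c d e f)⁻¹ ∈ E.G :=
      om_mem E (inv_mem (mul_mem (mul_mem gv (Xp_mem E (Par.zero E _))) gp))
    rw [eg] at hg
    have := mul_mem (inv_mem (Yn_mem E (i := 1) (t := b) fun _ => hb))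
      (mul_mem hg (inv_mem (om_mem E (inv_mem gv))))
    simpa [mul_assoc] using this
  subst hb0
  -- a covered mirror image
  have win : ∀ c' d' e' f' : K, ∀ v' : GG, v' ∈ RS K (Rn 0) → v' ∈ E.G →
      Invol.Pt E.θ 0 0 c' d' e' f' ∈ E.G → E.θ e' = e' →
      (e' = 0 ∧ d' ≠ 0) ∨ (e' ≠ 0 ∧ e' ≠ d') →
      Cov E (xel hp) (v' * Xp E.θ 0 1 * Invol.Pt E.θ 0 0 c' d' e' f') := by
    intro c' d' e' f' v' hv' gv' gP he' hcond
    refine Cov.of_state hp ?_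
    obtain ⟨R, hR, eR⟩ := mirror_coords E c' d' e' f'
    have gP' := om_mem E (mul_mem (mul_mem n0G (inv_mem gP)) (inv_mem n0G))
    rw [eR] at gP' ⊢
    exact core hp hδ he' hcond hR gP'
      (om_Rn 0 (nL_conj_RS (Jw_lt 0) Jw0_fix' (inv_mem hv')))
      (om_mem E (mul_mem (mul_mem n0G (inv_mem gv')) (inv_mem n0G)))
  have moved : ∀ a : K, Cov E (xel hp) ((Xp E.θ 0 a * v * (Xp E.θ 0 a)⁻¹) * Xp E.θ 0 1 *
      (Xp E.θ 0 a * Invol.Pt E.θ 0 0 c d e f * (Xp E.θ 0 a)⁻¹)) →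
      Cov E (xel hp) (v * Xp E.θ 0 1 * Invol.Pt E.θ 0 0 c d e f) := by
    intro a h
    refine Cov.of_conj E (Xp_mem E (Par.zero E a)) ((congrArg (Cov E (xel hp)) ?_).mp h)
    have hc : Xp E.θ 0 1 * Xp E.θ 0 a = (Xp E.θ 0 a * Xp E.θ 0 1 : GG) := by
      rw [← Xp_add, ← Xp_add, add_comm]
    calc _ = Xp E.θ 0 a * v * (Xp E.θ 0 a)⁻¹ * (Xp E.θ 0 1 * Xp E.θ 0 a) *
          Invol.Pt E.θ 0 0 c d e f * (Xp E.θ 0 a)⁻¹ := by group
      _ = _ := by rw [hc]; group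
  have hmv : ∀ a : K, Xp E.θ 0 a * v * (Xp E.θ 0 a)⁻¹ ∈ RS K (Rn 0) ∧
      Xp E.θ 0 a * v * (Xp E.θ 0 a)⁻¹ ∈ E.G ∧
      Xp E.θ 0 a * Invol.Pt E.θ 0 0 c d e f * (Xp E.θ 0 a)⁻¹ ∈ E.G := fun a =>
    ⟨conj_Rn (Ps_le 0 (Xp_mem_RS E.θ 0 a)) hv,
      mul_mem (mul_mem (Xp_mem E (Par.zero E a)) gv) (inv_mem (Xp_mem E (Par.zero E a))),
      mul_mem (mul_mem (Xp_mem E (Par.zero E a)) gp) (inv_mem (Xp_mem E (Par.zero E a)))⟩
  by_cases hc0 : c = 0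
  swap
  · obtain ⟨a, ha⟩ := exists_unfixed E hc0 d
    left
    refine moved a ?_
    obtain ⟨m1, m2, m3⟩ := hmv a
    rw [conj_coords] at m3 ⊢
    generalize hD : d + (E.θ a * E.θ (E.θ c) + E.θ (E.θ a) * E.θ c) = D at ha m3 ⊢
    generalize hE : e + a * d + E.θ a * (E.θ d + a * E.θ (E.θ c)) +
      E.θ (E.θ a) * (E.θ (E.θ d) + a * E.θ c + E.θ a * c) = e' at m3 ⊢
    have heθ : E.θ e' = e' := by
      obtain ⟨b', a', c', d', e'', f', -, he'', -, eq⟩ :=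
        Invol.exists_Pt E.X E.θ E.hθ E.hq (Invol.P_mem_U _ _ _ _ _ _ _ _ _ _ _ _) m3
      obtain ⟨-, -, -, -, -, -, -, -, -, -, h, -⟩ := Invol.P_inj eq
      rwa [h]
    refine win _ _ _ _ _ m1 m2 m3 heθ ?_
    by_cases h0 : e' = 0
    · exact Or.inl ⟨h0, fun h => ha (by rw [h, map_zero])⟩
    · exact Or.inr ⟨h0, fun h => ha (by rw [← h]; exact heθ)⟩
  subst hc0
  by_cases hd0 : d = 0
  · by_cases he0 : e = 0
    · right
      exact ⟨f, by rw [hd0, he0]; exact top_coords f⟩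
    · left
      subst hd0
      exact win _ _ _ _ _ hv gv gp he (Or.inr ⟨he0, he0⟩)
  left
  by_cases hde : e = 0 ∨ e ≠ d
  · exact win _ _ _ _ _ hv gv gp he (by
      by_cases h : e = 0
      · exact Or.inl ⟨h, hd0⟩
      · exact Or.inr ⟨h, hde.resolve_left h⟩)
  push Not at hde
  obtain ⟨-, hde⟩ := hde
  refine moved 1 ?_
  obtain ⟨m1, m2, m3⟩ := hmv 1
  rw [conj_coords] at m3 ⊢
  have hdθ : E.θ d = d := hde ▸ he
  have e1 : e + 1 * d + E.θ 1 * (E.θ d + 1 * E.θ (E.θ 0)) +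
      E.θ (E.θ 1) * (E.θ (E.θ d) + 1 * E.θ 0 + E.θ 1 * 0) = 0 := by
    simp only [map_one, map_zero, hdθ, hde, one_mul, mul_zero, add_zero]
    linear_combination (2 * d) * two_eq (K := K)
  rw [e1] at m3 ⊢
  refine win _ _ _ _ _ m1 m2 m3 (map_zero _) (Or.inl ⟨rfl, ?_⟩)
  simpa using hd0

theorem stateA (hp : Pars E δ t) (hδ : δ * δ ≠ 1) {v p : GG} (hv : v ∈ RS K (Rn 0))
    (gv : v ∈ E.G) (hp' : p ∈ RS K (Rp 0)) (gp : p ∈ E.G) :
    Cov E (xel hp) (v * Xp E.θ 0 1 * p) := by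
  rcases stateA_reduce hp hδ hv gv hp' gp with h | ⟨f, rfl⟩
  · exact h
  have n0G := nJ_mem E 0
  rcases stateA_reduce hp hδ (v := om (nL hC K (Jw 0) * (xx 23 f)⁻¹ * (nL hC K (Jw 0))⁻¹))
      (p := om (nL hC K (Jw 0) * v⁻¹ * (nL hC K (Jw 0))⁻¹))
      (om_Rp 0 (nL_conj_RS (Jw_lt 0) Jw0_fix (inv_mem hp')))
      (om_mem E (mul_mem (mul_mem n0G (inv_mem gp)) (inv_mem n0G)))
      (om_Rn 0 (nL_conj_RS (Jw_lt 0) Jw0_fix' (inv_mem hv)))
      (om_mem E (mul_mem (mul_mem n0G (inv_mem gv)) (inv_mem n0G))) with h | ⟨z, hz⟩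
  · exact Cov.of_state hp h
  obtain ⟨-, -, -, -, -, -, -, -, -, w00, -, -, -, m0, m23, m18, m13, m12⟩ := w_vals
  have hv0 : v = xx 0 z := by
    have e : om (nL hC K (Jw 0) * (xx 0 z)⁻¹ * (nL hC K (Jw 0))⁻¹) = (xx 23 z : GG) := by
      rw [xx_inv2, nJ0_conj (by norm_num), w00, om_two (by norm_num),
        neg_vals.2.2.2.2.2.2.2.2.2.2.2.2.2.2.2]
    rw [← e] at hz
    exact inv_injective (mul_left_cancel (mul_right_cancel ((om (K := K)).injective hz)))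
  subst hv0
  obtain ⟨m, hm⟩ : ∃ m : GG, m = nL hC K (Jw 1) := ⟨_, rfl⟩
  have hmG : m ∈ E.G := hm ▸ nJ_mem E 1
  refine Cov.of_conj E (a := m) hmG ?_
  have c : ∀ r < 24, ∀ a : K, m * xx r a * m⁻¹ = xx (wL chevD4 (Jw 1) r) a := fun r hr a => by
    rw [hm, nJ1_conj hr]
  have e : m * (xx 0 z * Xp E.θ 0 1 * xx 23 f) * m⁻¹ =
      xx 1 z * (m * Xp E.θ 0 1 * m⁻¹ * xx 22 f) := by
    have h0 := c 0 (by norm_num) z
    have h23 := c 23 (by norm_num) f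
    rw [m0] at h0; rw [m23] at h23
    rw [← h0, ← h23]
    group
  have hX : m * Xp E.θ 0 1 * m⁻¹ ∈ RS K (Rp 0) := by
    rw [hm]
    exact nL_conj_RS (Jw_lt 1) (show ∀ r ∈ Ps 0, r < 24 ∧ wL chevD4 (Jw 1) r ∈ Rp 0 by decide +kernel)
      (Xp_mem_RS E.θ 0 1)
  have g1 : xx 1 z ∈ E.G := by
    have := mul_mem (mul_mem hmG gv) (inv_mem hmG)
    rwa [c 0 (by norm_num), m0] at this
  have g22 : xx 22 f ∈ E.G := by
    have := mul_mem (mul_mem hmG gp) (inv_mem hmG)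
    rwa [c 23 (by norm_num), m23] at this
  have h := cov_tri hp (xx_mem_RS (L := Rn 0) (r := 1) (by decide) z) g1
    (mul_mem hX (xx_mem_RS (r := 22) (by decide) f))
    (mul_mem (mul_mem (mul_mem hmG (Xp_mem E (Par.zero E _))) (inv_mem hmG)) g22)
    (l := 1) (Or.inr (Or.inr (by ext i j; fin_cases i <;> fin_cases j <;> simp)))
  rw [Lev_one, mul_one] at h
  rwa [e]

end two

theorem cov_one_case (hp : Pars E δ t) {v u : GG}
    (hv : v ∈ chevD4.negUnipotent K) (gv : v ∈ E.G) (hu : u ∈ chevD4.posUnipotent K) (gu : u ∈ E.G)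
    (a : Kˣ) : Cov E (xel hp) (v * tt E.θ a 1 * u) := by
  obtain ⟨c, -, w, hw, gw, rfl⟩ := V_left E 0 hv gv
  obtain ⟨e, -, p, hpp, gpp, rfl⟩ := U_left E 0 hu gu
  have hY : Yn E.θ 0 c ∈ E.G := Yn_mem E (Par.zero E c)
  have hw' := conj_Rn (Ns_le 0 (Yn_mem_RS E.θ 0 c)) hw
  have gw' : Yn E.θ 0 c * w * (Yn E.θ 0 c)⁻¹ ∈ E.G := mul_mem (mul_mem hY gw) (inv_mem hY)
  rw [show Yn E.θ 0 c * w * tt E.θ a 1 * (Xp E.θ 0 e * p) =
    (Yn E.θ 0 c * w * (Yn E.θ 0 c)⁻¹) * (Yn E.θ 0 c * tt E.θ a 1 * Xp E.θ 0 e) * p by group,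
    lev_three c a 1 (map_one _) e]
  obtain ⟨M, hM⟩ : ∃ M, M = G2.g4 (a : K) (a * e) (c * a) (c * a * e + ((1 : Kˣ) : K) / a)
    (G2.three_ne c a 1 e) := ⟨_, rfl⟩
  rw [← hM]
  have hd : (M : M2).det = 1 := by
    rw [hM, G2.coe_g4, Matrix.det_fin_two_of]
    simp
    field_simp
    ring
  rcases hp.char with ⟨h2, rfl⟩ | ⟨h2, hδ⟩
  · exact cov_tri hp hw' gw' hpp gpp (G2.ok_neg_one h2 hd)
  haveI : CharP K 2 := CharTwo.of_one_ne_zero_of_two_eq_zero one_ne_zero h2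
  by_cases ht : (M : M2).trace = 0
  swap
  · exact cov_tri hp hw' gw' hpp gpp (G2.ok_trace h2 hp.good (Or.inr hd) ht)
  by_cases hne : (M : M2) = 1
  · refine cov_tri hp hw' gw' hpp gpp (Or.inr (Or.inr ?_))
    rw [hne]
    ext i j; fin_cases i <;> fin_cases j <;> simp
  obtain ⟨P, U, hU, hMP⟩ := G2.unipotent_conj h2 hd ht hne
  obtain ⟨r, hr⟩ := FiniteField.isSquare_of_char_two (ringChar.eq K 2)
    (((det' P : Kˣ) : K)⁻¹)
  have hr0 : r ≠ 0 := fun h => inv_ne_zero (Units.ne_zero (det' P)) (by rw [hr, h, mul_zero])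
  obtain ⟨P', hP'⟩ : ∃ P', P' = G2.sG (Units.mk0 r hr0) * P := ⟨_, rfl⟩
  have hd' : det' P' = 1 := by
    apply Units.ext
    rw [hP', map_mul, Units.val_mul, G2.det_sG, Units.val_mul, Units.val_mk0, ← hr,
      inv_mul_cancel₀ (Units.ne_zero _), Units.val_one]
  have hdP : DFix E P' := DFix.of_one E hd'
  have hdU : DFix E U := DFix.of_one E (by ext; simp [hU])
  have hMP' : M = P' * U * P'⁻¹ := by
    rw [hP', mul_inv_rev, hMP]
    calc P * U * P⁻¹ = G2.sG (Units.mk0 r hr0) * (P * U * P⁻¹) * (G2.sG (Units.mk0 r hr0))⁻¹ := by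
          rw [G2.sG_comm, mul_inv_cancel_right]
      _ = _ := by group
  rw [hMP', Lev_conj E hdP hdU, Lev_upper E 1 U hU]
  refine Cov.of_conj E (inv_mem (Lev_mem E hdP)) ?_
  have hLi : Lev E P'⁻¹ = (Lev E P')⁻¹ := Lev_inv E hdP
  have hG := Lev_mem E hdP
  have := stateA hp hδ (Lev_conj_Rn E P'⁻¹ hw')
    (by rw [hLi]; exact mul_mem (mul_mem (inv_mem hG) gw') (inv_mem (inv_mem hG)))
    (Lev_conj_Rp E P'⁻¹ hpp)
    (by rw [hLi]; exact mul_mem (mul_mem (inv_mem hG) gpp) (inv_mem (inv_mem hG)))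
  refine (congrArg (Cov E (xel hp)) ?_).mp this
  rw [hLi]
  group

theorem cov_all (hp : Pars E δ t) {g : GG} (hg : g ∈ E.G) : Cov E (xel hp) g := by
  obtain ⟨a, ha0, b, hb0, h, hh0, c, hc0, rfl⟩ := cell_all E hg
  obtain ⟨ha, gha⟩ := Subgroup.mem_inf.1 ha0
  obtain ⟨hb, ghb⟩ := Subgroup.mem_inf.1 hb0
  obtain ⟨hh, ghh⟩ := Subgroup.mem_inf.1 hh0
  obtain ⟨hc, ghc⟩ := Subgroup.mem_inf.1 hc0
  obtain ⟨x, y, hy, rfl⟩ := mem_torus E hh ghh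
  refine Cov.of_conj E (inv_mem gha) ?_
  have := main_cases (xel_inv hp) (fun v hv gv u hu gu a => cov_one_case hp hv gv hu gu a)
    hb ghb (mul_mem hc ha) (mul_mem ghc gha) x y hy
  refine (congrArg (Cov E (xel hp)) ?_).mp this
  group

/-- `³D₄(q)`, `q ≥ 3`, is the square of a semisimple class. -/
theorem exists_semisimple_class (p : ℕ) [Fact p.Prime] [CharP K p] (h3 : 3 ≤ E.q) :
    ∃ x : E.G, ¬ p ∣ orderOf x ∧
      ∀ g : E.G, ∃ u v : E.G, g = (u * x * u⁻¹) * (v * x * v⁻¹) := by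
  obtain ⟨δ, t, hp⟩ := exists_pars E h3
  refine ⟨⟨xel hp, xel_mem hp⟩, fun hdvd => ?_, fun g => ?_⟩
  · rw [← Subgroup.orderOf_coe] at hdvd
    have h := hdvd.trans (orderOf_dvd_of_pow_eq_one (xel_pow hp))
    have hpK : p ∣ Fintype.card K := by
      obtain ⟨n, hp', hn⟩ := FiniteField.card K p
      rw [hn]; exact dvd_pow_self p n.ne_zero
    have h1 : 1 < Fintype.card K := Fintype.one_lt_card
    rcases (Fact.out : p.Prime).dvd_mul.1 h with h' | h'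
    · exact (Fact.out : p.Prime).not_dvd_one ((Nat.dvd_add_right hpK).1 h')
    · exact (Fact.out : p.Prime).not_dvd_one ((Nat.dvd_add_right h').1
        (by rwa [Nat.sub_add_cancel (by omega)]))
  · obtain ⟨b, c, ⟨u, hu, rfl⟩, ⟨v, hv, rfl⟩, e⟩ := cov_all hp g.2
    exact ⟨⟨u, hu⟩, ⟨v, hv⟩, Subtype.ext e⟩

end Cfsg.Agent.Involutions.ClassSquare.D4
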