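import Cfsg.Agent.Lib.Chevalley.SL2
import Cfsg.Agent.Lib.Chevalley.Twist.TorusD4

/-!
The two rank one subgroups of a triality twisted group, with both radicals of its maximal parabolic
subgroups, inside the untwisted group.
-/

set_option autoImplicit false
set_option linter.unusedSectionVars false

open scoped Matrix

namespace Cfsg.Agent.Involutions.ClassSquare.D4

open Cfsg.Lie Cfsg.Agent.Chevalley Cfsg.Agent.Chevalley.Cert Cfsg.Agent.Chevalley.Group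
  Cfsg.Agent.Chevalley.Table Cfsg.Agent.Chevalley.Unip Cfsg.Agent.Chevalley.Bruhat
  Cfsg.Agent.Chevalley.Borel

abbrev hC : Certified chevD4 Data.D4.tab := Types.D4.certified

variable {K : Type*} [Field K] [Fintype K]

local notation "GG" => GL chevD4.Idx K
local notation "SL" => Matrix.SpecialLinearGroup (Fin 2) K

/-- Root elements. -/
abbrev xx (r : ℕ) (t : K) : GL chevD4.Idx K := xg hC r t

theorem xx_zero (r : ℕ) : xx r (0 : K) = 1 := xg_zero hC r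
theorem xx_add (r : ℕ) (s t : K) : xx r (s + t) = xx r s * xx r t := xg_add hC r s t
theorem xx_inv (r : ℕ) (t : K) : (xx r t)⁻¹ = xx r (-t) := xg_inv hC r t

theorem lt24 {r : ℕ} (h : r < 24) : r < chevD4.nroots := h

theorem phi_pos : ∀ r < 24, (0 < Data.D4.tab.phi r ↔ 12 ≤ r) := by decide +kernel

theorem phi_neg : ∀ r < 24, (Data.D4.tab.phi r < 0 ↔ r < 12) := by decide +kernel

/-! ### Lists of roots -/

/-- The fundamental roots of the two orbits. -/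
def Ps : Fin 2 → List ℕ := ![[18, 13, 12], [14]]

/-- Their negatives. -/
def Ns : Fin 2 → List ℕ := ![[5, 10, 11], [9]]

/-- The other positive roots. -/
def Rp : Fin 2 → List ℕ :=
  ![[14, 15, 16, 17, 19, 20, 21, 22, 23], [12, 13, 15, 16, 17, 18, 19, 20, 21, 22, 23]]

/-- The other negative roots. -/
def Rn : Fin 2 → List ℕ := ![[9, 8, 7, 6, 4, 3, 2, 1, 0], [11, 10, 8, 7, 6, 5, 4, 3, 2, 1, 0]]

/-- The words of the two orbits. -/
def Jw : Fin 2 → List ℕ := ![[3, 2, 0], [1]]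

theorem Jw_lt : ∀ i : Fin 2, ∀ j ∈ Jw i, j < chevD4.rank := by decide

/-- A word of the longest element. -/
def w0 : List ℕ := [1, 3, 2, 0, 1, 3, 2, 0, 1, 3, 2, 0]

theorem w0_lt : ∀ i ∈ w0, i < chevD4.rank := by decide

theorem wL_w0 : ∀ r < 24, wL chevD4 w0 r = chevD4.neg r := by decide +kernel

theorem wL_w0_rev : ∀ r < 24, wL chevD4 w0.reverse r = chevD4.neg r := by decide +kernel

theorem neg_val : ∀ r < 24, chevD4.neg r = 23 - r := by decide +kernel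

/-- The subgroup generated by the root groups of a list. -/
def RS (K : Type*) [Field K] (L : List ℕ) : Subgroup (GL chevD4.Idx K) :=
  Subgroup.closure {g | ∃ r ∈ L, ∃ t : K, g = xg hC r t}

theorem xx_mem_RS {L : List ℕ} {r : ℕ} (h : r ∈ L) (t : K) : xx r t ∈ RS K L :=
  Subgroup.subset_closure ⟨r, h, t, rfl⟩

theorem RS_le {L : List ℕ} {H : Subgroup GG} (h : ∀ r ∈ L, ∀ t : K, xx r t ∈ H) : RS K L ≤ H :=
  (Subgroup.closure_le _).2 (by rintro g ⟨r, hr, t, rfl⟩; exact h r hr t)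

theorem RS_mono {L M : List ℕ} (h : ∀ r ∈ L, r ∈ M) : RS K L ≤ RS K M :=
  RS_le fun r hr t => xx_mem_RS (h r hr) t

theorem RS_le_U {L : List ℕ} (h : ∀ r ∈ L, 12 ≤ r ∧ r < 24) : RS K L ≤ chevD4.posUnipotent K :=
  RS_le fun r hr t => xg_mem_U hC (lt24 (h r hr).2) ((phi_pos r (h r hr).2).2 (h r hr).1) t

theorem RS_le_V {L : List ℕ} (h : ∀ r ∈ L, r < 12) : RS K L ≤ chevD4.negUnipotent K :=
  RS_le fun r hr t => by
    have := h r hr
    exact xg_mem_V hC (lt24 (by omega)) ((phi_neg r (by omega)).2 this) t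

theorem RS_singleton {r : ℕ} {g : GG} (hg : g ∈ RS K [r]) : ∃ t : K, g = xx r t := by
  induction hg using Subgroup.closure_induction with
  | mem x hx =>
    obtain ⟨s, hs, t, rfl⟩ := hx
    rw [List.mem_singleton] at hs
    exact ⟨t, by rw [hs]⟩
  | one => exact ⟨0, (xx_zero r).symm⟩
  | mul x y _ _ hx hy =>
    obtain ⟨a, rfl⟩ := hx
    obtain ⟨b, rfl⟩ := hy
    exact ⟨a + b, (xx_add r a b).symm⟩
  | inv x _ hx =>
    obtain ⟨a, rfl⟩ := hx
    exact ⟨-a, xx_inv r a⟩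

/-- A root that keeps the root groups of a list together. -/
def CommOK (L : List ℕ) (s : ℕ) : Prop :=
  s < 24 ∧ ∀ r ∈ L, r < 24 ∧ (r = s ∨ r ≠ chevD4.neg s ∧ ∀ c ∈ chevD4.commTerms s r, c.1 ∈ L)

instance (L : List ℕ) (s : ℕ) : Decidable (CommOK L s) :=
  inferInstanceAs (Decidable (_ ∧ _))

theorem conj_expand {r s : ℕ} (hr : r < 24) (hs : s < 24) (hsr : s ≠ r) (hsn : s ≠ chevD4.neg r)
    (a b : K) :
    xx r a * xx s b * (xx r a)⁻¹ =
      xx s b * (((chevD4.commWord K r s (-a) b).map fun p => xg hC p.1 p.2).prod : GG) := by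
  have h := xg_comm hC hr hs hsr hsn (-a) b
  rw [xx_inv, mul_assoc, h, ← mul_assoc, ← mul_assoc, ← xg_add hC, add_neg_cancel, xg_zero hC,
    one_mul]

theorem xx_conj_RS {L : List ℕ} {s : ℕ} (h : CommOK L s) (a : K) {g : GG} (hg : g ∈ RS K L) :
    xx s a * g * (xx s a)⁻¹ ∈ RS K L := by
  suffices key : RS K L ≤ (RS K L).comap (MulAut.conj (xx s a)).toMonoidHom from key hg
  refine RS_le fun r hr t => ?_
  show xx s a * xx r t * (xx s a)⁻¹ ∈ RS K L
  obtain ⟨hr24, rfl | ⟨hn, hc⟩⟩ := h.2 r hr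
  · rw [← xx_add, xx_inv, ← xx_add]
    exact xx_mem_RS hr _
  by_cases hne : r = s
  · subst hne
    rw [← xx_add, xx_inv, ← xx_add]
    exact xx_mem_RS hr _
  rw [conj_expand h.1 hr24 hne hn]
  refine mul_mem (xx_mem_RS hr _) (list_prod_mem fun g hg => ?_)
  obtain ⟨p, hp, rfl⟩ := List.mem_map.1 hg
  simp only [ChevalleyDatum.commWord, List.mem_map] at hp
  obtain ⟨c, hc', rfl⟩ := hp
  exact xx_mem_RS (hc c hc') _

theorem RS_conj_RS {L M : List ℕ} (h : ∀ s ∈ M, CommOK L s) {y g : GG} (hy : y ∈ RS K M)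
    (hg : g ∈ RS K L) : y * g * y⁻¹ ∈ RS K L := by
  suffices key : ∀ g ∈ RS K L, y * g * y⁻¹ ∈ RS K L ∧ y⁻¹ * g * y ∈ RS K L from (key g hg).1
  clear hg g
  induction hy using Subgroup.closure_induction with
  | mem x hx =>
    obtain ⟨s, hs, t, rfl⟩ := hx
    refine fun g hg => ⟨xx_conj_RS (h s hs) t hg, ?_⟩
    have := xx_conj_RS (h s hs) (-t) hg
    rwa [← xx_inv, inv_inv] at this
  | one => intro g hg; simp [hg]
  | mul x y _ _ hx hy =>
    intro g hg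
    refine ⟨?_, ?_⟩
    · have := (hx _ (hy g hg).1).1
      simpa [mul_assoc] using this
    · have := (hy _ (hx g hg).2).2
      simpa [mul_assoc] using this
  | inv x _ hx =>
    intro g hg
    rw [inv_inv]
    exact ⟨(hx g hg).2, (hx g hg).1⟩

theorem RS_split {A B : List ℕ} (h : ∀ s ∈ B, CommOK A s) {g : GG} (hg : g ∈ RS K (A ++ B)) :
    ∃ a ∈ RS K A, ∃ b ∈ RS K B, g = a * b := by
  induction hg using Subgroup.closure_induction_left with
  | one => exact ⟨1, one_mem _, 1, one_mem _, by simp⟩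
  | mul_left x hx y _ hy =>
    obtain ⟨r, hr, t, rfl⟩ := hx
    obtain ⟨a, ha, b, hb, rfl⟩ := hy
    rcases List.mem_append.1 hr with hr | hr
    · exact ⟨_, mul_mem (xx_mem_RS hr t) ha, b, hb, by rw [mul_assoc]⟩
    · exact ⟨_, xx_conj_RS (h r hr) t ha, _, mul_mem (xx_mem_RS hr t) hb, by group⟩
  | inv_mul_cancel x hx y _ hy =>
    obtain ⟨r, hr, t, rfl⟩ := hx
    obtain ⟨a, ha, b, hb, rfl⟩ := hy
    rw [show (xg hC r t)⁻¹ = xg hC r (-t) from xx_inv r t]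
    rcases List.mem_append.1 hr with hr | hr
    · exact ⟨_, mul_mem (xx_mem_RS hr (-t)) ha, b, hb, by rw [mul_assoc]⟩
    · exact ⟨_, xx_conj_RS (h r hr) (-t) ha, _, mul_mem (xx_mem_RS hr (-t)) hb, by group⟩

/-- Monomial elements permute the root groups. -/
theorem nL_conj_RS {w : List ℕ} (hw : ∀ i ∈ w, i < chevD4.rank) {L M : List ℕ}
    (h : ∀ r ∈ L, r < 24 ∧ wL chevD4 w r ∈ M) {g : GG} (hg : g ∈ RS K L) :
    nL hC K w * g * (nL hC K w)⁻¹ ∈ RS K M := by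
  suffices key : RS K L ≤ (RS K M).comap (MulAut.conj (nL hC K w)).toMonoidHom from key hg
  refine RS_le fun r hr t => ?_
  obtain ⟨η, -, e⟩ := nL_conj_x (F := K) hC hw (r := r) (h r hr).1
  show nL hC K w * xx r t * (nL hC K w)⁻¹ ∈ RS K M
  rw [e]
  exact xx_mem_RS (h r hr).2 _

/-- Two lists separated by a monomial element. -/
theorem RS_inf {w A B : List ℕ} (hw : ∀ i ∈ w, i < chevD4.rank)
    (hA : ∀ r ∈ A, r < 24 ∧ wL chevD4 w r < 12)
    (hB : ∀ r ∈ B, r < 24 ∧ 12 ≤ wL chevD4 w r ∧ wL chevD4 w r < 24) {g : GG} (ha : g ∈ RS K A)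
    (hb : g ∈ RS K B) : g = 1 := by
  have h1 : nL hC K w * g * (nL hC K w)⁻¹ ∈ chevD4.negUnipotent K := by
    refine RS_le_V (L := A.map (wL chevD4 w)) ?_ (nL_conj_RS hw (fun r hr =>
      ⟨(hA r hr).1, List.mem_map.2 ⟨r, hr, rfl⟩⟩) ha)
    intro s hs
    obtain ⟨r, hr, rfl⟩ := List.mem_map.1 hs
    exact (hA r hr).2
  have h2 : nL hC K w * g * (nL hC K w)⁻¹ ∈ chevD4.posUnipotent K := by
    refine RS_le_U (L := B.map (wL chevD4 w)) ?_ (nL_conj_RS hw (fun r hr =>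
      ⟨(hB r hr).1, List.mem_map.2 ⟨r, hr, rfl⟩⟩) hb)
    intro s hs
    obtain ⟨r, hr, rfl⟩ := List.mem_map.1 hs
    exact (hB r hr).2
  exact conj_eq_one_iff.1 (U_inf_V hC h2 h1)

/-! ### The rank one subgroups -/

/-- The map from `SL₂` attached to a root. -/
noncomputable def phi (r : ℕ) (hr : r < 24) : SL →* GL chevD4.Idx K :=
  (SL2.exists_hom (SL2.rank1 (F := K) hC (lt24 hr))).choose

theorem phi_sx {r : ℕ} (hr : r < 24) (t : K) : phi r hr (SL2.sx t) = xx r t :=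
  (SL2.exists_hom (SL2.rank1 (F := K) hC (lt24 hr))).choose_spec.1 t

theorem phi_sy {r : ℕ} (hr : r < 24) (t : K) :
    phi r hr (SL2.sy t) = xx (chevD4.neg r) t :=
  (SL2.exists_hom (SL2.rank1 (F := K) hC (lt24 hr))).choose_spec.2.1 t

theorem xx_comm_of_nil {r s : ℕ} (hr : r < 24) (hs : s < 24) (h1 : s ≠ r) (h2 : s ≠ chevD4.neg r)
    (h : chevD4.commTerms r s = []) (t u : K) : Commute (xx r t) (xx s u) := by
  have := xg_comm hC hr hs h1 h2 t u
  simp only [ChevalleyDatum.commWord, h, List.map_nil, List.prod_nil, mul_one] at this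
  exact this.symm

theorem phi_comm {r s : ℕ} (hr : r < 24) (hs : s < 24)
    (h : ∀ a ∈ [r, chevD4.neg r], ∀ b ∈ [s, chevD4.neg s],
      a < 24 ∧ b < 24 ∧ b ≠ a ∧ b ≠ chevD4.neg a ∧ chevD4.commTerms a b = [])
    (g g' : SL) : Commute (phi r hr g) (phi s hs g') := by
  have step : ∀ a ∈ [r, chevD4.neg r], ∀ t : K, Commute (xx a t) (phi s hs g') := by
    intro a ha t
    have hm := SL2.mem_of_generators
      (K := (Subgroup.centralizer {(xx a t : GG)}).comap (phi s hs)) ?_ ?_ g'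
    · exact Subgroup.mem_centralizer_iff.1 hm _ rfl
    all_goals
      intro u
      refine Subgroup.mem_centralizer_iff.2 fun y hy => ?_
      rw [Set.mem_singleton_iff.1 hy]
    · rw [phi_sx]
      obtain ⟨h1, h2, h3, h4, h5⟩ := h a ha s (by simp)
      exact (xx_comm_of_nil h1 h2 h3 h4 h5 t u).eq
    · rw [phi_sy]
      obtain ⟨h1, h2, h3, h4, h5⟩ := h a ha (chevD4.neg s) (by simp)
      exact (xx_comm_of_nil h1 h2 h3 h4 h5 t u).eq
  have hm := SL2.mem_of_generators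
    (K := (Subgroup.centralizer {(phi s hs g' : GG)}).comap (phi r hr)) ?_ ?_ g
  · exact (Subgroup.mem_centralizer_iff.1 hm _ rfl).symm
  all_goals
    intro u
    refine Subgroup.mem_centralizer_iff.2 fun y hy => ?_
    rw [Set.mem_singleton_iff.1 hy]
  · rw [phi_sx]; exact (step r (by simp) u).eq.symm
  · rw [phi_sy]; exact (step _ (by simp) u).eq.symm

theorem orth_ok : (∀ a ∈ [18, chevD4.neg 18], ∀ b ∈ [13, chevD4.neg 13],
      a < 24 ∧ b < 24 ∧ b ≠ a ∧ b ≠ chevD4.neg a ∧ chevD4.commTerms a b = []) ∧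
    (∀ a ∈ [18, chevD4.neg 18], ∀ b ∈ [12, chevD4.neg 12],
      a < 24 ∧ b < 24 ∧ b ≠ a ∧ b ≠ chevD4.neg a ∧ chevD4.commTerms a b = []) ∧
    (∀ a ∈ [13, chevD4.neg 13], ∀ b ∈ [12, chevD4.neg 12],
      a < 24 ∧ b < 24 ∧ b ≠ a ∧ b ≠ chevD4.neg a ∧ chevD4.commTerms a b = []) ∧
    (∀ a ∈ [23, chevD4.neg 23], ∀ s ∈ [18, 13, 12], ∀ b ∈ [s, chevD4.neg s],
      a < 24 ∧ b < 24 ∧ b ≠ a ∧ b ≠ chevD4.neg a ∧ chevD4.commTerms a b = []) := by decide +kernel

variable (θ : K →+* K)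

/-- The map on `SL₂` induced by the field map. -/
def fm : SL →* SL := Matrix.SpecialLinearGroup.map θ

theorem fm_sx (t : K) : fm θ (SL2.sx t) = SL2.sx (θ t) := by
  ext i j; fin_cases i <;> fin_cases j <;> simp [fm]

theorem fm_sy (t : K) : fm θ (SL2.sy t) = SL2.sy (θ t) := by
  ext i j; fin_cases i <;> fin_cases j <;> simp [fm]

/-- The map of the outer orbit. -/
noncomputable def Phi0 : SL →* GL chevD4.Idx K :=
  MonoidHom.mk' (fun g => phi 18 (by decide) g *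
      (phi 13 (by decide) (fm θ g) * phi 12 (by decide) (fm θ (fm θ g)))) fun g g' => by
    simp only [map_mul]
    set a := phi (K := K) 18 (by decide) g
    set a' := phi (K := K) 18 (by decide) g'
    set b := phi (K := K) 13 (by decide) (fm θ g)
    set b' := phi (K := K) 13 (by decide) (fm θ g')
    set c := phi (K := K) 12 (by decide) (fm θ (fm θ g))
    set c' := phi (K := K) 12 (by decide) (fm θ (fm θ g'))
    have hab : Commute a' b := phi_comm _ _ orth_ok.1 _ _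
    have hac : Commute a' c := phi_comm _ _ orth_ok.2.1 _ _
    have hbc : Commute b' c := phi_comm _ _ orth_ok.2.2.1 _ _
    calc a * a' * (b * b' * (c * c')) = a * (a' * b) * (b' * c) * c' := by group
      _ = a * b * (a' * c) * b' * c' := by rw [hab.eq, hbc.eq]; group
      _ = _ := by rw [hac.eq]; group

/-- The maps of the two orbits. -/
noncomputable def Phi (i : Fin 2) : SL →* GL chevD4.Idx K :=
  if i = 0 then Phi0 θ else phi 14 (by decide)

/-- The positive root elements of the orbits. -/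
noncomputable def Xp (i : Fin 2) (t : K) : GL chevD4.Idx K := Phi θ i (SL2.sx t)

/-- The negative root elements of the orbits. -/
noncomputable def Yn (i : Fin 2) (t : K) : GL chevD4.Idx K := Phi θ i (SL2.sy t)

theorem Xp0 (t : K) : Xp θ 0 t = xx 18 t * (xx 13 (θ t) * xx 12 (θ (θ t))) := by
  simp [Xp, Phi, Phi0, fm_sx, phi_sx]

theorem Xp1 (t : K) : Xp θ 1 t = xx 14 t := by simp [Xp, Phi, phi_sx]

theorem neg_simples : chevD4.neg 18 = 5 ∧ chevD4.neg 13 = 10 ∧ chevD4.neg 12 = 11 ∧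
    chevD4.neg 14 = 9 ∧ chevD4.neg 23 = 0 := by decide +kernel

theorem Yn0 (t : K) : Yn θ 0 t = xx 5 t * (xx 10 (θ t) * xx 11 (θ (θ t))) := by
  simp [Yn, Phi, Phi0, fm_sy, phi_sy, neg_simples]

theorem Yn1 (t : K) : Yn θ 1 t = xx 9 t := by simp [Yn, Phi, phi_sy, neg_simples]

theorem Xp_mem_RS (i : Fin 2) (t : K) : Xp θ i t ∈ RS K (Ps i) := by
  fin_cases i
  · show Xp θ 0 t ∈ RS K (Ps 0)
    rw [Xp0]
    exact mul_mem (xx_mem_RS (by simp [Ps]) _)
      (mul_mem (xx_mem_RS (by simp [Ps]) _) (xx_mem_RS (by simp [Ps]) _))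
  · show Xp θ 1 t ∈ RS K (Ps 1)
    rw [Xp1]
    exact xx_mem_RS (by simp [Ps]) _

theorem Yn_mem_RS (i : Fin 2) (t : K) : Yn θ i t ∈ RS K (Ns i) := by
  fin_cases i
  · show Yn θ 0 t ∈ RS K (Ns 0)
    rw [Yn0]
    exact mul_mem (xx_mem_RS (by simp [Ns]) _)
      (mul_mem (xx_mem_RS (by simp [Ns]) _) (xx_mem_RS (by simp [Ns]) _))
  · show Yn θ 1 t ∈ RS K (Ns 1)
    rw [Yn1]
    exact xx_mem_RS (by simp [Ns]) _

theorem Xp_add (i : Fin 2) (s t : K) : Xp θ i (s + t) = Xp θ i s * Xp θ i t := by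
  rw [Xp, Xp, Xp, ← map_mul]
  congr 1
  ext a b; fin_cases a <;> fin_cases b <;> simp [Matrix.mul_apply, Fin.sum_univ_two, add_comm]

theorem Yn_add (i : Fin 2) (s t : K) : Yn θ i (s + t) = Yn θ i s * Yn θ i t := by
  rw [Yn, Yn, Yn, ← map_mul]
  congr 1
  ext a b; fin_cases a <;> fin_cases b <;> simp [Matrix.mul_apply, Fin.sum_univ_two]

theorem Xp_zero (i : Fin 2) : Xp θ i 0 = (1 : GG) := by
  have h := Xp_add θ i 0 0
  rw [add_zero] at h
  exact mul_eq_left.1 h.symm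

theorem Yn_zero (i : Fin 2) : Yn θ i 0 = (1 : GG) := by
  have h := Yn_add θ i 0 0
  rw [add_zero] at h
  exact mul_eq_left.1 h.symm

theorem Xp_inv (i : Fin 2) (t : K) : (Xp θ i t)⁻¹ = Xp θ i (-t) :=
  inv_eq_of_mul_eq_one_right (by rw [← Xp_add, add_neg_cancel, Xp_zero])

theorem Yn_inv (i : Fin 2) (t : K) : (Yn θ i t)⁻¹ = Yn θ i (-t) :=
  inv_eq_of_mul_eq_one_right (by rw [← Yn_add, add_neg_cancel, Yn_zero])

/-! ### The torus -/

/-- The torus element with two parameters. -/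
def tt (a b : Kˣ) : GL chevD4.Idx K := tor chevD4 (Twist.D4.dvec θ b a)

theorem tt_mul (a b a' b' : Kˣ) : tt θ a b * tt θ a' b' = tt θ (a * a') (b * b') := by
  rw [tt, tt, tt, tor_mul, Twist.D4.dvec_mul]

theorem tt_one : tt θ (1 : Kˣ) 1 = (1 : GG) := by
  have e : Twist.D4.dvec θ (1 : Kˣ) 1 = 1 := by funext i; simp [Twist.D4.dvec]
  rw [tt, e, tor_one]

theorem tt_inv (a b : Kˣ) : (tt θ a b : GG)⁻¹ = tt θ a⁻¹ b⁻¹ := by
  refine inv_eq_of_mul_eq_one_right ?_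
  rw [tt_mul, mul_inv_cancel, mul_inv_cancel, tt_one]

theorem tt_mem_H (a b : Kˣ) : tt θ a b ∈ chevD4.diagonalSubgroup K := tor_mem_H hC _

/-- The character of a root on the torus. -/
def chi (a b : Kˣ) (r : ℕ) : K :=
  ((torChar chevD4 (Twist.D4.dvec θ b a) r : Kˣ) : K)

theorem tt_conj (a b : Kˣ) (r : ℕ) (hr : r < 24) (t : K) :
    tt θ a b * xx r t * (tt θ a b)⁻¹ = xx r (chi θ a b r * t) := tor_conj_x hC _ r t (lt24 hr)

theorem tor_congr4 {c c' : ℕ → Kˣ} (h : ∀ i < 4, c i = c' i) :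
    (tor chevD4 c : GG) = tor chevD4 c' :=
  dg_congr fun s _ => Finset.prod_congr rfl fun i hi => by
    rw [h i (by rw [Finset.mem_range] at hi; exact hi)]

/-- A diagonal element as a word. -/
def dw (a : Kˣ) : SL :=
  SL2.sx (a : K) * SL2.sy (-(a : K)⁻¹) * SL2.sx (a : K) *
    (SL2.sx (-1 : K) * SL2.sy 1 * SL2.sx (-1 : K))

theorem coe_dw (a : Kˣ) :
    ((dw a : SL) : Matrix (Fin 2) (Fin 2) K) = !![(a : K), 0; 0, (a : K)⁻¹] := by
  ext i j
  fin_cases i <;> fin_cases j <;> simp [dw, Matrix.mul_apply, Fin.sum_univ_two]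

theorem fm_dw (a : Kˣ) : fm θ (dw a) = dw (Units.map θ.toMonoidHom a) := by
  simp only [dw, map_mul, fm_sx, fm_sy, map_neg, map_one, map_inv₀]
  rfl

theorem phi_dw {r : ℕ} (hr : r < 24) (a : Kˣ) : phi r hr (dw a) = hg hC r (a : K) := by
  simp only [dw, map_mul, phi_sx, phi_sy, hg, ng, inv_neg, inv_one, neg_neg]

theorem simple_vals : chevD4.simple 0 = 18 ∧ chevD4.simple 1 = 14 ∧ chevD4.simple 2 = 13 ∧
    chevD4.simple 3 = 12 ∧ chevD4.rank = 4 := by decide +kernel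

theorem hg_node {i : ℕ} (hi : i < 4) (a : Kˣ) :
    hg hC (chevD4.simple i) (a : K) = tor chevD4 fun j => if j = i then a else 1 :=
  hg_simple hC (by rw [simple_vals.2.2.2.2]; exact hi) a

theorem Phi0_dw (a : Kˣ) : Phi θ 0 (dw a) = tt θ a 1 := by
  obtain ⟨s0, -, s2, s3, -⟩ := simple_vals
  show phi 18 _ (dw a) * (phi 13 _ (fm θ (dw a)) * phi 12 _ (fm θ (fm θ (dw a)))) = _
  rw [fm_dw, fm_dw, phi_dw, phi_dw, phi_dw, ← s0, ← s2, ← s3, hg_node (by norm_num),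
    hg_node (by norm_num), hg_node (by norm_num), tor_mul, tor_mul]
  refine tor_congr4 fun j hj => ?_
  interval_cases j <;> simp [Twist.D4.dvec, Twist.D4.Θu]

theorem Phi1_dw (b : Kˣ) : Phi θ 1 (dw b) = tt θ 1 b := by
  show phi 14 (by decide) (dw b) = _
  rw [phi_dw, ← simple_vals.2.1, hg_node (by norm_num)]
  refine tor_congr4 fun j hj => ?_
  interval_cases j <;> simp [Twist.D4.dvec]

theorem hg23 (d : Kˣ) (hd : θ (d : K) = d) : hg hC 23 (d : K) = tt θ d (d * d) := by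
  rw [hg_eq_tor hC (lt24 (by norm_num))]
  refine tor_congr4 fun j hj => ?_
  have e : Twist.D4.Θu θ d = d := Units.ext hd
  have hc : ∀ j < 4, cor chevD4 23 j = if j = 1 then 2 else 1 := by decide +kernel
  rw [hc j hj]
  interval_cases j <;> simp [Twist.D4.dvec, e, zpow_ofNat, pow_two]

theorem ldu {M : SL} (h : SL2.el M 0 0 ≠ 0) :
    M = SL2.sy (SL2.el M 1 0 / SL2.el M 0 0) * dw (Units.mk0 _ h) *
      SL2.sx (SL2.el M 0 1 / SL2.el M 0 0) := by
  have hdet := SL2.el_det M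
  apply Subtype.ext
  rw [Matrix.SpecialLinearGroup.coe_mul, Matrix.SpecialLinearGroup.coe_mul, coe_dw]
  ext i j
  fin_cases i <;> fin_cases j <;>
    simp [SL2.el, Matrix.mul_apply, Fin.sum_univ_two] at h hdet ⊢ <;> field_simp
  linear_combination hdet

theorem sx_sy {r c : K} (hs : 1 + r * c ≠ 0) :
    (SL2.sx r * SL2.sy c : SL) =
      SL2.sy (c / (1 + r * c)) * dw (Units.mk0 _ hs) * SL2.sx (r / (1 + r * c)) := by
  apply Subtype.ext
  rw [Matrix.SpecialLinearGroup.coe_mul, Matrix.SpecialLinearGroup.coe_mul,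
    Matrix.SpecialLinearGroup.coe_mul, coe_dw]
  ext i j
  fin_cases i <;> fin_cases j <;>
    simp [Matrix.mul_apply, Fin.sum_univ_two] <;>
    generalize hS : 1 + r * c = S at hs ⊢ <;> field_simp <;> rw [← hS] <;> ring

/-- The torus elements of the two orbits. -/
def th (i : Fin 2) (s : Kˣ) : GL chevD4.Idx K := if i = 0 then tt θ s 1 else tt θ 1 s

theorem Phi_dw (i : Fin 2) (s : Kˣ) : Phi θ i (dw s) = th θ i s := by
  fin_cases i
  · exact Phi0_dw θ s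
  · exact Phi1_dw θ s

theorem Xp_Yn (i : Fin 2) {r c : K} (hs : 1 + r * c ≠ 0) :
    Xp θ i r * Yn θ i c =
      Yn θ i (c / (1 + r * c)) * th θ i (Units.mk0 _ hs) * Xp θ i (r / (1 + r * c)) := by
  have := congrArg (Phi θ i) (sx_sy hs)
  simp only [map_mul, Phi_dw] at this
  exact this

/-! ### Opposite unipotent subgroups -/

/-- The longest element. -/
def n0 : GL chevD4.Idx K := nL hC K w0

/-- Conjugation by the longest element. -/
def om : MulAut (GL chevD4.Idx K) := MulAut.conj n0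

theorem om_apply (g : GG) : om g = n0 * g * n0⁻¹ := rfl

theorem om_RS {L M : List ℕ} (h : ∀ r ∈ L, r < 24 ∧ chevD4.neg r ∈ M) {g : GG} (hg : g ∈ RS K L) :
    om g ∈ RS K M := by
  rw [om_apply]
  exact nL_conj_RS w0_lt (fun r hr => ⟨(h r hr).1, by rw [wL_w0 r (h r hr).1]; exact (h r hr).2⟩) hg

theorem nL_conj_tor {L : List ℕ} (hL : ∀ i ∈ L, i < chevD4.rank) (c : ℕ → Kˣ) :
    ∃ c' : ℕ → Kˣ, nL hC K L * tor chevD4 c * (nL hC K L)⁻¹ = tor chevD4 c' ∧
      ∀ s < 24, torChar chevD4 c' s = torChar chevD4 c (wL chevD4 L.reverse s) := by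
  induction L with
  | nil => exact ⟨c, by simp [nL], fun s _ => rfl⟩
  | cons i L ih =>
    have hi := hL i List.mem_cons_self
    obtain ⟨c1, h1, h1'⟩ := ih fun j hj => hL j (List.mem_cons_of_mem i hj)
    obtain ⟨c2, h2, h2'⟩ := ng_conj_tor hC hi c1
    refine ⟨c2, ?_, fun s hs => ?_⟩
    · rw [← h2, ← h1, show nL hC K (i :: L) = ng hC (chevD4.simple i) 1 * nL hC K L by simp [nL]]
      group
    · rw [h2' s hs, h1' _ (hC.reflect_lt hi (lt24 hs)), List.reverse_cons, wL_append]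
      rfl

theorem om_tor (c : ℕ → Kˣ) : om (tor chevD4 c) = (tor chevD4 c : GG)⁻¹ := by
  obtain ⟨c', h, h'⟩ := nL_conj_tor w0_lt c
  rw [om_apply, tor_inv, show n0 * tor chevD4 c * n0⁻¹ = tor chevD4 c' from h]
  refine dg_congr fun s hs => ?_
  rw [h' s hs, wL_w0_rev s hs, Twist.torChar_neg hC _ hs]
  simp [torChar, Finset.prod_inv_distrib]

theorem om_tt (a b : Kˣ) : om (tt θ a b) = (tt θ a b : GG)⁻¹ := om_tor _

theorem H_conj_RS {L : List ℕ} (hL : ∀ r ∈ L, r < 24) {h g : GG}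
    (hh : h ∈ chevD4.diagonalSubgroup K) (hg : g ∈ RS K L) : h * g * h⁻¹ ∈ RS K L := by
  obtain ⟨c, rfl⟩ := (mem_H_iff hC).1 hh
  suffices key : RS K L ≤ (RS K L).comap (MulAut.conj (tor chevD4 c)).toMonoidHom from key hg
  refine RS_le fun r hr t => ?_
  show tor chevD4 c * xx r t * (tor chevD4 c)⁻¹ ∈ RS K L
  rw [tor_conj_x hC _ r t (lt24 (hL r hr))]
  exact xx_mem_RS hr _

/-! ### Facts on the lists -/

theorem list_ok : (∀ i : Fin 2, ∀ s ∈ Ps i ++ Ns i, CommOK (Rp i) s ∧ CommOK (Rn i) s) ∧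
    (∀ i : Fin 2, ∀ r, (r ∈ Rp i ++ Ps i → 12 ≤ r ∧ r < 24) ∧ (r ∈ Rn i ++ Ns i → r < 12)) := by
  refine ⟨by decide +kernel, fun i r => ⟨fun h => ?_, fun h => ?_⟩⟩
  · fin_cases i <;> simp [Rp, Ps] at h <;> omega
  · fin_cases i <;> simp [Rn, Ns] at h <;> omega

theorem cover_ok : ∀ i : Fin 2, ∀ r < 24, (12 ≤ r → r ∈ Rp i ++ Ps i) ∧ (r < 12 → r ∈ Rn i ++ Ns i) := by
  decide +kernel

theorem neg_lists : ∀ i : Fin 2, (∀ r ∈ Rp i, r < 24 ∧ chevD4.neg r ∈ Rn i) ∧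
    (∀ r ∈ Rn i, r < 24 ∧ chevD4.neg r ∈ Rp i) ∧ (∀ r ∈ Ps i, r < 24 ∧ chevD4.neg r ∈ Ns i) ∧
    (∀ r ∈ Ns i, r < 24 ∧ chevD4.neg r ∈ Ps i) := by decide +kernel

theorem sep_ok : ∀ i : Fin 2,
    (∀ r ∈ Ps i, r < 24 ∧ wL chevD4 (Jw i) r < 12) ∧
    (∀ r ∈ Rp i, r < 24 ∧ 12 ≤ wL chevD4 (Jw i) r ∧ wL chevD4 (Jw i) r < 24) ∧
    (∀ r ∈ Rn i, r < 24 ∧ wL chevD4 (Jw i) r < 12) ∧
    (∀ r ∈ Ns i, r < 24 ∧ 12 ≤ wL chevD4 (Jw i) r ∧ wL chevD4 (Jw i) r < 24) := by decide +kernel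

theorem RS_Rp_le_U (i : Fin 2) : RS K (Rp i) ≤ chevD4.posUnipotent K :=
  RS_le_U fun r hr => (list_ok.2 i r).1 (List.mem_append_left _ hr)

theorem RS_Rn_le_V (i : Fin 2) : RS K (Rn i) ≤ chevD4.negUnipotent K :=
  RS_le_V fun r hr => (list_ok.2 i r).2 (List.mem_append_left _ hr)

theorem U_le_RS (i : Fin 2) : chevD4.posUnipotent K ≤ RS K (Rp i ++ Ps i) := by
  rw [U_eq_closure hC, Subgroup.closure_le]
  rintro g ⟨r, t, hr, hp, rfl⟩
  exact xx_mem_RS ((cover_ok i r hr).1 ((phi_pos r hr).1 hp)) t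

theorem V_le_RS (i : Fin 2) : chevD4.negUnipotent K ≤ RS K (Rn i ++ Ns i) := by
  rw [V_eq_closure hC, Subgroup.closure_le]
  rintro g ⟨r, t, hr, hp, rfl⟩
  exact xx_mem_RS ((cover_ok i r hr).2 ((phi_neg r hr).1 hp)) t

theorem Phi_mem_RS (i : Fin 2) (g : SL) : Phi θ i g ∈ RS K (Ps i ++ Ns i) :=
  SL2.mem_of_generators (K := (RS K (Ps i ++ Ns i)).comap (Phi θ i))
    (fun t => RS_mono (fun _ h => List.mem_append_left _ h) (Xp_mem_RS θ i t))
    (fun t => RS_mono (fun _ h => List.mem_append_right _ h) (Yn_mem_RS θ i t)) g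

theorem conj_Rp {i : Fin 2} {y u : GG} (hy : y ∈ RS K (Ps i ++ Ns i)) (hu : u ∈ RS K (Rp i)) :
    y * u * y⁻¹ ∈ RS K (Rp i) := RS_conj_RS (fun s hs => (list_ok.1 i s hs).1) hy hu

theorem conj_Rn {i : Fin 2} {y u : GG} (hy : y ∈ RS K (Ps i ++ Ns i)) (hu : u ∈ RS K (Rn i)) :
    y * u * y⁻¹ ∈ RS K (Rn i) := RS_conj_RS (fun s hs => (list_ok.1 i s hs).2) hy hu

theorem Ps_le (i : Fin 2) : RS K (Ps i) ≤ RS K (Ps i ++ Ns i) :=
  RS_mono fun _ h => List.mem_append_left _ h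

theorem Ns_le (i : Fin 2) : RS K (Ns i) ≤ RS K (Ps i ++ Ns i) :=
  RS_mono fun _ h => List.mem_append_right _ h

theorem H_conj_Rp (i : Fin 2) {h u : GG} (hh : h ∈ chevD4.diagonalSubgroup K)
    (hu : u ∈ RS K (Rp i)) : h * u * h⁻¹ ∈ RS K (Rp i) :=
  H_conj_RS (fun _ hr => ((neg_lists i).1 _ hr).1) hh hu

theorem H_conj_Rn (i : Fin 2) {h u : GG} (hh : h ∈ chevD4.diagonalSubgroup K)
    (hu : u ∈ RS K (Rn i)) : h * u * h⁻¹ ∈ RS K (Rn i) :=
  H_conj_RS (fun _ hr => ((neg_lists i).2.1 _ hr).1) hh hu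

end Cfsg.Agent.Involutions.ClassSquare.D4
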