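import Cfsg.Agent.Lib.Involutions.ClassSquare.G2Cases
import Cfsg.Agent.Lib.Involutions.ClassSquare.D4Group

/-!
Elliptic elements of the outer Levi factor of a triality twisted group act on both radicals without
fixed points.
-/

set_option autoImplicit false
set_option linter.unusedSectionVars false

open scoped Matrix

namespace Cfsg.Agent.Involutions.ClassSquare.D4

open Cfsg.Lie Cfsg.Agent.Chevalley Cfsg.Agent.Chevalley.Cert Cfsg.Agent.Chevalley.Group
  Cfsg.Agent.Chevalley.Table Cfsg.Agent.Chevalley.Unip Cfsg.Agent.Chevalley.Bruhat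
  Cfsg.Agent.Chevalley.Borel

variable {K : Type*} [Field K] [Fintype K] (E : Env K)

local notation "GG" => GL chevD4.Idx K
local notation "M2" => Matrix (Fin 2) (Fin 2) K
local notation "SL" => Matrix.SpecialLinearGroup (Fin 2) K
local notation "det'" => Matrix.GeneralLinearGroup.det

/-! ### Characters -/

theorem chi_fix (θ : K →+* K) (a b : Kˣ) (ha : θ (a : K) = a) (r : ℕ) :
    chi θ a b r = ((a ^ (chevD4.cartan 0 r + chevD4.cartan 2 r + chevD4.cartan 3 r) *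
      b ^ chevD4.cartan 1 r : Kˣ) : K) := by
  have e : Twist.D4.Θu θ a = a := Units.ext ha
  rw [chi, torChar, simple_vals.2.2.2.2]
  congr 1
  simp only [Finset.prod_range_succ, Finset.prod_range_zero, one_mul, Twist.D4.dvec, e]
  simp only [show (0 : ℕ) ≠ 1 by decide, show (2 : ℕ) ≠ 1 by decide, show (3 : ℕ) ≠ 1 by decide,
    show (2 : ℕ) ≠ 0 by decide, show (3 : ℕ) ≠ 0 by decide, show (3 : ℕ) ≠ 2 by decide, if_true,
    if_false, e]
  rw [zpow_add, zpow_add]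
  ac_rfl

theorem weight_ok : ∀ r ∈ [14, 15, 16, 17, 19, 20, 21, 22],
    chevD4.cartan 0 r + chevD4.cartan 2 r + chevD4.cartan 3 r + 2 * chevD4.cartan 1 r = 1 := by
  decide +kernel

theorem weight_det : (∀ r ∈ [18, 13, 12],
      chevD4.cartan 0 r + chevD4.cartan 2 r + chevD4.cartan 3 r + chevD4.cartan 1 r = 1) ∧
    (∀ r ∈ [5, 10, 11],
      chevD4.cartan 0 r + chevD4.cartan 2 r + chevD4.cartan 3 r + chevD4.cartan 1 r = -1) ∧
    chevD4.cartan 0 23 + chevD4.cartan 2 23 + chevD4.cartan 3 23 + chevD4.cartan 1 23 = 1 ∧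
    chevD4.cartan 0 0 + chevD4.cartan 2 0 + chevD4.cartan 3 0 + chevD4.cartan 1 0 = -1 := by
  decide +kernel

theorem chi_diag (θ : K →+* K) (d : Kˣ) (hd : θ (d : K) = d) {r : ℕ} {k : ℤ}
    (h : chevD4.cartan 0 r + chevD4.cartan 2 r + chevD4.cartan 3 r + chevD4.cartan 1 r = k) :
    chi θ d d r = ((d ^ k : Kˣ) : K) := by
  rw [chi_fix θ d d hd, ← zpow_add, h]

/-! ### The Levi factor -/

theorem phi_cd (θ : K →+* K) (d : Kˣ) (hd : θ (d : K) = d) (N : SL) :
    tt θ d d * Phi θ 0 N * (tt θ d d)⁻¹ = Phi θ 0 (G2.cd d N) := by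
  have h := SL2.mem_of_generators (K := MonoidHom.eqLocus
    ((MulAut.conj (tt θ d d : GG)).toMonoidHom.comp (Phi θ 0))
    ((Phi θ 0).comp (G2.cd d))) (fun t => ?_) (fun t => ?_) N
  · exact h
  · show tt θ d d * Xp θ 0 t * (tt θ d d)⁻¹ = Phi θ 0 (G2.cd d (SL2.sx t))
    have e : G2.cd d (SL2.sx t) = SL2.sx ((d : K) * t) := by
      ext i j; fin_cases i <;> fin_cases j <;> simp [G2.coe_cd, SL2.el]
    rw [e, show Phi θ 0 (SL2.sx ((d : K) * t)) = Xp θ 0 ((d : K) * t) from rfl, Xp0, Xp0]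
    have c : ∀ r ∈ [18, 13, 12], ∀ u : K, tt θ d d * xx r u * (tt θ d d)⁻¹ = xx r ((d : K) * u) := by
      intro r hr u
      rw [tt_conj θ _ _ _ ((show ∀ r ∈ [18, 13, 12], r < 24 by decide) r hr),
        chi_diag θ d hd (weight_det.1 r hr), zpow_one]
    calc _ = (tt θ d d * xx 18 t * (tt θ d d)⁻¹) * ((tt θ d d * xx 13 (θ t) * (tt θ d d)⁻¹) *
          (tt θ d d * xx 12 (θ (θ t)) * (tt θ d d)⁻¹)) := by group
      _ = _ := by rw [c 18 (by simp), c 13 (by simp), c 12 (by simp), map_mul, map_mul, hd, hd]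
  · show tt θ d d * Yn θ 0 t * (tt θ d d)⁻¹ = Phi θ 0 (G2.cd d (SL2.sy t))
    have e : G2.cd d (SL2.sy t) = SL2.sy ((d : K)⁻¹ * t) := by
      ext i j; fin_cases i <;> fin_cases j <;> simp [G2.coe_cd, SL2.el]
    rw [e, show Phi θ 0 (SL2.sy ((d : K)⁻¹ * t)) = Yn θ 0 ((d : K)⁻¹ * t) from rfl, Yn0, Yn0]
    have c : ∀ r ∈ [5, 10, 11], ∀ u : K, tt θ d d * xx r u * (tt θ d d)⁻¹ = xx r ((d : K)⁻¹ * u) := by
      intro r hr u
      rw [tt_conj θ _ _ _ ((show ∀ r ∈ [5, 10, 11], r < 24 by decide) r hr),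
        chi_diag θ d hd (weight_det.2.1 r hr), zpow_neg_one, Units.val_inv_eq_inv_val]
    calc _ = (tt θ d d * xx 5 t * (tt θ d d)⁻¹) * ((tt θ d d * xx 10 (θ t) * (tt θ d d)⁻¹) *
          (tt θ d d * xx 11 (θ (θ t)) * (tt θ d d)⁻¹)) := by group
      _ = _ := by
        rw [c 5 (by simp), c 10 (by simp), c 11 (by simp), map_mul, map_mul, map_inv₀, hd, map_inv₀,
          hd]

/-- The map of the Levi factor. -/
noncomputable def Lev (M : GL (Fin 2) K) : GL chevD4.Idx K :=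
  Phi E.θ 0 (G2.unim M) * tt E.θ (det' M) (det' M)

/-- The determinant lies in the fixed field. -/
def DFix (M : GL (Fin 2) K) : Prop := E.θ ((det' M : Kˣ) : K) = (det' M : Kˣ)

theorem DFix.mul {M N : GL (Fin 2) K} (hM : DFix E M) (hN : DFix E N) : DFix E (M * N) := by
  rw [DFix, map_mul, Units.val_mul, map_mul, hM, hN]

theorem DFix.inv {M : GL (Fin 2) K} (hM : DFix E M) : DFix E M⁻¹ := by
  rw [DFix, map_inv, Units.val_inv_eq_inv_val, map_inv₀, hM]

theorem DFix.one : DFix E 1 := by rw [DFix, map_one, Units.val_one, map_one]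

theorem DFix.of_one {M : GL (Fin 2) K} (h : det' M = 1) : DFix E M := by
  rw [DFix, h, Units.val_one, map_one]

theorem Lev_one : Lev E 1 = 1 := by
  have e : G2.unim (1 : GL (Fin 2) K) = 1 := by
    ext i j; fin_cases i <;> fin_cases j <;> simp [G2.coe_unim]
  rw [Lev, e, map_one, map_one, tt_one, mul_one]

theorem Lev_mul {M N : GL (Fin 2) K} (hM : DFix E M) : Lev E (M * N) = Lev E M * Lev E N := by
  have e : G2.unim (M * N) = G2.unim M * G2.cd (det' M) (G2.unim N) := by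
    have h0 : (det' M : K) ≠ 0 := Units.ne_zero _
    have h1 : (det' N : K) ≠ 0 := Units.ne_zero _
    ext i j
    fin_cases i <;> fin_cases j <;>
      simp [G2.coe_unim, G2.coe_cd, SL2.el, Matrix.mul_apply, Fin.sum_univ_two,
        -Matrix.GeneralLinearGroup.val_det_apply] <;>
      field_simp
  rw [Lev, Lev, Lev, e, map_mul, map_mul, ← phi_cd E.θ _ hM, ← tt_mul]
  group

theorem Lev_inv {M : GL (Fin 2) K} (hM : DFix E M) : Lev E M⁻¹ = (Lev E M)⁻¹ :=
  (inv_eq_of_mul_eq_one_right (by rw [← Lev_mul E hM, mul_inv_cancel, Lev_one])).symm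

theorem Lev_conj {P M : GL (Fin 2) K} (hP : DFix E P) (hM : DFix E M) :
    Lev E (P * M * P⁻¹) = Lev E P * Lev E M * (Lev E P)⁻¹ := by
  rw [Lev_mul E (hP.mul E hM), Lev_mul E hP, Lev_inv E hP]

theorem Lev_pow {M : GL (Fin 2) K} (hM : DFix E M) (k : ℕ) : Lev E (M ^ k) = Lev E M ^ k := by
  induction k with
  | zero => rw [pow_zero, pow_zero, Lev_one]
  | succ k ih => rw [pow_succ', Lev_mul E hM, ih, pow_succ']

theorem Lev_mem {M : GL (Fin 2) K} (hM : DFix E M) : Lev E M ∈ E.G :=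
  mul_mem (Phi_mem E fun h => absurd h (by decide)) (tt_mem E _ hM)

theorem Lev_diag (u v : Kˣ) (M : GL (Fin 2) K) (hM : (M : M2) = !![(u : K), 0; 0, (v : K)]) :
    Lev E M = (tt E.θ u (u * v) : GG) := by
  have hd : det' M = u * v := by ext; simp [hM]
  have e : G2.unim M = dw v⁻¹ := by
    apply Subtype.ext
    rw [coe_dw]
    ext i j
    fin_cases i <;> fin_cases j <;> simp [G2.coe_unim, hd, hM]
    field_simp
  rw [Lev, e, Phi0_dw, hd, tt_mul, one_mul]
  congr 1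
  rw [mul_comm u v, inv_mul_cancel_left]

theorem Lev_upper (t : K) (M : GL (Fin 2) K) (hM : (M : M2) = !![1, t; 0, 1]) :
    Lev E M = Xp E.θ 0 t := by
  have hd : det' M = 1 := by ext; simp [hM]
  have e : G2.unim M = SL2.sx t := by
    ext i j; fin_cases i <;> fin_cases j <;> simp [G2.coe_unim, hd, hM]
  rw [Lev, e, hd, tt_one, mul_one]
  rfl

theorem Lev_lower (t : K) (M : GL (Fin 2) K) (hM : (M : M2) = !![1, 0; t, 1]) :
    Lev E M = Yn E.θ 0 t := by
  have hd : det' M = 1 := by ext; simp [hM]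
  have e : G2.unim M = SL2.sy t := by
    ext i j; fin_cases i <;> fin_cases j <;> simp [G2.coe_unim, hd, hM]
  rw [Lev, e, hd, tt_one, mul_one]
  rfl

theorem Lev_sG (s : Kˣ) : Lev E (G2.sG s) = (tt E.θ s (s * s) : GG) := Lev_diag E s s _ rfl

theorem Lev_conj_RS {L : List ℕ} (M : GL (Fin 2) K)
    (hL : ∀ s ∈ Ps 0 ++ Ns 0, CommOK L s) (hlt : ∀ r ∈ L, r < 24) {u : GG} (hu : u ∈ RS K L) :
    Lev E M * u * (Lev E M)⁻¹ ∈ RS K L := by
  rw [Lev]
  have := RS_conj_RS hL (Phi_mem_RS E.θ 0 (G2.unim M))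
    (H_conj_RS hlt (tt_mem_H E.θ (det' M) (det' M)) hu)
  simpa [mul_assoc] using! this

theorem Lev_conj_Rp (M : GL (Fin 2) K) {u : GG} (hu : u ∈ RS K (Rp 0)) :
    Lev E M * u * (Lev E M)⁻¹ ∈ RS K (Rp 0) :=
  Lev_conj_RS E M (fun s hs => (list_ok.1 0 s hs).1) (fun _ hr => ((neg_lists 0).1 _ hr).1) hu

theorem Lev_conj_Rn (M : GL (Fin 2) K) {v : GG} (hv : v ∈ RS K (Rn 0)) :
    Lev E M * v * (Lev E M)⁻¹ ∈ RS K (Rn 0) :=
  Lev_conj_RS E M (fun s hs => (list_ok.1 0 s hs).2) (fun _ hr => ((neg_lists 0).2.1 _ hr).1) hv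

/-! ### Fixed points -/

theorem phi23_comm {r : ℕ} (hr : r = 0 ∨ r = 23) (N : SL) (t : K) :
    Commute (xx r t) (Phi E.θ 0 N) := by
  have ok := orth_ok.2.2.2
  have key : ∀ s ∈ [18, 13, 12], ∀ (hs : s < 24) (g : SL), Commute (xx r t) (phi s hs g) := by
    intro s hs hs24 g
    have h := phi_comm (K := K) (by norm_num : (23 : ℕ) < 24) hs24 (fun a ha b hb => ok a ha s hs b hb)
    rcases hr with rfl | rfl
    · have := h (SL2.sy t) g
      rwa [phi_sy, neg_simples.2.2.2.2] at this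
    · have := h (SL2.sx t) g
      rwa [phi_sx] at this
  exact (key 18 (by simp) _ _).mul_right ((key 13 (by simp) _ _).mul_right (key 12 (by simp) _ _))

theorem Lev_conj_top {N : GL (Fin 2) K} (hN : DFix E N) (c : K) :
    Lev E N * xx 23 c * (Lev E N)⁻¹ = (xx 23 (((det' N : Kˣ) : K) * c) : GG) := by
  have e := tt_conj E.θ (det' N) (det' N) 23 (by norm_num) c
  rw [chi_diag E.θ _ hN weight_det.2.2.1, zpow_one] at e
  rw [Lev, mul_inv_rev, show ∀ a b y : GG, a * b * y * (b⁻¹ * a⁻¹) = a * (b * y * b⁻¹) * a⁻¹ from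
    fun a b y => by group, e, ← (phi23_comm E (Or.inr rfl) (G2.unim N) _).eq, mul_inv_cancel_right]

theorem Lev_conj_bot {N : GL (Fin 2) K} (hN : DFix E N) (c : K) :
    Lev E N * xx 0 c * (Lev E N)⁻¹ = (xx 0 (((det' N : Kˣ) : K)⁻¹ * c) : GG) := by
  have e := tt_conj E.θ (det' N) (det' N) 0 (by norm_num) c
  rw [chi_diag E.θ _ hN weight_det.2.2.2, zpow_neg_one, Units.val_inv_eq_inv_val] at e
  rw [Lev, mul_inv_rev, show ∀ a b y : GG, a * b * y * (b⁻¹ * a⁻¹) = a * (b * y * b⁻¹) * a⁻¹ from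
    fun a b y => by group, e, ← (phi23_comm E (Or.inl rfl) (G2.unim N) _).eq, mul_inv_cancel_right]

theorem posRoots_eq :
    chevD4.posRoots = [12, 13, 14, 15, 16, 17, 18, 19, 20, 21, 22, 23] := by decide +kernel

/-- An element of the radical fixed by a scalar element lies in the highest root group. -/
theorem fixed_top {s : Kˣ} (hsθ : E.θ (s : K) = s) (hs : (s : K) ≠ 1) {u : GG}
    (hu : u ∈ RS K (Rp 0)) (hc : tt E.θ s (s * s) * u * (tt E.θ s (s * s))⁻¹ = u) :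
    ∃ c : K, u = xx 23 c := by
  obtain ⟨f, hf⟩ := exists_prodX hC (RS_Rp_le_U 0 hu)
  have hscale : prodX hC chevD4.posRoots (fun r => chi E.θ s (s * s) r * f r) =
      prodX hC chevD4.posRoots f := by
    rw [← hf]
    refine Eq.trans ?_ hc
    rw [hf, ← MulAut.conj_apply, prodX, prodX, map_list_prod, List.map_map]
    refine congrArg List.prod (List.map_congr_left fun r hr => ?_)
    rw [Function.comp_apply, MulAut.conj_apply, tt_conj E.θ _ _ r ((mem_posRoots hC).1 hr).1]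
  have hinj := prodX_inj hC posRoots_sorted (fun r hr => (mem_posRoots hC).1 hr) hscale
  have hz : ∀ r ∈ [14, 15, 16, 17, 19, 20, 21, 22], f r = 0 := by
    intro r hr
    have h := hinj r (by rw [posRoots_eq]; exact (show ∀ r ∈ [14, 15, 16, 17, 19, 20, 21, 22],
      r ∈ [12, 13, 14, 15, 16, 17, 18, 19, 20, 21, 22, 23] by decide) r hr)
    have e : chi E.θ s (s * s) r = (s : K) := by
      rw [chi_fix E.θ s (s * s) hsθ, ← sq, ← zpow_natCast, ← zpow_mul, ← zpow_add]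
      rw [show chevD4.cartan 0 r + chevD4.cartan 2 r + chevD4.cartan 3 r +
        ((2 : ℕ) : ℤ) * chevD4.cartan 1 r = 1 from weight_ok r hr, zpow_one]
    simp only [e] at h
    have : ((s : K) - 1) * f r = 0 := by linear_combination h
    exact (mul_eq_zero.1 this).resolve_left (sub_ne_zero.2 hs)
  have e' : u = (xx 12 (f 12) * (xx 13 (f 13) * xx 18 (f 18))) * xx 23 (f 23) := by
    rw [hf, posRoots_eq]
    simp [prodX, hz 14, hz 15, hz 16, hz 17, hz 19, hz 20, hz 21, hz 22, xg_zero hC, mul_assoc]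
  have h1 : xx 12 (f 12) * (xx 13 (f 13) * xx 18 (f 18)) = (1 : GG) := by
    refine RS_inf (Jw_lt 0) (sep_ok 0).1 (sep_ok 0).2.1 ?_ ?_
    · exact mul_mem (xx_mem_RS (by simp [Ps]) _)
        (mul_mem (xx_mem_RS (by simp [Ps]) _) (xx_mem_RS (by simp [Ps]) _))
    · rw [eq_mul_inv_of_mul_eq e'.symm]
      exact mul_mem hu (inv_mem (xx_mem_RS (by simp [Rp]) _))
  exact ⟨f 23, by rw [e', h1, one_mul]⟩

/-- Elements of the Levi factor with a regular central power. -/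
def Tw (N : GL (Fin 2) K) : Prop :=
  DFix E N ∧ ∃ (k : ℕ) (s : Kˣ), N ^ k = G2.sG s ∧ E.θ (s : K) = s ∧ (s : K) ≠ 1 ∧
    ((det' N : Kˣ) : K) ≠ 1

theorem fixed_up {N : GL (Fin 2) K} (hN : Tw E N) {u : GG} (hu : u ∈ RS K (Rp 0))
    (hc : Lev E N * u = u * Lev E N) : u = 1 := by
  obtain ⟨hF, k, s, hk, hsθ, hs, hd⟩ := hN
  have hz : Commute (tt E.θ s (s * s)) u := by
    rw [← Lev_sG, ← hk, Lev_pow E hF]; exact Commute.pow_left hc k
  obtain ⟨c, rfl⟩ := fixed_top E hsθ hs hu (mul_inv_eq_iff_eq_mul.2 hz.eq)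
  have h := Lev_conj_top E hF c
  rw [mul_inv_eq_iff_eq_mul.2 hc] at h
  have h' := xg_injective hC (lt24 (show 23 < 24 by norm_num)) h
  have : (((det' N : Kˣ) : K) - 1) * c = 0 := by linear_combination -h'
  rw [(mul_eq_zero.1 this).resolve_left (sub_ne_zero.2 hd), xx_zero]

theorem fixed_dn {N : GL (Fin 2) K} (hN : Tw E N) {v : GG} (hv : v ∈ RS K (Rn 0))
    (hc : Lev E N * v = v * Lev E N) : v = 1 := by
  obtain ⟨hF, k, s, hk, hsθ, hs, hd⟩ := hN
  have hz : Commute (tt E.θ s (s * s)) v := by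
    rw [← Lev_sG, ← hk, Lev_pow E hF]; exact Commute.pow_left hc k
  have hz' : Commute (tt E.θ s (s * s)) (om v) := by
    have h := hz.map (om (K := K)).toMonoidHom
    simp only [MulEquiv.coe_toMonoidHom, om_tt] at h
    simpa using h.inv_left
  obtain ⟨c, hcv⟩ := fixed_top E hsθ hs (om_Rn 0 hv) (mul_inv_eq_iff_eq_mul.2 hz'.eq)
  obtain ⟨η, hη, e0⟩ := nL_conj_x (F := K) hC w0_lt (r := 0) (by decide)
  have e0' : ∀ a : K, om (xx 0 a) = xx 23 (η * a) := fun a => by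
    rw [om_apply, n0, e0, wL_w0 0 (by norm_num),
      show chevD4.neg 0 = 23 by decide +kernel]
  have hv0 : v = xx 0 (η⁻¹ * c) := (om (K := K)).injective (by
    rw [hcv, e0', mul_inv_cancel_left₀ hη])
  rw [hv0] at hc ⊢
  have h := Lev_conj_bot E hF (η⁻¹ * c)
  rw [mul_inv_eq_iff_eq_mul.2 hc] at h
  have h' := xg_injective hC (lt24 (show 0 < 24 by norm_num)) h
  have : (((det' N : Kˣ) : K)⁻¹ - 1) * (η⁻¹ * c) = 0 := by linear_combination -h'
  rw [(mul_eq_zero.1 this).resolve_left (sub_ne_zero.2 fun h => hd (inv_eq_one.1 h)), xx_zero]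

theorem twist_dn {N : GL (Fin 2) K} (hN : Tw E N) {v : GG} (hv : v ∈ RS K (Rn 0)) (hvG : v ∈ E.G) :
    ∃ a ∈ E.G, v * Lev E N = a * Lev E N * a⁻¹ := by
  obtain ⟨w, hw, e⟩ := G2.twist_bij (z := Lev E N) (U := RS K (Rn 0) ⊓ E.G)
    (fun u hu => Subgroup.mem_inf.2 ⟨Lev_conj_Rn E N (Subgroup.mem_inf.1 hu).1,
      mul_mem (mul_mem (Lev_mem E hN.1) (Subgroup.mem_inf.1 hu).2) (inv_mem (Lev_mem E hN.1))⟩)
    (fun u hu h => fixed_dn E hN (Subgroup.mem_inf.1 hu).1 h) (Subgroup.mem_inf.2 ⟨hv, hvG⟩)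
  exact ⟨w, (Subgroup.mem_inf.1 hw).2, e⟩

theorem twist_up {N : GL (Fin 2) K} (hN : Tw E N) {u : GG} (hu : u ∈ RS K (Rp 0)) (huG : u ∈ E.G) :
    ∃ a ∈ E.G, Lev E N * u = a * Lev E N * a⁻¹ := by
  obtain ⟨w, hw, e⟩ := G2.twist_bij (z := Lev E N) (U := RS K (Rp 0) ⊓ E.G)
    (fun u hu => Subgroup.mem_inf.2 ⟨Lev_conj_Rp E N (Subgroup.mem_inf.1 hu).1,
      mul_mem (mul_mem (Lev_mem E hN.1) (Subgroup.mem_inf.1 hu).2) (inv_mem (Lev_mem E hN.1))⟩)
    (fun u hu h => fixed_up E hN (Subgroup.mem_inf.1 hu).1 h) (Subgroup.mem_inf.2 ⟨hu, huG⟩)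
  refine ⟨Lev E N * w, mul_mem (Lev_mem E hN.1) (Subgroup.mem_inf.1 hw).2, ?_⟩
  calc Lev E N * u = Lev E N * (u * Lev E N) * (Lev E N)⁻¹ := by group
    _ = _ := by rw [e]; group

/-! ### The class -/

/-- Being conjugate to an element. -/
def Cj (x g : GL chevD4.Idx K) : Prop := ∃ a ∈ E.G, g = a * x * a⁻¹

/-- Being a product of two conjugates. -/
def Cov (x g : GL chevD4.Idx K) : Prop := ∃ b c, Cj E x b ∧ Cj E x c ∧ g = b * c

theorem Cj.conj {x g : GG} (h : Cj E x g) {a : GG} (ha : a ∈ E.G) : Cj E x (a * g * a⁻¹) := by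
  obtain ⟨b, hb, rfl⟩ := h
  exact ⟨a * b, mul_mem ha hb, by group⟩

theorem Cov.conj {x g : GG} (h : Cov E x g) {a : GG} (ha : a ∈ E.G) :
    Cov E x (a * g * a⁻¹) := by
  obtain ⟨b, c, hb, hc, rfl⟩ := h
  exact ⟨_, _, hb.conj E ha, hc.conj E ha, by group⟩

theorem Cov.of_conj {x g a : GG} (ha : a ∈ E.G) (h : Cov E x (a * g * a⁻¹)) : Cov E x g := by
  have h1 := h.conj E (inv_mem ha)
  rwa [show a⁻¹ * (a * g * a⁻¹) * a⁻¹⁻¹ = g by group] at h1

theorem Cj.inv {x g : GG} (hx : Cj E x x⁻¹) (h : Cj E x g) : Cj E x g⁻¹ := by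
  obtain ⟨a, ha, rfl⟩ := h
  obtain ⟨b, hb, e⟩ := hx
  exact ⟨a * b, mul_mem ha hb, by rw [mul_inv_rev, mul_inv_rev, inv_inv, e]; group⟩

theorem Cov.of_inv {x g : GG} (hx : Cj E x x⁻¹) (h : Cov E x g⁻¹) : Cov E x g := by
  obtain ⟨b, c, hb, hc, e⟩ := h
  exact ⟨_, _, Cj.inv E hx hc, Cj.inv E hx hb, by rw [← mul_inv_rev, ← e, inv_inv]⟩

theorem Cov.of_mirror {x g : GG} (hx : Cj E x x⁻¹) (h : Cov E x (om g⁻¹)) : Cov E x g :=
  Cov.of_inv E hx (Cov.of_conj E (n0_mem E) h)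

variable {δ t : K}

/-- The parameters of the class. -/
structure Pars (δ t : K) : Prop where
  good : Good δ t
  root : G2.NoRoot δ t
  fix : E.θ δ = δ
  char : ((2 : K) ≠ 0 ∧ δ = -1) ∨ ((2 : K) = 0 ∧ δ * δ ≠ 1)

theorem exists_fixed_gen (h3 : 3 ≤ E.q) : ∃ δ : K, E.θ δ = δ ∧ δ ≠ 0 ∧ δ ≠ 1 := by
  classical
  by_contra hcon
  push Not at hcon
  have hc := Twist.card_powfix (K := K) E.hq.two_le E.hK
  have hsub : ∀ a : {t : K // t ^ E.q = t}, (a : K) = 0 ∨ (a : K) = 1 := fun a =>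
    or_iff_not_imp_left.2 (hcon a (by rw [E.hθ]; exact a.2))
  have hle : Nat.card {t : K // t ^ E.q = t} ≤ Nat.card Bool := by
    refine Nat.card_le_card_of_injective (fun a => decide ((a : K) = 0)) fun a b h => ?_
    have h' := decide_eq_decide.1 h
    refine Subtype.ext ?_
    rcases hsub a with ha | ha <;> rcases hsub b with hb | hb <;> simp_all
  rw [hc, Nat.card_eq_fintype_card, Fintype.card_bool] at hle
  omega

theorem exists_pars (h3 : 3 ≤ E.q) : ∃ δ t : K, Pars E δ t := by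
  classical
  by_cases h2 : (2 : K) = 0
  · have h : ringChar K = 2 :=
      CharP.ringChar_of_prime_eq_zero Nat.prime_two (by exact_mod_cast h2)
    obtain ⟨δ, hfix, hδ0, hδ1⟩ := exists_fixed_gen E h3
    have hKq : 3 ≤ Fintype.card K := by
      rw [E.hK]
      calc 3 ≤ E.q ^ 1 := by rw [pow_one]; exact h3
        _ ≤ E.q ^ 3 := Nat.pow_le_pow_right (by omega) (by norm_num)
    obtain ⟨ω, -, hω⟩ := G2.exists_not_artin_schreier h2 hKq
    have hω0 : ω ≠ 0 := fun e => hω 0 (by rw [e]; ring)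
    obtain ⟨t, ht⟩ := FiniteField.isSquare_of_char_two h (δ / ω)
    have ht0 : t ≠ 0 := fun e => div_ne_zero hδ0 hω0 (by rw [ht, e, mul_zero])
    have hroot : G2.NoRoot δ t := by
      intro a ha
      refine hω (a / t) ?_
      have hd : δ = t * t * ω := by rw [← ht, div_mul_cancel₀ _ hω0]
      field_simp
      linear_combination ha + (a * t) * h2 + (-(δ)) * h2 + hd
    refine ⟨δ, t, ⟨hδ0, hδ1, ht0, fun e => hroot 1 (by rw [e]; ring),
      fun e => hroot (-1) (by rw [e]; ring), fun e => ht0 ?_⟩, hroot, hfix, Or.inr ⟨h2, fun e => ?_⟩⟩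
    · exact mul_self_eq_zero.1 (by rw [e]; linear_combination (2 * δ) * h2)
    · apply hδ1
      have : (δ - 1) * (δ - 1) = 0 := by linear_combination e + (1 - δ) * h2
      exact sub_eq_zero.1 (mul_self_eq_zero.1 this)
  · obtain ⟨t, ht⟩ := G2.exists_sq_add_four h2
    refine ⟨-1, t, ⟨neg_ne_zero.2 one_ne_zero, fun h => h2 (by linear_combination -h),
      fun h => ht ⟨2, by rw [h]; ring⟩, fun h => ht ⟨2, by rw [h]; ring⟩,
      fun h => ht ⟨2, by rw [h]; ring⟩, fun h => ht ⟨0, by rw [h]; ring⟩⟩,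
      fun a ha => ht ⟨2 * a - t, by linear_combination -4 * ha⟩, by rw [map_neg, map_one],
      Or.inl ⟨h2, rfl⟩⟩

variable {E}

/-- The companion matrix as an invertible matrix. -/
def cG (hp : Pars E δ t) : GL (Fin 2) K := G2.cG hp.good

theorem cG_dfix (hp : Pars E δ t) : DFix E (cG hp) := by
  rw [DFix, cG, G2.det_cG, hp.fix]

/-- The semisimple element. -/
noncomputable def xel (hp : Pars E δ t) : GL chevD4.Idx K := Lev E (cG hp)

theorem xel_mem (hp : Pars E δ t) : xel hp ∈ E.G := Lev_mem E (cG_dfix hp)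

theorem xel_pow (hp : Pars E δ t) :
    (xel hp : GG) ^ ((Fintype.card K + 1) * (Fintype.card K - 1)) = 1 := by
  rw [xel, ← Lev_pow E (cG_dfix hp), pow_mul, cG, G2.cG_pow hp.good hp.root, G2.sG_pow]
  have : Units.mk0 δ hp.good.d0 ^ (Fintype.card K - 1) = 1 := by
    ext
    simp [FiniteField.pow_card_sub_one_eq_one δ hp.good.d0]
  rw [this, Lev_sG, mul_one, tt_one]

/-- The norm form of the centraliser represents every element. -/
theorem norm_form (hp : Pars E δ t) (d : K) : ∃ a b : K, a * a + t * a * b + δ * (b * b) = d := by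
  classical
  rcases hp.char with ⟨h2, -⟩ | ⟨h2, -⟩
  · have hodd : Fintype.card K % 2 = 1 := by
      refine Nat.mod_two_ne_zero.1 fun h => h2 ?_
      have hc := (FiniteField.even_card_iff_char_two (F := K)).2 h
      have := ringChar.Nat.cast_ringChar (R := K)
      rw [hc] at this
      exact_mod_cast this
    have h4 : (4 : K) ≠ 0 := by
      rw [show (4 : K) = 2 * 2 by norm_num]; exact mul_ne_zero h2 h2
    obtain ⟨a', b, hab⟩ := FiniteField.exists_root_sum_quadratic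
      (f := (Polynomial.X ^ 2 : Polynomial K))
      (g := Polynomial.C (-((t * t - 4 * δ) / 4)) * Polynomial.X ^ 2 + Polynomial.C (0 : K) *
        Polynomial.X + Polynomial.C (-d))
      (Polynomial.degree_X_pow 2)
      (Polynomial.degree_quadratic (neg_ne_zero.2 (div_ne_zero (sub_ne_zero.2 hp.good.disc) h4))) hodd
    refine ⟨a' - t * b / 2, b, ?_⟩
    simp only [Polynomial.eval_add, Polynomial.eval_mul, Polynomial.eval_pow, Polynomial.eval_C,
      Polynomial.eval_X] at hab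
    field_simp at hab ⊢
    linear_combination hab
  · have h : ringChar K = 2 :=
      CharP.ringChar_of_prime_eq_zero Nat.prime_two (by exact_mod_cast h2)
    obtain ⟨a, ha⟩ := FiniteField.isSquare_of_char_two h d
    exact ⟨a, 0, by rw [ha]; ring⟩

/-- Conjugates by elements of determinant one suffice. -/
theorem det_one (hp : Pars E δ t) (P : GL (Fin 2) K) :
    ∃ P' : GL (Fin 2) K, det' P' = 1 ∧ P' * cG hp * P'⁻¹ = P * cG hp * P⁻¹ := by
  obtain ⟨a, b, hab⟩ := norm_form hp (((det' P : Kˣ) : K)⁻¹)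
  obtain ⟨z, hz⟩ : ∃ z : GL (Fin 2) K, (z : M2) = a • 1 + b • cA δ t := by
    refine ⟨Matrix.GeneralLinearGroup.mkOfDetNeZero (a • 1 + b • cA δ t) ?_, rfl⟩
    rw [show (a • (1 : M2) + b • cA δ t).det = a * a + t * a * b + δ * (b * b) by
      simp [cA, Matrix.det_fin_two]; ring, hab]
    exact inv_ne_zero (Units.ne_zero _)
  have hzc : z * cG hp = cG hp * z := by
    apply Units.ext
    rw [Units.val_mul, Units.val_mul, hz, cG, G2.coe_cG, add_mul, mul_add]
    simp [Matrix.smul_mul, Matrix.mul_smul]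
  have hzd : ((det' z : Kˣ) : K) = ((det' P : Kˣ) : K)⁻¹ := by
    rw [← hab]
    show (z : M2).det = _
    rw [hz]
    simp [cA, Matrix.det_fin_two]
    ring
  refine ⟨P * z, ?_, ?_⟩
  · apply Units.ext
    rw [map_mul, Units.val_mul, hzd, mul_inv_cancel₀ (Units.ne_zero _), Units.val_one]
  · rw [mul_inv_rev, mul_assoc P z, hzc]
    group

theorem conj_props (hp : Pars E δ t) (P : GL (Fin 2) K) :
    Tw E (P * cG hp * P⁻¹) ∧ Cj E (xel hp) (Lev E (P * cG hp * P⁻¹)) ∧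
      det' (P * cG hp * P⁻¹) = Units.mk0 δ hp.good.d0 := by
  have hd : det' (P * cG hp * P⁻¹) = Units.mk0 δ hp.good.d0 := by
    apply Units.ext
    rw [map_mul, map_mul, map_inv, mul_inv_cancel_comm, cG, G2.det_cG]
    rfl
  refine ⟨⟨?_, Fintype.card K + 1, Units.mk0 δ hp.good.d0, ?_, hp.fix, hp.good.d1, ?_⟩, ?_, hd⟩
  · rw [DFix, hd]; exact hp.fix
  · rw [conj_pow, cG, G2.cG_pow hp.good hp.root, ← G2.sG_comm, mul_inv_cancel_right]
  · rw [hd]; exact hp.good.d1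
  · obtain ⟨P', h1, e⟩ := det_one hp P
    refine ⟨Lev E P', Lev_mem E (DFix.of_one E h1), ?_⟩
    rw [← e, xel, Lev_conj E (DFix.of_one E h1) (cG_dfix hp)]

theorem nL_conj_sign {w : List ℕ} (hw : ∀ i ∈ w, i < chevD4.rank) {r : ℕ} (hr : r < 24) :
    ∃ z : ℤ, z * z = 1 ∧ ∀ a : K,
      nL hC K w * xx r a * (nL hC K w)⁻¹ = xx (wL chevD4 w r) ((z : K) * a) := by
  induction w with
  | nil => exact ⟨1, one_mul 1, fun a => by simp [nL, wL]⟩
  | cons i w ih =>
    have hi := hw i List.mem_cons_self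
    have hw' : ∀ j ∈ w, j < chevD4.rank := fun j hj => hw j (List.mem_cons_of_mem i hj)
    obtain ⟨z, hz, e⟩ := ih hw'
    refine ⟨Data.D4.tab.eta i (wL chevD4 w r) * z, ?_, fun a => ?_⟩
    · rcases Certified.eta_cases (T := Data.D4.tab) i (wL chevD4 w r) with h | h <;> rw [h] <;>
        linear_combination hz
    · have e1 : nL hC K (i :: w) = ng hC (chevD4.simple i) 1 * nL hC K w := by simp [nL]
      rw [e1, mul_inv_rev]
      calc _ = ng hC (chevD4.simple i) 1 * (nL hC K w * xx r a * (nL hC K w)⁻¹) *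
            (ng hC (chevD4.simple i) (1 : K))⁻¹ := by simp only [mul_assoc]
        _ = _ := by
          rw [e, ng_conj_x hC hi (wL_lt hC hw' (lt24 hr)), Int.cast_mul, mul_assoc]
          rfl

theorem long_mem {r : ℕ} (hr : r = 14 ∨ r = 9) (a : K) (ha : E.θ a = a) :
    xx (wL chevD4 (Jw 1 ++ Jw 0) r) a ∈ E.G := by
  have hr24 : r < 24 := by omega
  have hw : ∀ i ∈ Jw 1 ++ Jw 0, i < chevD4.rank := fun i hi =>
    (List.mem_append.1 hi).elim (Jw_lt 1 i) (Jw_lt 0 i)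
  obtain ⟨z, hz, e⟩ := nL_conj_sign (K := K) hw (r := r) hr24
  have hf : E.θ ((z : K) * a) = (z : K) * a := by rw [map_mul, ha, map_intCast]
  have hx : xx r ((z : K) * a) ∈ E.G := by
    rcases hr with rfl | rfl
    · rw [← Xp1 E.θ]; exact Xp_mem E fun _ => hf
    · rw [← Yn1 E.θ]; exact Yn_mem E fun _ => hf
  have hn : nL hC K (Jw 1 ++ Jw 0) ∈ E.G := by
    rw [Weyl.nL_append]; exact mul_mem (nJ_mem E 1) (nJ_mem E 0)
  have := mul_mem (mul_mem hn hx) (inv_mem hn)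
  rwa [e, ← mul_assoc, ← Int.cast_mul, hz, Int.cast_one, one_mul] at this

theorem n23_mem : ng hC 23 (1 : K) ∈ E.G := by
  obtain ⟨w23, w0', l⟩ : wL chevD4 (Jw 1 ++ Jw 0) 14 = 23 ∧ wL chevD4 (Jw 1 ++ Jw 0) 9 = 0 ∧
      chevD4.neg 23 = 0 := by decide +kernel
  have a23 := long_mem (E := E) (Or.inl rfl) 1 (map_one _)
  have a0 := long_mem (E := E) (Or.inr rfl) (-(1 : K)⁻¹) (by rw [map_neg, map_inv₀, map_one])
  rw [w23] at a23
  rw [w0'] at a0
  rw [ng, l]
  exact mul_mem (mul_mem a23 a0) a23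

theorem n23_conj_Lev {M : GL (Fin 2) K} (hM : DFix E M) :
    ng hC 23 1 * Lev E M * (ng hC 23 (1 : K))⁻¹ = (Lev E (G2.sG (det' M)⁻¹ * M) : GG) := by
  obtain ⟨d, hd⟩ : ∃ d, d = det' M := ⟨_, rfl⟩
  have hdθ : E.θ (d : K) = d := hd ▸ hM
  rw [← hd]
  have hcomm : Commute (ng hC 23 (1 : K)) (Phi E.θ 0 (G2.unim M)) := by
    rw [ng, neg_simples.2.2.2.2]
    exact ((phi23_comm E (Or.inr rfl) _ _).mul_left (phi23_comm E (Or.inl rfl) _ _)).mul_left
      (phi23_comm E (Or.inr rfl) _ _)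
  have e1 : tt E.θ d d * ng hC 23 (1 : K) * (tt E.θ d d : GG)⁻¹ = hg hC 23 (d : K) * ng hC 23 1 := by
    rw [← ng_eq_hg_mul, ng, ng, neg_simples.2.2.2.2]
    have h23 := tt_conj E.θ d d 23 (by norm_num) (1 : K)
    have h0 := tt_conj E.θ d d 0 (by norm_num) (-(1 : K)⁻¹)
    rw [chi_diag E.θ d hdθ weight_det.2.2.1, zpow_one, mul_one] at h23
    rw [chi_diag E.θ d hdθ weight_det.2.2.2, zpow_neg_one, Units.val_inv_eq_inv_val, inv_one,
      mul_neg, mul_one] at h0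
    rw [inv_one] at *
    show _ = xx 23 (d : K) * xx 0 (-(d : K)⁻¹) * xx 23 (d : K)
    rw [← h23, ← h0]
    group
  have e2 : ng hC 23 (1 : K) * tt E.θ d d * (ng hC 23 (1 : K))⁻¹ =
      tt E.θ d d * (hg hC 23 (d : K))⁻¹ := by
    have k : tt E.θ d d * ng hC 23 (1 : K) = hg hC 23 (d : K) * ng hC 23 1 * tt E.θ d d := by
      rw [← e1, inv_mul_cancel_right]
    have hc : (hg hC 23 (d : K))⁻¹ * tt E.θ d d = tt E.θ d d * (hg hC 23 (d : K))⁻¹ := by
      rw [hg23 E.θ d hdθ, tt_inv, tt_mul, tt_mul, mul_comm d⁻¹ d, mul_comm (d * d)⁻¹ d]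
    rw [← hc]
    calc _ = (hg hC 23 (d : K))⁻¹ * (hg hC 23 (d : K) * ng hC 23 1 * tt E.θ d d) *
          (ng hC 23 (1 : K))⁻¹ := by group
      _ = _ := by rw [← k]; group
  rw [G2.sG_comm, Lev_mul E hM, Lev_sG,
    show (Lev E M : GG) = Phi E.θ 0 (G2.unim M) * tt E.θ d d by rw [hd]; rfl,
    show ∀ a b n : GG, n * (a * b) * n⁻¹ = n * a * n⁻¹ * (n * b * n⁻¹) from
      fun a b n => by group, hcomm.eq, mul_inv_cancel_right, e2, hg23 E.θ d hdθ, tt_inv, ← mul_assoc,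
    mul_inv_rev]

theorem cov_tri (hp : Pars E δ t) {v u : GG} (hv : v ∈ RS K (Rn 0)) (hvG : v ∈ E.G)
    (hu : u ∈ RS K (Rp 0)) (huG : u ∈ E.G) {l : GL (Fin 2) K} (hl : G2.Ok δ l) :
    Cov E (xel hp) (v * Lev E l * u) := by
  obtain ⟨D, hD⟩ : ∃ D : Kˣ, D = Units.mk0 δ hp.good.d0 := ⟨_, rfl⟩
  have hDv : (D : K) = δ := by rw [hD]; rfl
  have hDfix : E.θ (D : K) = D := by rw [hDv]; exact hp.fix
  have hB : ∀ P : GL (Fin 2) K, Tw E (G2.sG D⁻¹ * (P * cG hp * P⁻¹)) ∧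
      Cj E (xel hp) (Lev E (G2.sG D⁻¹ * (P * cG hp * P⁻¹))) := by
    intro P
    obtain ⟨⟨hF, -⟩, hcj, hdet⟩ := conj_props hp P
    rw [← hD] at hdet
    have hsF : DFix E (G2.sG D⁻¹) := by
      rw [DFix, G2.det_sG, Units.val_mul, map_mul, Units.val_inv_eq_inv_val, map_inv₀, hDfix]
    refine ⟨⟨hsF.mul E hF, Fintype.card K + 1, D⁻¹ ^ (Fintype.card K + 1) * D, ?_, ?_, ?_, ?_⟩, ?_⟩
    · rw [(show Commute (G2.sG D⁻¹) (P * cG hp * P⁻¹) from G2.sG_comm _ _).mul_pow, G2.sG_pow,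
        conj_pow, cG, G2.cG_pow hp.good hp.root, ← G2.sG_comm _ P, mul_inv_cancel_right, ← hD,
        G2.sG_mul]
    · rw [Units.val_mul, Units.val_pow_eq_pow_val, map_mul, map_pow, Units.val_inv_eq_inv_val,
        map_inv₀, hDfix]
    · have := hp.good.d0
      rw [Units.val_mul, Units.val_pow_eq_pow_val, Units.val_inv_eq_inv_val, hDv, pow_succ,
        FiniteField.pow_card]
      intro h
      apply hp.good.d1
      field_simp at h
      linear_combination -h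
    · rw [map_mul, Units.val_mul, G2.det_sG, Units.val_mul, hdet, Units.val_inv_eq_inv_val, hDv]
      intro h
      apply hp.good.d1
      have := hp.good.d0
      field_simp at h
      linear_combination -h
    · rw [← hdet, ← n23_conj_Lev hF]
      exact hcj.conj E n23_mem
  obtain ⟨M, N, hlMN, ⟨hTM, hCM⟩, hTN, hCN⟩ : ∃ M N : GL (Fin 2) K, l = M * N ∧
      (Tw E M ∧ Cj E (xel hp) (Lev E M)) ∧ Tw E N ∧ Cj E (xel hp) (Lev E N) := by
    rcases hl with h | h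
    · obtain ⟨P, Q, hPQ⟩ := isTarget_factor hp.good h
      exact ⟨P * cG hp * P⁻¹, Q * cG hp * Q⁻¹, Units.ext hPQ,
        ⟨(conj_props hp P).1, (conj_props hp P).2.1⟩, (conj_props hp Q).1, (conj_props hp Q).2.1⟩
    · obtain ⟨P, Q, hPQ⟩ := isTarget_factor hp.good h
      refine ⟨P * cG hp * P⁻¹, G2.sG D⁻¹ * (Q * cG hp * Q⁻¹), ?_,
        ⟨(conj_props hp P).1, (conj_props hp P).2.1⟩, hB Q⟩
      apply Units.ext
      rw [Units.val_mul _ (G2.sG D⁻¹ * _), Units.val_mul (G2.sG D⁻¹), G2.coe_sG, Matrix.smul_mul,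
        Matrix.one_mul, Matrix.mul_smul, Units.val_inv_eq_inv_val, hDv]
      simp only [Units.val_mul, cG, G2.coe_cG]
      rw [← hPQ, smul_smul, inv_mul_cancel₀ hp.good.d0, one_smul]
  obtain ⟨a, ha, ea⟩ := twist_dn E hTM hv hvG
  obtain ⟨b, hb, eb⟩ := twist_up E hTN hu huG
  refine ⟨v * Lev E M, Lev E N * u, ea ▸ hCM.conj E ha, eb ▸ hCN.conj E hb, ?_⟩
  rw [hlMN, Lev_mul E hTM.1]
  group

theorem xel_inv (hp : Pars E δ t) : Cj E (xel hp) (xel hp)⁻¹ := by
  obtain ⟨P, hP⟩ := sim_cA hp.good (M := !![t, δ; -1, 0]) (by simp [Matrix.trace_fin_two])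
    (by simp [Matrix.det_fin_two_of])
  obtain ⟨D, hD⟩ : ∃ D : Kˣ, D = Units.mk0 δ hp.good.d0 := ⟨_, rfl⟩
  obtain ⟨⟨hF, -⟩, hcj, hd⟩ := conj_props hp P
  rw [← hD] at hd
  have e : (cG hp)⁻¹ = G2.sG D⁻¹ * (P * cG hp * P⁻¹) := by
    refine inv_eq_of_mul_eq_one_right (Units.ext ?_)
    rw [Units.val_mul, Units.val_mul, Units.val_mul, Units.val_mul, cG, G2.coe_cG, ← hP, G2.coe_sG,
      Matrix.smul_mul, Matrix.one_mul, Matrix.mul_smul, Units.val_inv_eq_inv_val, hD, Units.val_mk0]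
    have := hp.good.d0
    ext i j
    fin_cases i <;> fin_cases j <;> simp [cA] <;> field_simp
  rw [xel, ← Lev_inv E (cG_dfix hp), e, ← hd, ← n23_conj_Lev hF]
  exact hcj.conj E n23_mem

end Cfsg.Agent.Involutions.ClassSquare.D4
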