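import Cfsg.Agent.Lib.Involutions.ClassSquare.D4TwoVal

/-!
Every element of `³D₄(2)` is a product of two elements of one class of elements of order 21.
-/

set_option autoImplicit false
set_option linter.unusedSectionVars false
set_option linter.unusedSimpArgs false

open scoped Matrix

namespace Cfsg.Agent.Involutions.ClassSquare.D4.Two

open Cfsg.Lie Cfsg.Agent.Chevalley Cfsg.Agent.Chevalley.Cert Cfsg.Agent.Chevalley.Group
  Cfsg.Agent.Chevalley.Table Cfsg.Agent.Chevalley.Unip Cfsg.Agent.Chevalley.Bruhat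
  Cfsg.Agent.Chevalley.Borel Cfsg.Agent.Chevalley.Twist.D4

variable {K : Type*} [Field K] [Fintype K] [CharP K 2] {E : Env K} {a0 : Kˣ}

local notation "GG" => GL chevD4.Idx K
local notation "SL" => Matrix.SpecialLinearGroup (Fin 2) K

/-! ### Sums over the field -/

theorem two0 : (2 : K) = 0 := _root_.CharTwo.two_eq_zero

theorem cast_eight : ((8 : ℕ) : K) = 0 := (CharP.cast_eq_zero_iff K 2 8).2 (by norm_num)

theorem sum_low (h2 : E.q = 2) {k : ℕ} (hk : k < 7) : ∑ t : K, t ^ k = 0 := by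
  refine FiniteField.sum_pow_lt_card_sub_one K k ?_
  rw [card_eq h2]; omega

theorem sum_seven (h2 : E.q = 2) : ∑ t : K, t ^ 7 = 1 := by
  classical
  have e : ∑ t : K, (1 + t ^ 7) = 1 := by
    rw [Fintype.sum_eq_single (0 : K)]
    · simp
    · intro t ht
      rw [pow7 h2 ht, _root_.CharTwo.add_self_eq_zero]
  rwa [Finset.sum_add_distrib, Finset.sum_const, Finset.card_univ, card_eq h2, nsmul_eq_mul,
    cast_eight, zero_mul, zero_add] at e

theorem val_some (h2 : E.q = 2) (C : Co K) (t : K) :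
    C.val E.θ (some t) = C.e + C.d * t + C.d ^ 2 * t ^ 2 + C.d ^ 4 * t ^ 4 + C.c ^ 4 * t ^ 3 +
      C.c ^ 2 * t ^ 5 + C.c * t ^ 6 + C.b * t ^ 7 := by
  simp only [Co.val, θ_eq h2]
  ring

theorem val_none (C : Co K) : C.val E.θ none = C.b := rfl

theorem sum_val (h2 : E.q = 2) (C : Co K) : ∑ r : Option K, C.val E.θ r = 0 := by
  rw [Fintype.sum_option, val_none]
  have hm : ∀ c : K, ∑ t : K, c * t = 0 := fun c => by
    rw [← Finset.mul_sum, show ∑ t : K, t = 0 by simpa using sum_low h2 (k := 1) (by norm_num), mul_zero]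
  simp only [val_some h2, Finset.sum_add_distrib, hm, ← Finset.mul_sum]
  have h1 : ∑ t : K, t = 0 := by simpa using sum_low h2 (k := 1) (by norm_num)
  rw [sum_low h2 (k := 2) (by norm_num), sum_low h2 (k := 4) (by norm_num),
    sum_low h2 (k := 3) (by norm_num), sum_low h2 (k := 5) (by norm_num),
    sum_low h2 (k := 6) (by norm_num), sum_seven h2, Finset.sum_const, Finset.card_univ,
    card_eq h2, nsmul_eq_mul, cast_eight]
  simp [_root_.CharTwo.add_self_eq_zero]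

theorem const_cd (h2 : E.q = 2) (C : Co K) (B : K)
    (h : ∀ t : K, t ≠ 0 → C.val E.θ (some t) = B) : C.c = 0 ∧ C.d = 0 := by
  have w : ∀ k : ℕ, 0 < k → k < 7 → ∑ t : K, t ^ k * C.val E.θ (some t) = 0 := by
    intro k hk hk7
    have : ∀ t : K, t ^ k * C.val E.θ (some t) = t ^ k * B := fun t => by
      rcases eq_or_ne t 0 with rfl | ht
      · simp [zero_pow hk.ne']
      · rw [h t ht]
    simp only [this, ← Finset.sum_mul, sum_low h2 hk7, zero_mul]
  have e8 := pow8 (E := E) h2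
  have w6 := w 6 (by norm_num) (by norm_num)
  have w1 := w 1 (by norm_num) (by norm_num)
  have h1 : ∑ t : K, t = 0 := by simpa using sum_low h2 (k := 1) (by norm_num)
  have t6 : ∀ t : K, t ^ 6 * C.val E.θ (some t) = C.e * t ^ 6 + C.d * t ^ 7 + C.d ^ 2 * t +
      C.d ^ 4 * t ^ 3 + C.c ^ 4 * t ^ 2 + C.c ^ 2 * t ^ 4 + C.c * t ^ 5 + C.b * t ^ 6 := fun t => by
    rw [val_some h2]
    linear_combination (C.d ^ 2 + C.d ^ 4 * t ^ 2 + C.c ^ 4 * t + C.c ^ 2 * t ^ 3 + C.c * t ^ 4 +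
      C.b * t ^ 5) * e8 t
  have t1 : ∀ t : K, t ^ 1 * C.val E.θ (some t) = C.e * t + C.d * t ^ 2 + C.d ^ 2 * t ^ 3 +
      C.d ^ 4 * t ^ 5 + C.c ^ 4 * t ^ 4 + C.c ^ 2 * t ^ 6 + C.c * t ^ 7 + C.b * t := fun t => by
    rw [val_some h2]
    linear_combination C.b * e8 t
  have hm : ∀ c : K, ∑ t : K, c * t = 0 := fun c => by rw [← Finset.mul_sum, h1, mul_zero]
  simp only [t6, Finset.sum_add_distrib, hm, ← Finset.mul_sum, h1, sum_seven h2,
    sum_low h2 (show 2 < 7 by norm_num), sum_low h2 (show 3 < 7 by norm_num),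
    sum_low h2 (show 4 < 7 by norm_num), sum_low h2 (show 5 < 7 by norm_num),
    sum_low h2 (show 6 < 7 by norm_num)] at w6
  simp only [t1, Finset.sum_add_distrib, hm, ← Finset.mul_sum, h1, sum_seven h2,
    sum_low h2 (show 2 < 7 by norm_num), sum_low h2 (show 3 < 7 by norm_num),
    sum_low h2 (show 4 < 7 by norm_num), sum_low h2 (show 5 < 7 by norm_num),
    sum_low h2 (show 6 < 7 by norm_num)] at w1
  exact ⟨by simpa using w1, by simpa using w6⟩

/-! ### States -/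

/-- All states with a given middle factor are covered. -/
def All (E : Env K) (a0 : Kˣ) (l : Matrix.SpecialLinearGroup (Fin 2) K) : Prop :=
  ∀ (m p : GL chevD4.Idx K) (Q C : Co K), Low E m Q → Upp E p C →
    Cov E (xw E a0) (m * Phi E.θ 0 l * p)

theorem All.of_conj (P : SL) {l : SL} (h : All E a0 (P * l * P⁻¹)) : All E a0 l := by
  intro m p Q C hQ hC'
  have gP : Phi E.θ 0 P ∈ E.G := Phi_mem E fun h => absurd h (by decide)
  refine Cov.of_conj E gP ?_
  obtain ⟨Q', hQ'⟩ := exists_low (E := E) (conj_Rn (Phi_mem_RS E.θ 0 P) hQ.1)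
    (mul_mem (mul_mem gP hQ.2.1) (inv_mem gP))
  obtain ⟨C'', hC''⟩ := exists_upp (E := E) (conj_Rp (Phi_mem_RS E.θ 0 P) hC'.1)
    (mul_mem (mul_mem gP hC'.2.1) (inv_mem gP))
  refine (congrArg (Cov E (xw E a0)) ?_).mp (h _ _ Q' C'' hQ' hC'')
  rw [map_mul, map_mul, map_inv]
  group

theorem pair_sum (h2 : E.q = 2) (ha0 : a0 ≠ 1) {m p : GG} {Q C : Co K} (hQ : Low E m Q)
    (hC' : Upp E p C) (l : SL) (hno : ¬ Cov E (xw E a0) (m * Phi E.θ 0 l * p)) {v0 v1 w0 w1 : K}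
    (hD : v0 * w1 - v1 * w0 ≠ 0)
    (hT : TK a0 (((v0 * SL2.el l 0 0 + v1 * SL2.el l 1 0) * w1 -
      (v0 * SL2.el l 0 1 + v1 * SL2.el l 1 1) * w0) / (v0 * w1 - v1 * w0))) :
    Q.val E.θ (pj v0 v1) + C.val E.θ (pj w0 w1) = 1 := by
  have hne : Q.val E.θ (pj v0 v1) ≠ C.val E.θ (pj w0 w1) := fun h =>
    hno (good_pair h2 ha0 hQ hC' l hD hT h)
  rcases fix01 h2 (hQ.val_fixed h2 (pj v0 v1)) with a | a <;>
    rcases fix01 h2 (hC'.val_fixed h2 (pj w0 w1)) with b | b <;> simp_all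

theorem cross (h2 : E.q = 2) (Q C : Co K)
    (h1 : ∀ u, Q.val E.θ none + C.val E.θ (some u) = 1)
    (h3 : ∀ t, Q.val E.θ (some t) + C.val E.θ none = 1) (a b : K)
    (h4 : Q.val E.θ (some a) + C.val E.θ (some b) = 1) : False := by
  have sC := sum_val h2 C
  have sQ := sum_val h2 Q
  have eC : ∀ u, C.val E.θ (some u) = 1 + Q.val E.θ none := fun u => by
    linear_combination h1 u - two0 (K := K) * Q.val E.θ none
  have eQ : ∀ t, Q.val E.θ (some t) = 1 + C.val E.θ none := fun t => by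
    linear_combination h3 t - two0 (K := K) * C.val E.θ none
  simp only [Fintype.sum_option, eC, Finset.sum_const, Finset.card_univ, card_eq h2, nsmul_eq_mul,
    cast_eight, zero_mul, add_zero] at sC
  simp only [Fintype.sum_option, eQ, Finset.sum_const, Finset.card_univ, card_eq h2, nsmul_eq_mul,
    cast_eight, zero_mul, add_zero] at sQ
  rw [eQ, eC, sC, sQ, add_zero, _root_.CharTwo.add_self_eq_zero] at h4
  exact zero_ne_one h4

theorem tau_ne (ha0 : a0 ≠ 1) : (a0 : K) * a0 ≠ 1 := fun h => by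
  apply ha0
  refine Units.ext (sub_eq_zero.1 (mul_self_eq_zero.1 ?_))
  rw [Units.val_one]
  linear_combination h + (1 - (a0 : K)) * two0 (K := K)

/-- The upper unitriangular middle factors. -/
theorem all_unip (h2 : E.q = 2) (ha0 : a0 ≠ 1) {l : SL} (h10 : SL2.el l 1 0 = 0)
    (h00 : SL2.el l 0 0 = 1) (h11 : SL2.el l 1 1 = 1) : All E a0 l := by
  intro m p Q C hQ hC'
  by_contra hno
  obtain ⟨τ, hτ⟩ : ∃ τ, τ = (a0 : K) * a0 := ⟨_, rfl⟩
  obtain ⟨μ, hμ⟩ : ∃ μ, μ = SL2.el l 0 1 := ⟨_, rfl⟩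
  have h1 : ∀ u, Q.val E.θ none + C.val E.θ (some u) = 1 := fun u => by
    have := pair_sum h2 ha0 hQ hC' l hno (v0 := 0) (v1 := 1) (w0 := 1) (w1 := u) (by simp)
      (Or.inl (by simp [h10, h11]))
    rwa [pj_zero, pj_one] at this
  have h3 : ∀ t, Q.val E.θ (some t) + C.val E.θ none = 1 := fun t => by
    have := pair_sum h2 ha0 hQ hC' l hno (v0 := 1) (v1 := t) (w0 := 0) (w1 := 1) (by simp)
      (Or.inl (by simp [h10, h00]))
    rwa [pj_zero, pj_one] at this
  rcases eq_or_ne μ 0 with hμ0 | hμ0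
  · have := pair_sum h2 ha0 hQ hC' l hno (v0 := 1) (v1 := 0) (w0 := 1) (w1 := 1) (by simp)
      (Or.inl (by simp [h10, h00, ← hμ, hμ0]))
    rw [pj_one, pj_one] at this
    exact cross h2 Q C h1 h3 _ _ this
  · have hτ1 : τ + 1 ≠ 0 := fun h => tau_ne ha0 (hτ ▸ _root_.CharTwo.add_eq_zero.1 h)
    have hu : μ / (τ + 1) ≠ 0 := div_ne_zero hμ0 hτ1
    have := pair_sum h2 ha0 hQ hC' l hno (v0 := 1) (v1 := 0) (w0 := 1) (w1 := μ / (τ + 1))
      (by simpa using hu) (Or.inr (Or.inl (by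
        rw [h10, h00, ← hμ, ← hτ]
        field_simp
        simp only [zero_mul, add_zero, sub_zero, one_mul, ne_eq, OfNat.ofNat_ne_zero, not_false_eq_true,
          zero_pow]
        rw [div_eq_iff hμ0]
        linear_combination -(μ * τ) * two0 (K := K))))
    rw [pj_one, pj_one] at this
    exact cross h2 Q C h1 h3 _ _ this

/-- The middle factors without eigenvalues. -/
theorem all_comp (h2 : E.q = 2) (ha0 : a0 ≠ 1) {l : SL} {s : K}
    (hl : (l : Matrix (Fin 2) (Fin 2) K) = !![0, 1; 1, s])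
    (hroot : ∀ x : K, x * x + s * x + 1 ≠ 0) : All E a0 l := by
  classical
  intro m p Q C hQ hC'
  by_contra hno
  have hs : s ≠ 0 := fun h => hroot 1 (by rw [h]; linear_combination two0 (K := K))
  let π : Option K → Option K := fun r => match r with
    | none => some (s + 1)
    | some t => if t = 1 then none else some (s + 1 + s / (1 + t))
  have ht1 : ∀ t : K, t ≠ 1 → 1 + t ≠ 0 := fun t ht h => ht (_root_.CharTwo.add_eq_zero.1 h).symm
  have πinj : Function.Injective π := by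
    rintro (_ | t) (_ | t') h <;> simp only [π] at h
    · rfl
    · split_ifs at h with h'
      simp [hs, ht1 t' h'] at h
    · split_ifs at h with h'
      simp [hs, ht1 t h'] at h
    · split_ifs at h with h' h''
      · rw [h', h'']
      · rw [Option.some.injEq, add_right_inj, div_eq_div_iff (ht1 t h') (ht1 t' (by assumption)),
          mul_right_inj' hs, add_right_inj] at h
        rw [h]
  have πbij : Function.Bijective π := πinj.bijective_of_finite
  have key : ∀ r, Q.val E.θ r + C.val E.θ (π r) = 1 := by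
    rintro (_ | t)
    · have := pair_sum h2 ha0 hQ hC' l hno (v0 := 0) (v1 := 1) (w0 := 1) (w1 := s + 1) (by simp)
        (Or.inl (by
          simp [SL2.el, hl]
          linear_combination -two0 (K := K)))
      rw [pj_zero, pj_one] at this
      exact this
    · simp only [π]
      split_ifs with ht
      · subst ht
        have := pair_sum h2 ha0 hQ hC' l hno (v0 := 1) (v1 := 1) (w0 := 0) (w1 := 1) (by simp)
          (Or.inl (by simp [SL2.el, hl]))
        rw [pj_zero, pj_one] at this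
        exact this
      · obtain ⟨u, hu⟩ : ∃ u, u = s + 1 + s / (1 + t) := ⟨_, rfl⟩
        have hu' : u * (1 + t) = s * t + t + 1 := by
          rw [hu, add_mul, div_mul_cancel₀ _ (ht1 t ht)]
          linear_combination s * two0 (K := K)
        have hut : u - t ≠ 0 := fun h => by
          refine hroot t ?_
          rw [sub_eq_zero.1 h] at hu'
          linear_combination hu' + (s * t + 1) * two0 (K := K)
        rw [← hu]
        have := pair_sum h2 ha0 hQ hC' l hno (v0 := 1) (v1 := t) (w0 := 1) (w1 := u)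
          (by simpa using hut) (Or.inl (by
            simp [SL2.el, hl]
            rw [div_eq_one_iff_eq hut]
            linear_combination hu' + (t - u) * two0 (K := K)))
        rw [pj_one, pj_one] at this
        exact this
  have hsum : ∑ r : Option K, (Q.val E.θ r + C.val E.θ (π r)) = ∑ _r : Option K, (1 : K) :=
    Finset.sum_congr rfl fun r _ => key r
  rw [Finset.sum_add_distrib, sum_val h2, πbij.sum_comp (fun r => C.val E.θ r), sum_val h2,
    Finset.sum_const, Finset.card_univ, Fintype.card_option, card_eq h2, nsmul_eq_mul, mul_one,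
    Nat.cast_add, Nat.cast_one, cast_eight] at hsum
  simp at hsum

theorem class_inv (h2 : E.q = 2) : Cj E (xw E a0) (xw E a0)⁻¹ := by
  rw [xw, mul_inv_rev, tt_inv, inv_one, ((tt_AA h2 a0⁻¹).inv_right).eq]
  exact class_mem h2 a0 (Or.inr rfl) (Or.inr rfl)

/-! ### The long root states -/

/-- A product of long root elements below. -/
noncomputable def Lm (b e z : K) : GL chevD4.Idx K := xx 1 b * (xx 9 e * xx 0 z)

/-- A product of long root elements above. -/
noncomputable def Lp (b e f : K) : GL chevD4.Idx K := xx 14 b * (xx 22 e * xx 23 f)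

theorem long_ok : chevD4.neg 1 = 22 ∧ chevD4.neg 9 = 14 ∧
    wL chevD4 (Jw 0) 9 = 1 ∧ wL chevD4 (Jw 0) 1 = 9 ∧
    wL chevD4 (Jw 1 ++ Jw 0) 14 = 23 ∧ wL chevD4 (Jw 1 ++ Jw 0) 9 = 0 ∧
    chevD4.commTerms 22 0 = [(9, (1 : ℤ), 1, 1)] ∧
    chevD4.commTerms 23 9 = [(22, (-1 : ℤ), 1, 1)] ∧
    chevD4.commTerms 22 14 = [(23, (-1 : ℤ), 1, 1)] ∧
    (∀ p ∈ [(0, 1), (0, 9), (22, 9), (23, 14), (23, 22)], p.1 < 24 ∧ p.2 < 24 ∧
      p.2 ≠ p.1 ∧ p.2 ≠ chevD4.neg p.1 ∧ chevD4.commTerms p.1 p.2 = []) := by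
  decide +kernel

theorem long_comm (p : ℕ × ℕ) (h : p ∈ [(0, 1), (0, 9), (22, 9), (23, 14), (23, 22)]) (a b : K) :
    Commute (xx p.1 a : GG) (xx p.2 b) := by
  obtain ⟨h1, h2, h3, h4, h5⟩ := long_ok.2.2.2.2.2.2.2.2.2 p h
  exact xx_comm_of_nil h1 h2 h3 h4 h5 a b

theorem mem14 {a : K} (ha : E.θ a = a) : (xx 14 a : GG) ∈ E.G := by
  rw [← Xp1 E.θ]; exact Xp_mem E fun _ => ha

theorem mem22 {a : K} (ha : E.θ a = a) : (xx 22 a : GG) ∈ E.G := by
  have h := mul_mem (mul_mem (nJ_mem E 0) (mem14 ha)) (inv_mem (nJ_mem E 0))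
  rwa [nJ0_conj (by norm_num), w_vals.1] at h

theorem mem23 {a : K} (ha : E.θ a = a) : (xx 23 a : GG) ∈ E.G := by
  have h := long_mem (E := E) (r := 14) (Or.inl rfl) a ha
  rwa [long_ok.2.2.2.2.1] at h

theorem om_Lp_inv (b e f : K) : om (Lp b e f)⁻¹ = (Lm e b f : GG) := by
  obtain ⟨n14, -, -, -, -, -, -, -, -, -, n22, n23, -⟩ := neg_vals
  rw [Lp, Lm, mul_inv_rev, mul_inv_rev, xx_inv2, xx_inv2, xx_inv2, map_mul, map_mul,
    om_two (by norm_num), om_two (by norm_num), om_two (by norm_num), n14, n22, n23,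
    (long_comm (0, 1) (by simp) f e).eq, mul_assoc, (long_comm (0, 9) (by simp) f b).eq]

theorem om_Lm_inv (b e z : K) : om (Lm b e z)⁻¹ = (Lp e b z : GG) := by
  obtain ⟨-, -, -, -, -, -, -, -, -, -, -, -, -, -, -, n0'⟩ := neg_vals
  obtain ⟨n1, n9, -⟩ := long_ok
  rw [Lp, Lm, mul_inv_rev, mul_inv_rev, xx_inv2, xx_inv2, xx_inv2, map_mul, map_mul,
    om_two (by norm_num), om_two (by norm_num), om_two (by norm_num), n1, n9, n0',
    (long_comm (23, 14) (by simp) z e).eq, mul_assoc, (long_comm (23, 22) (by simp) z b).eq]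

theorem Lp_upp {b e f : K} (hb : E.θ b = b) (he : E.θ e = e) (hf : E.θ f = f) :
    Upp E (Lp b e f) ⟨b, 0, 0, e, f⟩ := by
  refine ⟨?_, mul_mem (mem14 hb) (mul_mem (mem22 he) (mem23 hf)), ?_⟩
  · exact mul_mem (xx_mem_RS (by decide) b)
      (mul_mem (xx_mem_RS (by decide) e) (xx_mem_RS (by decide) f))
  · simp [Co.pt, Invol.Pt, Collect.P, Lp, xg_zero hC]

theorem Lm_low {b e z : K} (hb : E.θ b = b) (he : E.θ e = e) (hz : E.θ z = z) :
    Low E (Lm b e z) ⟨b, 0, 0, e, z⟩ := by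
  have hR : (Lm b e z : GG) ∈ RS K (Rn 0) := mul_mem (xx_mem_RS (by decide) b)
    (mul_mem (xx_mem_RS (by decide) e) (xx_mem_RS (by decide) z))
  refine ⟨hR, ?_, ?_⟩
  · have h : om (Lp e b z)⁻¹ = (Lm b e z : GG) := om_Lp_inv e b z
    rw [← h]
    exact om_mem E (inv_mem (Lp_upp he hb hz).2.1)
  · obtain ⟨w14, w22, -, -, -, -, -, -, w23, -⟩ := w_vals
    obtain ⟨-, -, -, -, -, -, -, -, -, -, -, -, -, -, -, n0'⟩ := neg_vals
    obtain ⟨n1, n9, -⟩ := long_ok
    have h1 := nJ0_conj (K := K) (r := 22) (by norm_num) b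
    have h9 := nJ0_conj (K := K) (r := 14) (by norm_num) e
    have h0 := nJ0_conj (K := K) (r := 23) (by norm_num) z
    rw [w22] at h1; rw [w14] at h9; rw [w23] at h0
    rw [Lm, map_mul, map_mul, om_two (by norm_num), om_two (by norm_num), om_two (by norm_num),
      n1, n9, n0']
    have e0 : nL hC K (Jw 0) * (xx 22 b * (xx 14 e * xx 23 z)) * (nL hC K (Jw 0))⁻¹ =
        (xx 14 b * (xx 22 e * xx 23 z) : GG) := by
      calc _ = (nL hC K (Jw 0) * xx 22 b * (nL hC K (Jw 0))⁻¹) *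
            ((nL hC K (Jw 0) * xx 14 e * (nL hC K (Jw 0))⁻¹) *
              (nL hC K (Jw 0) * xx 23 z * (nL hC K (Jw 0))⁻¹)) := by group
        _ = _ := by rw [h1, h9, h0]
    rw [e0]
    simp [Co.pt, Invol.Pt, Collect.P, xg_zero hC]

theorem tt_comm_inv (h2 : E.q = 2) (lam : Kˣ) {r : ℕ} (hr : r ∈ [14, 22, 23, 9, 1, 0]) (u : K) :
    tt E.θ lam 1 * xx r u = (xx r u * tt E.θ lam 1 : GG) := (tt_long h2 lam hr u).eq

theorem long_even (h2 : E.q = 2) (ha0 : a0 ≠ 1) {lam : Kˣ} (hl : lam ≠ 1) {b e z b' e' f : K}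
    (hb : E.θ b = b) (he : E.θ e = e) (hz : E.θ z = z) (hb' : E.θ b' = b') (he' : E.θ e' = e')
    (hf : E.θ f = f) (hpar : b + e = b' + e') :
    Cov E (xw E a0) (Lm b e z * tt E.θ lam 1 * Lp b' e' f) := by
  rw [← Phi0_dw]
  have hl' : (lam : K)⁻¹ ≠ 1 := fun h => hl (Units.ext (inv_eq_one.1 h))
  refine good_pair h2 ha0 (Lm_low hb he hz) (Lp_upp hb' he' hf) (dw lam) (v0 := 1) (v1 := 1)
    (w0 := 1) (w1 := (lam : K)⁻¹) (by simpa using sub_ne_zero.2 hl') (Or.inl ?_) ?_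
  · simp [SL2.el, coe_dw]
    rw [div_eq_one_iff_eq (sub_ne_zero.2 hl'), Twist.CharTwo.neg_eq (1 : K) |>.symm.trans rfl]
    linear_combination (-(lam : K)⁻¹ - 1) * two0 (K := K)
  · rw [pj_one, pj_one, val_some h2, val_some h2, pow7 h2 (inv_ne_zero lam.ne_zero)]
    simp only [one_pow, mul_one, mul_zero, zero_mul, add_zero, zero_pow (show (2:ℕ) ≠ 0 by decide),
      zero_pow (show (4:ℕ) ≠ 0 by decide)]
    linear_combination hpar

theorem long_norm (h2 : E.q = 2) (ha0 : a0 ≠ 1) {lam : Kˣ} (hl : lam ≠ 1) {z ε f : K}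
    (hz : E.θ z = z) (hε : E.θ ε = ε) (hf : E.θ f = f) :
    Cov E (xw E a0) (Lm 0 1 z * tt E.θ lam 1 * Lp ε ε f) := by
  obtain ⟨-, -, -, -, -, -, t0, t9, t14, -⟩ := long_ok
  have g1 : E.θ (1 : K) = 1 := map_one _
  have hfe : E.θ (f + ε) = f + ε := by rw [map_add, hf, hε]
  have he1 : E.θ (ε + 1) = ε + 1 := by rw [map_add, hε, g1]
  have c14 := conj_one (K := K) (r := 22) (s := 14) (by norm_num) (by norm_num) (by norm_num)
    (by decide) (Or.inr rfl) t14 1 ε
  rw [one_mul] at c14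
  have c22 : ∀ a : K, Commute (xx 23 a : GG) (xx 22 1) := fun a => long_comm (23, 22) (by simp) a 1
  rcases fix01 h2 hz with rfl | rfl
  · refine Cov.of_conj E (mem23 g1) ?_
    have c9 := conj_one (K := K) (r := 23) (s := 9) (by norm_num) (by norm_num) (by norm_num)
      (by decide) (Or.inr rfl) t9 1 1
    rw [mul_one] at c9
    have e : xx 23 1 * (Lm 0 1 0 * tt E.θ lam 1 * Lp ε ε f) * (xx 23 1)⁻¹ =
        (Lm 0 1 0 * tt E.θ lam 1 * Lp ε (ε + 1) (f + ε) : GG) := by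
      have p14 : xx 23 1 * xx 14 ε * (xx 23 1)⁻¹ = (xx 14 ε : GG) := by
        rw [(long_comm (23, 14) (by simp) 1 ε).eq, mul_inv_cancel_right]
      have p22 : xx 23 1 * xx 22 ε * (xx 23 1)⁻¹ = (xx 22 ε : GG) := by
        rw [(long_comm (23, 22) (by simp) 1 ε).eq, mul_inv_cancel_right]
      calc _ = (xx 23 1 * xx 9 1 * (xx 23 1)⁻¹) * (xx 23 1 * tt E.θ lam 1 * (xx 23 1)⁻¹) *
            ((xx 23 1 * xx 14 ε * (xx 23 1)⁻¹) * (xx 23 1 * xx 22 ε * (xx 23 1)⁻¹) *
              (xx 23 1 * xx 23 f * (xx 23 1)⁻¹)) := by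
            simp only [Lm, Lp, xx_zero]; group
        _ = xx 9 1 * (xx 22 1 * tt E.θ lam 1) * (xx 14 ε * xx 22 ε * xx 23 f) := by
            rw [c9, p14, p22, ← tt_comm_inv h2 lam (by simp) (1 : K), mul_inv_cancel_right,
              ← xx_add, xx_inv2, ← xx_add, add_comm (1 : K) f, add_assoc,
              _root_.CharTwo.add_self_eq_zero, add_zero, mul_assoc (xx 9 1 : GG)]
        _ = xx 9 1 * tt E.θ lam 1 * ((xx 22 1 * xx 14 ε * (xx 22 1)⁻¹) * xx 22 1 * xx 22 ε *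
              xx 23 f) := by rw [← tt_comm_inv h2 lam (by simp) (1 : K)]; group
        _ = _ := by
            rw [c14]
            simp only [Lm, Lp, xx_zero, one_mul, mul_one]
            rw [mul_assoc (xx 14 ε * xx 23 ε : GG), ← xx_add, mul_assoc (xx 14 ε : GG),
              (long_comm (23, 22) (by simp) ε (1 + ε)).eq, add_comm ε 1, add_comm f ε, xx_add 23]
            group
    rw [e]
    exact long_even h2 ha0 hl (map_zero _) g1 (map_zero _) hε he1 hfe (by
      linear_combination -ε * two0 (K := K))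
  · refine Cov.of_conj E (mem22 g1) ?_
    have c0 := conj_one (K := K) (r := 22) (s := 0) (by norm_num) (by norm_num) (by norm_num)
      (by decide) (Or.inl rfl) t0 1 1
    rw [mul_one] at c0
    have e : xx 22 1 * (Lm 0 1 1 * tt E.θ lam 1 * Lp ε ε f) * (xx 22 1)⁻¹ =
        (Lm 0 0 1 * tt E.θ lam 1 * Lp ε ε (f + ε) : GG) := by
      have m9 : xx 22 1 * xx 9 1 * (xx 22 1)⁻¹ = (xx 9 1 : GG) := by
        rw [(long_comm (22, 9) (by simp) 1 1).eq, mul_inv_cancel_right]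
      have p23 : xx 22 1 * xx 23 f * (xx 22 1)⁻¹ = (xx 23 f : GG) := by
        rw [← (c22 f).eq, mul_inv_cancel_right]
      have p22 : xx 22 1 * xx 22 ε * (xx 22 1)⁻¹ = (xx 22 ε : GG) := by
        rw [← xx_add, xx_inv2, ← xx_add, add_comm 1 ε, add_assoc,
          _root_.CharTwo.add_self_eq_zero, add_zero]
      calc _ = (xx 22 1 * xx 9 1 * (xx 22 1)⁻¹) * (xx 22 1 * xx 0 1 * (xx 22 1)⁻¹) *
            (xx 22 1 * tt E.θ lam 1 * (xx 22 1)⁻¹) *
            ((xx 22 1 * xx 14 ε * (xx 22 1)⁻¹) * (xx 22 1 * xx 22 ε * (xx 22 1)⁻¹) *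
              (xx 22 1 * xx 23 f * (xx 22 1)⁻¹)) := by
            simp only [Lm, Lp, xx_zero]; group
        _ = _ := by
            rw [m9, c0, c14, p22, p23, ← tt_comm_inv h2 lam (by simp) (1 : K),
              mul_inv_cancel_right, ← mul_assoc (xx 9 1 : GG),
              ← (long_comm (0, 9) (by simp) 1 1).eq, mul_assoc (xx 0 1 : GG), ← xx_add,
              _root_.CharTwo.add_self_eq_zero, xx_zero, mul_one]
            simp only [Lm, Lp, xx_zero, one_mul]
            rw [mul_assoc (xx 14 ε : GG) (xx 23 ε), (long_comm (23, 22) (by simp) ε ε).eq,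
              add_comm f ε, xx_add 23]
            group
    rw [e]
    exact long_even h2 ha0 hl (map_zero _) (map_zero _) g1 hε hε hfe (by
      linear_combination -ε * two0 (K := K))

theorem long_state (h2 : E.q = 2) (ha0 : a0 ≠ 1) {lam : Kˣ} (hl : lam ≠ 1) {b e z b' e' f : K}
    (hb : E.θ b = b) (he : E.θ e = e) (hz : E.θ z = z) (hb' : E.θ b' = b') (he' : E.θ e' = e')
    (hf : E.θ f = f) : Cov E (xw E a0) (Lm b e z * tt E.θ lam 1 * Lp b' e' f) := by
  by_cases hpar : b + e = b' + e'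
  · exact long_even h2 ha0 hl hb he hz hb' he' hf hpar
  have step : ∀ {b e z b' e' f : K}, E.θ b = b → E.θ e = e → E.θ z = z → E.θ b' = b' →
      E.θ e' = e' → E.θ f = f → b + e = 1 → b' + e' = 0 →
      Cov E (xw E a0) (Lm b e z * tt E.θ lam 1 * Lp b' e' f) := by
    intro b e z b' e' f hb he hz hb' he' hf h1 h0
    obtain rfl := _root_.CharTwo.add_eq_zero.1 h0
    rcases fix01 h2 hb with rfl | rfl
    · rw [zero_add] at h1
      subst h1
      exact long_norm h2 ha0 hl hz hb' hf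
    · have he0 : e = 0 := by simpa using h1
      subst he0
      refine Cov.of_conj E (nJ_mem E 0) ?_
      obtain ⟨w14, w22, -, -, -, -, -, -, w23, w00, -⟩ := w_vals
      obtain ⟨-, -, w9, w1, -, -, -, -, t14, -⟩ := long_ok
      have h1' := nJ0_conj (K := K) (r := 1) (by norm_num) (1 : K)
      have h0' := nJ0_conj (K := K) (r := 0) (by norm_num) z
      have k14 := nJ0_conj (K := K) (r := 14) (by norm_num) b'
      have k22 := nJ0_conj (K := K) (r := 22) (by norm_num) b'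
      have k23 := nJ0_conj (K := K) (r := 23) (by norm_num) f
      rw [w1] at h1'; rw [w00] at h0'; rw [w14] at k14; rw [w22] at k22; rw [w23] at k23
      have ht : nL hC K (Jw 0) * tt E.θ lam 1 * (nL hC K (Jw 0))⁻¹ =
          (tt E.θ lam⁻¹ 1 : GG) := by
        have : (swm : SL) * dw lam * swm⁻¹ = dw lam⁻¹ := by
          rw [inv_eq_of_mul_eq_one_right swm_sq]
          apply Subtype.ext
          rw [Matrix.SpecialLinearGroup.coe_mul, Matrix.SpecialLinearGroup.coe_mul, coe_dw, coe_dw,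
            coe_swm]
          ext i j
          fin_cases i <;> fin_cases j <;> simp [Matrix.mul_apply, Fin.sum_univ_two]
        rw [← Phi0_dw, ← Phi0_dw, nJ0_eq E.θ, ← map_inv, ← map_mul, ← map_mul, this]
      have c14 := conj_one (K := K) (r := 22) (s := 14) (by norm_num) (by norm_num) (by norm_num)
        (by decide) (Or.inr rfl) t14 b' b'
      have sq : b' * b' = b' := by rw [← θ_eq h2]; exact hb'
      rw [sq] at c14
      have e1 : nL hC K (Jw 0) * (Lm 1 0 z * tt E.θ lam 1 * Lp b' b' f) * (nL hC K (Jw 0))⁻¹ =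
          (Lm 0 1 z * tt E.θ lam⁻¹ 1 * Lp b' b' (f + b') : GG) := by
        calc _ = (nL hC K (Jw 0) * xx 1 1 * (nL hC K (Jw 0))⁻¹) *
              (nL hC K (Jw 0) * xx 0 z * (nL hC K (Jw 0))⁻¹) *
              (nL hC K (Jw 0) * tt E.θ lam 1 * (nL hC K (Jw 0))⁻¹) *
              ((nL hC K (Jw 0) * xx 14 b' * (nL hC K (Jw 0))⁻¹) *
              (nL hC K (Jw 0) * xx 22 b' * (nL hC K (Jw 0))⁻¹) *
              (nL hC K (Jw 0) * xx 23 f * (nL hC K (Jw 0))⁻¹)) := by
              simp only [Lm, Lp, xx_zero]; group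
          _ = xx 9 1 * xx 0 z * tt E.θ lam⁻¹ 1 *
              ((xx 22 b' * xx 14 b' * (xx 22 b')⁻¹) * xx 22 b' * xx 23 f) := by
              rw [h1', h0', ht, k14, k22, k23]; group
          _ = _ := by
              rw [c14]
              simp only [Lm, Lp, xx_zero, one_mul]
              rw [mul_assoc (xx 14 b' : GG) (xx 23 b'), (long_comm (23, 22) (by simp) b' b').eq,
                add_comm f b', xx_add 23]
              group
      rw [e1]
      exact long_norm h2 ha0 (fun h => hl (inv_eq_one.1 h)) hz hb'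
        (by rw [map_add, hf, hb'])
  have s01 : b + e = 0 ∨ b + e = 1 := fix01 h2 (by rw [map_add, hb, he])
  have s01' : b' + e' = 0 ∨ b' + e' = 1 := fix01 h2 (by rw [map_add, hb', he'])
  rcases s01 with h | h <;> rcases s01' with h' | h'
  · exact absurd (h.trans h'.symm) hpar
  · refine Cov.of_mirror E (class_inv h2) ?_
    rw [mul_inv_rev, mul_inv_rev, map_mul, map_mul, om_Lp_inv, om_Lm_inv, map_inv, om_tt, inv_inv,
      ← mul_assoc]
    exact step he' hb' hf he hb hz (by rw [add_comm]; exact h') (by rw [add_comm]; exact h)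
  · exact step hb he hz hb' he' hf h h'
  · exact absurd (h.trans h'.symm) hpar

/-! ### Split middle factors -/

theorem all_diag (h2 : E.q = 2) (ha0 : a0 ≠ 1) {lam : Kˣ} (hl : lam ≠ 1) :
    All E a0 (dw lam) := by
  intro m p Q C hQ hC'
  by_contra hno
  have hlK : (lam : K) ≠ 1 := fun h => hl (Units.ext h)
  have hl0 : (lam : K) ≠ 0 := lam.ne_zero
  have hli : (lam : K)⁻¹ ≠ 1 := fun h => hlK (inv_eq_one.1 h)
  have e00 : SL2.el (dw lam) 0 0 = (lam : K) := by simp [SL2.el, coe_dw]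
  have e01 : SL2.el (dw lam) 0 1 = 0 := by simp [SL2.el, coe_dw]
  have e10 : SL2.el (dw lam) 1 0 = 0 := by simp [SL2.el, coe_dw]
  have e11 : SL2.el (dw lam) 1 1 = (lam : K)⁻¹ := by simp [SL2.el, coe_dw]
  have hfix : ∀ r, (Q.val E.θ r = 0 ∨ Q.val E.θ r = 1) ∧ (C.val E.θ r = 0 ∨ C.val E.θ r = 1) :=
    fun r => ⟨fix01 h2 (hQ.val_fixed h2 r), fix01 h2 (hC'.val_fixed h2 r)⟩
  have hone : ∀ t : K, t ≠ 0 →
      Q.val E.θ (some t) + C.val E.θ (some ((lam : K)⁻¹ * t)) = 1 := by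
    intro t ht
    have hD : (lam : K)⁻¹ * t - t ≠ 0 := by
      rw [show (lam : K)⁻¹ * t - t = ((lam : K)⁻¹ - 1) * t by ring]
      exact mul_ne_zero (sub_ne_zero.2 hli) ht
    have := pair_sum h2 ha0 hQ hC' _ hno (v0 := 1) (v1 := t) (w0 := 1)
      (w1 := (lam : K)⁻¹ * t) (by simpa using hD) (Or.inl (by
        simp only [e00, e01, e10, e11, one_mul, mul_one, mul_zero, add_zero, zero_add]
        rw [div_eq_one_iff_eq hD, mul_inv_cancel_left₀ hl0]
        linear_combination (t - t * (lam : K)⁻¹) * two0 (K := K)))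
    rwa [pj_one, pj_one] at this
  obtain ⟨τ, hτ⟩ : ∃ τ, τ = (a0 : K) * a0 := ⟨_, rfl⟩
  by_cases hT : TK a0 (lam : K)
  · have h1 : ∀ u, Q.val E.θ none + C.val E.θ (some u) = 1 := fun u => by
      have := pair_sum h2 ha0 hQ hC' _ hno (v0 := 0) (v1 := 1) (w0 := 1) (w1 := u) (by simp)
        (by simp only [e00, e01, e10, e11]; simpa using hT.inv)
      rwa [pj_zero, pj_one] at this
    have h3 : ∀ t, Q.val E.θ (some t) + C.val E.θ none = 1 := fun t => by
      have := pair_sum h2 ha0 hQ hC' _ hno (v0 := 1) (v1 := t) (w0 := 0) (w1 := 1) (by simp)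
        (by simp only [e00, e01, e10, e11]; simpa using hT)
      rwa [pj_zero, pj_one] at this
    exact cross h2 Q C h1 h3 _ _ (hone 1 one_ne_zero)
  have hlτ : (lam : K) + τ ≠ 0 := fun h => hT (Or.inr (Or.inl (hτ ▸ _root_.CharTwo.add_eq_zero.1 h)))
  have hτl : τ + (lam : K)⁻¹ ≠ 0 := fun h => hT (Or.inr (Or.inr (by
    rw [← mul_inv, ← hτ, _root_.CharTwo.add_eq_zero.1 h, inv_inv])))
  obtain ⟨μ, hμ⟩ : ∃ μ, μ = (τ + (lam : K)⁻¹) / ((lam : K) + τ) := ⟨_, rfl⟩
  have hμ' : μ * ((lam : K) + τ) = τ + (lam : K)⁻¹ := by rw [hμ, div_mul_cancel₀ _ hlτ]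
  have hμ1 : μ - 1 ≠ 0 := fun h => by
    rw [sub_eq_zero.1 h, one_mul] at hμ'
    have h3 : (lam : K) = (lam : K)⁻¹ := by linear_combination hμ'
    apply hlK
    have : ((lam : K) - 1) * ((lam : K) - 1) = 0 := by
      rw [eq_comm, inv_eq_iff_eq_inv] at h3
      have h4 : (lam : K) * lam = 1 := by
        nth_rewrite 2 [h3]; exact mul_inv_cancel₀ hl0
      linear_combination h4 + (1 - (lam : K)) * two0 (K := K)
    exact sub_eq_zero.1 (mul_self_eq_zero.1 this)
  have hmu : ∀ t : K, t ≠ 0 → Q.val E.θ (some t) + C.val E.θ (some (μ * t)) = 1 := by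
    intro t ht
    have hD : μ * t - t ≠ 0 := by
      rw [show μ * t - t = (μ - 1) * t by ring]; exact mul_ne_zero hμ1 ht
    have := pair_sum h2 ha0 hQ hC' _ hno (v0 := 1) (v1 := t) (w0 := 1) (w1 := μ * t)
      (by simpa using hD) (Or.inr (Or.inl (by
        simp only [e00, e01, e10, e11, one_mul, mul_one, mul_zero, add_zero, zero_add]
        rw [← hτ, div_eq_iff hD]
        linear_combination t * hμ' + (τ * t - τ * μ * t) * two0 (K := K))))
    rwa [pj_one, pj_one] at this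
  have hν : (μ * (lam : K)) ≠ 1 := by
    intro h
    have h5 : ((lam : K) + τ) = (τ + (lam : K)⁻¹) * lam := by
      rw [← hμ', mul_right_comm, h, one_mul]
    rw [add_mul, inv_mul_cancel₀ hl0] at h5
    have : (τ + 1) * ((lam : K) + 1) = 0 := by linear_combination h5.symm + (τ + (lam : K)) * two0 (K := K)
    rcases mul_eq_zero.1 this with h6 | h6
    · exact tau_ne ha0 (hτ ▸ _root_.CharTwo.add_eq_zero.1 h6)
    · exact hlK (_root_.CharTwo.add_eq_zero.1 h6)
  have hν0 : μ * (lam : K) ≠ 0 := mul_ne_zero (hμ ▸ div_ne_zero hτl hlτ) hl0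
  have inv_step : ∀ s : K, s ≠ 0 →
      C.val E.θ (some s) = C.val E.θ (some (μ * lam * s)) := by
    intro s hs
    have a := hone ((lam : K) * s) (mul_ne_zero hl0 hs)
    have b := hmu ((lam : K) * s) (mul_ne_zero hl0 hs)
    rw [inv_mul_cancel_left₀ hl0] at a
    rw [← mul_assoc] at b
    linear_combination a - b
  have hconst : ∀ s : K, s ≠ 0 → C.val E.θ (some s) = C.val E.θ (some 1) := by
    intro s hs
    have : Fact (Nat.Prime 7) := ⟨by norm_num⟩
    have hc : Nat.card Kˣ = 7 := by rw [Nat.card_units, Nat.card_eq_fintype_card, card_eq h2]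
    have hg : Units.mk0 _ hν0 ≠ 1 := fun h => hν (congrArg Units.val h)
    obtain ⟨k, hk⟩ := mem_powers_iff_mem_zpowers.2
      (mem_zpowers_of_prime_card (g' := Units.mk0 s hs) hc hg)
    have hk' : (μ * (lam : K)) ^ k = s := by
      have := congrArg Units.val hk
      simpa using this
    rw [← hk']
    clear hk hk'
    induction k with
    | zero => rw [pow_zero]
    | succ k ih => rw [pow_succ', ← inv_step _ (pow_ne_zero _ hν0), ih]
  have hQc : ∀ t : K, t ≠ 0 → Q.val E.θ (some t) = 1 + C.val E.θ (some 1) := fun t ht => by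
    have a := hone t ht
    rw [hconst _ (mul_ne_zero (inv_ne_zero hl0) ht)] at a
    linear_combination a - C.val E.θ (some 1) * two0 (K := K)
  obtain ⟨hCc, hCd⟩ := const_cd h2 C _ hconst
  obtain ⟨hQc', hQd⟩ := const_cd h2 Q _ hQc
  obtain ⟨hmR, gm, em⟩ := hQ
  obtain ⟨hpR, gp, ep⟩ := hC'
  obtain ⟨qb, qc, qd, qe, qf, fb, fe, ff, eq'⟩ := coords E
    (nL_conj_RS (Jw_lt 0) J0p (om_Rn 0 hmR))
    (mul_mem (mul_mem (nJ_mem E 0) (om_mem E gm)) (inv_mem (nJ_mem E 0)))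
  obtain ⟨pb, pc, pd, pe, pf, fb', fe', ff', ep'⟩ := coords E hpR gp
  rw [em, Co.pt] at eq'
  obtain ⟨hb1, -, -, -, hc1, -, -, hd1, -, -, he1, hf1⟩ := Invol.P_inj eq'
  rw [ep, Co.pt] at ep'
  obtain ⟨hb2, -, -, -, hc2, -, -, hd2, -, -, he2, hf2⟩ := Invol.P_inj ep'
  subst hb1 he1 hf1 hb2 he2 hf2
  have hp : p = (Lp C.b C.e C.f : GG) := by
    rw [ep, (Lp_upp fb' fe' ff').2.2]
    simp [Co.pt, hCc, hCd]
  have hm : m = (Lm Q.b Q.e Q.f : GG) := by
    have e2 := (Lm_low fb fe ff).2.2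
    have e3 : om m = om (Lm Q.b Q.e Q.f : GG) := by
      have e4 : nL hC K (Jw 0) * om m * (nL hC K (Jw 0))⁻¹ =
          nL hC K (Jw 0) * om (Lm Q.b Q.e Q.f : GG) * (nL hC K (Jw 0))⁻¹ := by
        rw [em, e2]
        simp [Co.pt, hQc', hQd]
      exact mul_left_cancel (mul_right_cancel e4)
    exact (om (K := K)).injective e3
  rw [hp, hm, Phi0_dw] at hno
  exact hno (long_state h2 ha0 hl fb fe ff fb' fe' ff')

theorem all_upper (h2 : E.q = 2) (ha0 : a0 ≠ 1) {l : SL} (h10 : SL2.el l 1 0 = 0) :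
    All E a0 l := by
  have hd := SL2.el_det l
  rw [h10, mul_zero, sub_zero] at hd
  by_cases h1 : SL2.el l 0 0 = 1
  · exact all_unip h2 ha0 h10 h1 (by rwa [h1, one_mul] at hd)
  have ha : SL2.el l 0 0 ≠ 0 := fun h => by rw [h, zero_mul] at hd; exact zero_ne_one hd
  obtain ⟨s, hs⟩ : ∃ s, s = SL2.el l 0 1 / (SL2.el l 0 0 + SL2.el l 1 1) := ⟨_, rfl⟩
  have h11 : SL2.el l 1 1 = (SL2.el l 0 0)⁻¹ := eq_inv_of_mul_eq_one_right hd
  have hsum : SL2.el l 0 0 + SL2.el l 1 1 ≠ 0 := by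
    intro h
    apply h1
    rw [← _root_.CharTwo.add_eq_zero.1 h] at hd
    have : (SL2.el l 0 0 - 1) * (SL2.el l 0 0 - 1) = 0 := by
      linear_combination hd + (1 - SL2.el l 0 0) * two0 (K := K)
    exact sub_eq_zero.1 (mul_self_eq_zero.1 this)
  have hs' : s * (SL2.el l 0 0 + SL2.el l 1 1) = SL2.el l 0 1 := by
    rw [hs, div_mul_cancel₀ _ hsum]
  refine All.of_conj (SL2.sx s) ?_
  have e : SL2.sx s * l * (SL2.sx s)⁻¹ = dw (Units.mk0 _ ha) := by
    rw [mul_inv_eq_iff_eq_mul]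
    apply Subtype.ext
    rw [Matrix.SpecialLinearGroup.coe_mul, Matrix.SpecialLinearGroup.coe_mul, coe_dw]
    simp only [SL2.el] at h10 h11 hs' ha ⊢
    ext i j
    fin_cases i <;> fin_cases j <;> simp [Matrix.mul_apply, Fin.sum_univ_two, h10, h11] at *
    linear_combination -hs' + (s * ((l : Matrix (Fin 2) (Fin 2) K) 0 0)⁻¹) * two0 (K := K)
  rw [e]
  exact all_diag h2 ha0 fun h => h1 (congrArg Units.val h)

theorem all_l (h2 : E.q = 2) (ha0 : a0 ≠ 1) (l : SL) : All E a0 l := by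
  by_cases h01 : SL2.el l 0 1 = 0
  · refine All.of_conj swm (all_upper h2 ha0 ?_)
    rw [inv_eq_of_mul_eq_one_right swm_sq, SL2.el_mul, SL2.el_mul, SL2.el_mul]
    simp only [SL2.el] at h01 ⊢
    simp [coe_swm, h01]
  obtain ⟨r, hr⟩ : ∃ r, r = ((SL2.el l 0 1)⁻¹) ^ 4 := ⟨_, rfl⟩
  have hr2 : r * r * SL2.el l 0 1 = 1 := by
    rw [hr, ← pow_add, pow8 h2, inv_mul_cancel₀ h01]
  obtain ⟨P, hP⟩ : ∃ P : SL, (P : Matrix (Fin 2) (Fin 2) K) =
      !![r, 0; r * SL2.el l 0 0, r * SL2.el l 0 1] :=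
    ⟨⟨_, by rw [Matrix.det_fin_two_of]; linear_combination hr2⟩, rfl⟩
  obtain ⟨s, hs⟩ : ∃ s, s = SL2.el l 0 0 + SL2.el l 1 1 := ⟨_, rfl⟩
  obtain ⟨T, hT⟩ : ∃ T : SL, (T : Matrix (Fin 2) (Fin 2) K) = !![0, 1; 1, s] :=
    ⟨⟨_, by rw [Matrix.det_fin_two_of]; linear_combination -two0 (K := K)⟩, rfl⟩
  refine All.of_conj P ?_
  have e : P * l * P⁻¹ = T := by
    rw [mul_inv_eq_iff_eq_mul]
    apply Subtype.ext
    rw [Matrix.SpecialLinearGroup.coe_mul, Matrix.SpecialLinearGroup.coe_mul, hP, hT]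
    have hd := SL2.el_det l
    simp only [SL2.el] at hd hs ⊢
    ext i j
    fin_cases i <;> fin_cases j <;> simp [Matrix.mul_apply, Fin.sum_univ_two, hs] <;>
      first
        | ring1
        | linear_combination (-r) * hd + (-r) * two0 (K := K)
  rw [e]
  by_cases hroot : ∀ x : K, x * x + s * x + 1 ≠ 0
  · exact all_comp h2 ha0 hT hroot
  push Not at hroot
  obtain ⟨x, hx⟩ := hroot
  refine All.of_conj (swm * SL2.sx x) (all_upper h2 ha0 ?_)
  rw [SL2.el_mul, SL2.el_mul, SL2.el_mul]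
  simp [SL2.el, Matrix.SpecialLinearGroup.coe_inv, Matrix.adjugate_fin_two, coe_swm, hT,
    Matrix.mul_apply, Fin.sum_univ_two]
  linear_combination hx + (-1 - x * s) * two0 (K := K)

theorem cov_two (h2 : E.q = 2) (ha0 : a0 ≠ 1) {g : GG} (hg : g ∈ E.G) :
    Cov E (xw E a0) g := by
  obtain ⟨a, ha0', b, hb0, h, hh0, c, hc0, rfl⟩ := cell_all E hg
  obtain ⟨ha, gha⟩ := Subgroup.mem_inf.1 ha0'
  obtain ⟨hb, ghb⟩ := Subgroup.mem_inf.1 hb0
  obtain ⟨hh, ghh⟩ := Subgroup.mem_inf.1 hh0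
  obtain ⟨hc, ghc⟩ := Subgroup.mem_inf.1 hc0
  obtain ⟨x, y, hy, rfl⟩ := mem_torus E hh ghh
  obtain rfl := unit_fix h2 hy
  refine Cov.of_conj E (inv_mem gha) ?_
  obtain ⟨γ, -, w, hw, gw, rfl⟩ := V_left E 0 hb ghb
  obtain ⟨ε, -, p, hp, gp, ep⟩ := U_left E 0 (mul_mem hc ha) (mul_mem ghc gha)
  have gY : Yn E.θ 0 γ ∈ E.G := Yn_mem E (Par.zero E γ)
  obtain ⟨Q, hQ⟩ := exists_low (E := E) (conj_Rn (Ns_le 0 (Yn_mem_RS E.θ 0 γ)) hw)
    (mul_mem (mul_mem gY gw) (inv_mem gY))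
  obtain ⟨C, hC'⟩ := exists_upp (E := E) hp gp
  refine (congrArg (Cov E (xw E a0)) ?_).mp
    (all_l h2 ha0 (SL2.sy γ * dw x * SL2.sx ε) _ _ Q C hQ hC')
  rw [map_mul, map_mul, Phi_dw, th, if_pos rfl, show Phi E.θ 0 (SL2.sy γ) = Yn E.θ 0 γ from rfl,
    show Phi E.θ 0 (SL2.sx ε) = Xp E.θ 0 ε from rfl]
  calc Yn E.θ 0 γ * w * (Yn E.θ 0 γ)⁻¹ * (Yn E.θ 0 γ * tt E.θ x 1 * Xp E.θ 0 ε) * p =
      Yn E.θ 0 γ * w * tt E.θ x 1 * (Xp E.θ 0 ε * p) := by group
    _ = _ := by rw [← ep]; group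

/-- `³D₄(2)` is the square of a class of elements of odd order. -/
theorem exists_semisimple_two (h2 : E.q = 2) :
    ∃ x : E.G, ¬ 2 ∣ orderOf x ∧
      ∀ g : E.G, ∃ u v : E.G, g = (u * x * u⁻¹) * (v * x * v⁻¹) := by
  classical
  obtain ⟨a0, ha0⟩ : ∃ a : Kˣ, a ≠ 1 := by
    refine Fintype.exists_ne_of_one_lt_card ?_ 1
    rw [Fintype.card_units, card_eq h2]; norm_num
  refine ⟨⟨xw E a0, xw_mem a0⟩, fun hdvd => ?_, fun g => ?_⟩
  · rw [← Subgroup.orderOf_coe] at hdvd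
    have h := hdvd.trans (orderOf_dvd_of_pow_eq_one (xw_pow h2 a0))
    norm_num at h
  · obtain ⟨b, c, ⟨u, hu, rfl⟩, ⟨v, hv, rfl⟩, e⟩ := cov_two h2 ha0 g.2
    exact ⟨⟨u, hu⟩, ⟨v, hv⟩, Subtype.ext e⟩

end Cfsg.Agent.Involutions.ClassSquare.D4.Two
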