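import Cfsg.Agent.Lib.Involutions.ClassSquare.D4Twist
import Cfsg.Agent.Lib.Involutions.ClassSquare.D4Moves

/-!
The group `³D₄(2)`: a class of elements of order 21 and its action on the radicals of the
parabolic subgroup of the long fundamental root.
-/

set_option autoImplicit false
set_option linter.unusedSectionVars false

open scoped Matrix

namespace Cfsg.Agent.Involutions.ClassSquare.D4.Two

open Cfsg.Lie Cfsg.Agent.Chevalley Cfsg.Agent.Chevalley.Cert Cfsg.Agent.Chevalley.Group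
  Cfsg.Agent.Chevalley.Table Cfsg.Agent.Chevalley.Unip Cfsg.Agent.Chevalley.Bruhat
  Cfsg.Agent.Chevalley.Borel Cfsg.Agent.Chevalley.Twist.D4

variable {K : Type*} [Field K] [Fintype K] {E : Env K}

local notation "GG" => GL chevD4.Idx K
local notation "SL" => Matrix.SpecialLinearGroup (Fin 2) K

/-! ### The field -/

theorem char_two (h2 : E.q = 2) : CharP K 2 :=
  charP_of_card_eq_prime_pow (R := K) (p := 2) (f := 3) (by rw [E.hK, h2])

theorem card_eq (h2 : E.q = 2) : Fintype.card K = 8 := by rw [E.hK, h2]; rfl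

theorem θ_eq (h2 : E.q = 2) (t : K) : E.θ t = t * t := by rw [E.hθ, h2, sq]

theorem pow8 (h2 : E.q = 2) (t : K) : t ^ 8 = t := by
  rw [← card_eq h2]; exact FiniteField.pow_card t

theorem pow7 (h2 : E.q = 2) {t : K} (ht : t ≠ 0) : t ^ 7 = 1 := by
  have := FiniteField.pow_card_sub_one_eq_one t ht
  rwa [card_eq h2] at this

theorem unit_pow7 (h2 : E.q = 2) (a : Kˣ) : a ^ 7 = 1 := by
  ext; rw [Units.val_pow_eq_pow_val, pow7 h2 a.ne_zero, Units.val_one]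

theorem fix01 (h2 : E.q = 2) {t : K} (h : E.θ t = t) : t = 0 ∨ t = 1 := by
  rw [θ_eq h2] at h
  rcases eq_or_ne t 0 with h0 | h0
  · exact Or.inl h0
  · exact Or.inr ((mul_eq_left₀ h0).1 h)

theorem unit_fix (h2 : E.q = 2) {b : Kˣ} (h : E.θ (b : K) = b) : b = 1 := by
  rcases fix01 h2 h with h0 | h0
  · exact absurd h0 b.ne_zero
  · exact Units.ext h0

theorem fixed_zero : E.θ (0 : K) = 0 := map_zero _

theorem fixed_one : E.θ (1 : K) = 1 := map_one _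

/-! ### The torus -/

/-- The weight of a root on the cyclic torus of order seven. -/
def wt (r : ℕ) : ℤ := chevD4.cartan 0 r + 2 * chevD4.cartan 2 r + 4 * chevD4.cartan 3 r

theorem chi_wt (h2 : E.q = 2) (a : Kˣ) (r : ℕ) :
    chi E.θ a 1 r = ((a ^ wt r : Kˣ) : K) := by
  have e : Twist.D4.Θu E.θ a = a ^ (2 : ℤ) := Units.ext (by
    rw [zpow_ofNat, Units.val_pow_eq_pow_val, sq]; exact θ_eq h2 a)
  have e' : Twist.D4.Θu E.θ (Twist.D4.Θu E.θ a) = a ^ (4 : ℤ) := Units.ext (by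
    rw [e, zpow_ofNat, zpow_ofNat, Units.val_pow_eq_pow_val]
    show E.θ ((a ^ 2 : Kˣ) : K) = _
    rw [θ_eq h2, Units.val_pow_eq_pow_val, ← pow_add])
  rw [chi, torChar, simple_vals.2.2.2.2, wt, zpow_add, zpow_add, zpow_mul, zpow_mul]
  congr 1
  simp only [Finset.prod_range_succ, Finset.prod_range_zero, one_mul, Twist.D4.dvec]
  simp only [show (0 : ℕ) ≠ 1 by decide, show (2 : ℕ) ≠ 1 by decide, show (3 : ℕ) ≠ 1 by decide,
    show (2 : ℕ) ≠ 0 by decide, show (3 : ℕ) ≠ 0 by decide, show (3 : ℕ) ≠ 2 by decide, if_true,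
    if_false, e, one_zpow, mul_one]
  rw [← e', e]

theorem wt_long : ∀ r ∈ [14, 22, 23, 9, 1, 0], (7 : ℤ) ∣ wt r := by decide +kernel

theorem wt_short : ∀ r ∈ [12, 13, 15, 16, 17, 18, 19, 20, 21], ¬ (7 : ℤ) ∣ wt r := by
  decide +kernel

theorem chi_long (h2 : E.q = 2) (a : Kˣ) {r : ℕ} (hr : r ∈ [14, 22, 23, 9, 1, 0]) :
    chi E.θ a 1 r = 1 := by
  obtain ⟨k, hk⟩ := wt_long r hr
  rw [chi_wt h2, hk, zpow_mul, zpow_ofNat, unit_pow7 h2, one_zpow, Units.val_one]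

theorem chi_short (h2 : E.q = 2) {a : Kˣ} (ha : a ≠ 1) {r : ℕ}
    (hr : r ∈ [12, 13, 15, 16, 17, 18, 19, 20, 21]) : chi E.θ a 1 r ≠ 1 := by
  have : Fact (Nat.Prime 7) := ⟨by norm_num⟩
  intro h
  apply wt_short r hr
  rw [chi_wt h2] at h
  have := orderOf_dvd_iff_zpow_eq_one.2 (Units.ext h : a ^ wt r = 1)
  rwa [orderOf_eq_prime (unit_pow7 h2 a) ha] at this

theorem tt_long (h2 : E.q = 2) (a : Kˣ) {r : ℕ} (hr : r ∈ [14, 22, 23, 9, 1, 0]) (t : K) :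
    Commute (tt E.θ a 1) (xx r t : GG) := by
  have := tt_conj E.θ a 1 r ((show ∀ r ∈ [14, 22, 23, 9, 1, 0], r < 24 by decide) r hr) t
  rw [chi_long h2 a hr, one_mul] at this
  exact mul_inv_eq_iff_eq_mul.1 this

theorem tt_pow (a : Kˣ) (k : ℕ) : (tt E.θ a 1 : GG) ^ k = tt E.θ (a ^ k) 1 := by
  induction k with
  | zero => rw [pow_zero, pow_zero, tt_one]
  | succ k ih => rw [pow_succ, ih, tt_mul, ← pow_succ, mul_one]

/-! ### The element of order three -/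

/-- The element of order three in the long fundamental subgroup. -/
noncomputable def AA : GL chevD4.Idx K := xx 9 1 * xx 14 1

variable [CharP K 2]

theorem AA_eq (θ : K →+* K) : (AA : GG) = Phi θ 1 (SL2.sy 1 * SL2.sx 1) := by
  rw [map_mul, show Phi θ 1 (SL2.sy (1 : K)) = Yn θ 1 1 from rfl,
    show Phi θ 1 (SL2.sx (1 : K)) = Xp θ 1 1 from rfl, Yn1, Xp1, AA]

theorem AA_cube : (AA : GG) ^ 3 = 1 := by
  have e : (SL2.sy (1 : K) * SL2.sx 1) ^ 3 = 1 := by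
    ext i j
    fin_cases i <;> fin_cases j <;>
      simp [pow_succ, Matrix.mul_apply, Fin.sum_univ_two, _root_.CharTwo.add_self_eq_zero]
  rw [AA_eq (RingHom.id K), ← map_pow, e, map_one]

theorem AA_inv : (AA : GG)⁻¹ = xx 14 1 * xx 9 1 := by
  rw [AA, mul_inv_rev, xx_inv2, xx_inv2]

theorem om_AA : om (AA : GG) = AA⁻¹ := by
  rw [AA_inv, AA, map_mul, om_two (by norm_num), om_two (by norm_num),
    show chevD4.neg 9 = 14 by decide +kernel, neg_vals.1]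

theorem tt_AA (h2 : E.q = 2) (a : Kˣ) : Commute (tt E.θ a 1) (AA : GG) :=
  (tt_long h2 a (by simp) 1).mul_right (tt_long h2 a (by simp) 1)

theorem AA_mem : (AA : GG) ∈ E.G := by
  rw [AA, ← Yn1 E.θ, ← Xp1 E.θ]
  exact mul_mem (Yn_mem E fun _ => map_one _) (Xp_mem E fun _ => map_one _)

theorem AA_mem_RS : (AA : GG) ∈ RS K (Ps 1 ++ Ns 1) :=
  mul_mem (xx_mem_RS (by simp [Ps, Ns]) _) (xx_mem_RS (by simp [Ps, Ns]) _)

/-- The two elements of order three. -/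
def IsB (B : GL chevD4.Idx K) : Prop := B = AA ∨ B = AA⁻¹

theorem IsB.cube {B : GG} (h : IsB B) : B ^ 3 = 1 := by
  rcases h with rfl | rfl
  · exact AA_cube
  · rw [inv_pow, AA_cube, inv_one]

theorem IsB.om {B : GG} (h : IsB B) : IsB (D4.om B) := by
  rcases h with rfl | rfl
  · exact Or.inr om_AA
  · exact Or.inl (by rw [map_inv, om_AA, inv_inv])

theorem IsB.mem {B : GG} (h : IsB B) : B ∈ E.G := by
  rcases h with rfl | rfl
  exacts [AA_mem, inv_mem AA_mem]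

theorem IsB.mem_RS {B : GG} (h : IsB B) : B ∈ RS K (Ps 1 ++ Ns 1) := by
  rcases h with rfl | rfl
  exacts [AA_mem_RS, inv_mem AA_mem_RS]

theorem IsB.comm (h2 : E.q = 2) {B : GG} (h : IsB B) (a : Kˣ) : Commute (tt E.θ a 1) B := by
  rcases h with rfl | rfl
  exacts [tt_AA h2 a, (tt_AA h2 a).inv_right]

/-! ### Fixed points -/

theorem top_ok : chevD4.commTerms 14 22 = [(23, (1 : ℤ), 1, 1)] ∧
    chevD4.commTerms 22 14 = [(23, (-1 : ℤ), 1, 1)] ∧
    chevD4.commTerms 9 23 = [(22, (1 : ℤ), 1, 1)] ∧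
    chevD4.commTerms 9 22 = [] ∧ chevD4.commTerms 14 23 = [] ∧ chevD4.commTerms 22 23 = [] := by
  decide +kernel

theorem AA_top (p q : K) :
    AA * (xx 22 p * xx 23 q) * AA⁻¹ = (xx 22 q * xx 23 (p + q) : GG) := by
  obtain ⟨t14, -, t9, n9, n14, -⟩ := top_ok
  have a := conj_one (K := K) (r := 14) (s := 22) (by norm_num) (by norm_num) (by norm_num)
    (by decide) (Or.inl rfl) t14 1 p
  have b : (xx 14 1 * xx 23 q * (xx 14 1)⁻¹ : GG) = xx 23 q := by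
    rw [(xx_comm_of_nil (K := K) (by norm_num) (by norm_num) (by norm_num) (by decide) n14 1 q).eq,
      mul_inv_cancel_right]
  have c : (xx 9 1 * xx 22 p * (xx 9 1)⁻¹ : GG) = xx 22 p := by
    rw [(xx_comm_of_nil (K := K) (by norm_num) (by norm_num) (by norm_num) (by decide) n9 1 p).eq,
      mul_inv_cancel_right]
  have d := conj_one (K := K) (r := 9) (s := 23) (by norm_num) (by norm_num) (by norm_num)
    (by decide) (Or.inl rfl) t9 1 (p + q)
  rw [one_mul] at a d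
  have h22_23 : Commute (xx 23 (p + q) : GG) (xx 22 (p + q)) :=
    (xx_comm_of_nil (K := K) (by norm_num) (by norm_num) (by norm_num) (by decide)
      top_ok.2.2.2.2.2 (p + q) (p + q)).symm
  calc AA * (xx 22 p * xx 23 q) * AA⁻¹ = (xx 9 1 * ((xx 14 1 * xx 22 p * (xx 14 1)⁻¹) *
        (xx 14 1 * xx 23 q * (xx 14 1)⁻¹)) * (xx 9 1)⁻¹ : GG) := by rw [AA]; group
    _ = (xx 9 1 * xx 22 p * (xx 9 1)⁻¹) * (xx 9 1 * xx 23 (p + q) * (xx 9 1)⁻¹) := by
      rw [a, b, mul_assoc (xx 22 p), ← xx_add]; group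
    _ = _ := by
      rw [c, d, h22_23.eq, ← mul_assoc, ← xx_add, ← add_assoc, _root_.CharTwo.add_self_eq_zero,
        zero_add]

theorem fix_tor (h2 : E.q = 2) {a : Kˣ} (ha : a ≠ 1) {u : GG} (hu : u ∈ RS K (Rp 1))
    (hc : Commute (tt E.θ a 1) u) : ∃ p q : K, u = xx 22 p * xx 23 q := by
  obtain ⟨f, hf⟩ := exists_prodX hC (RS_Rp_le_U 1 hu)
  have hscale : prodX hC chevD4.posRoots (fun r => chi E.θ a 1 r * f r) =
      prodX hC chevD4.posRoots f := by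
    rw [← hf]
    refine Eq.trans ?_ (mul_inv_eq_iff_eq_mul.2 hc.eq)
    rw [hf, ← MulAut.conj_apply, prodX, prodX, map_list_prod, List.map_map]
    refine congrArg List.prod (List.map_congr_left fun r hr => ?_)
    rw [Function.comp_apply, MulAut.conj_apply, tt_conj E.θ _ _ r ((mem_posRoots hC).1 hr).1]
  have hinj := prodX_inj hC posRoots_sorted (fun r hr => (mem_posRoots hC).1 hr) hscale
  have hz : ∀ r ∈ [12, 13, 15, 16, 17, 18, 19, 20, 21], f r = 0 := by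
    intro r hr
    have h := hinj r (by rw [posRoots_eq]; exact (show ∀ r ∈ [12, 13, 15, 16, 17, 18, 19, 20, 21],
      r ∈ [12, 13, 14, 15, 16, 17, 18, 19, 20, 21, 22, 23] by decide) r hr)
    have : (chi E.θ a 1 r - 1) * f r = 0 := by linear_combination h
    exact (mul_eq_zero.1 this).resolve_left (sub_ne_zero.2 (chi_short h2 ha hr))
  have e' : u = xx 14 (f 14) * (xx 22 (f 22) * xx 23 (f 23)) := by
    rw [hf, posRoots_eq]
    simp [prodX, hz 12, hz 13, hz 15, hz 16, hz 17, hz 18, hz 19, hz 20, hz 21, xg_zero hC]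
  have h1 : (xx 14 (f 14) : GG) = 1 := by
    refine RS_inf (Jw_lt 1) (sep_ok 1).1 (sep_ok 1).2.1 (xx_mem_RS (by simp [Ps]) _) ?_
    rw [eq_mul_inv_of_mul_eq e'.symm]
    exact mul_mem hu (inv_mem (mul_mem (xx_mem_RS (by simp [Rp]) _) (xx_mem_RS (by simp [Rp]) _)))
  exact ⟨f 22, f 23, by rw [e', h1, one_mul]⟩

theorem fixed_pos (h2 : E.q = 2) {B : GG} (hB : IsB B) {a : Kˣ} (ha : a ≠ 1) {u : GG}
    (hu : u ∈ RS K (Rp 1)) (hc : Commute (B * tt E.θ a 1) u) : u = 1 := by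
  have hcB := (hB.comm h2 a).symm
  have h3 : Commute (tt E.θ (a ^ 3) 1) u := by
    have := Commute.pow_left hc 3
    rwa [hcB.mul_pow, hB.cube, one_mul, tt_pow] at this
  have ha3 : a ^ 3 ≠ 1 := fun h => ha (by
    have e := unit_pow7 h2 a
    rwa [show a ^ 7 = a ^ 3 * a ^ 3 * a by simp [pow_succ, mul_assoc], h, one_mul, one_mul] at e)
  obtain ⟨p, q, rfl⟩ := fix_tor h2 ha3 hu h3
  have h7 : Commute B (xx 22 p * xx 23 q) := by
    have := Commute.pow_left hc 7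
    rwa [hcB.mul_pow, tt_pow, unit_pow7 h2, tt_one, mul_one, show B ^ 7 = B by
      rw [show B ^ 7 = B ^ 3 * B ^ 3 * B by simp [pow_succ, mul_assoc], hB.cube, one_mul, one_mul]]
      at this
  have hA : Commute (AA : GG) (xx 22 p * xx 23 q) := by
    rcases hB with rfl | rfl
    · exact h7
    · simpa using h7.inv_left
  have e := mul_inv_eq_iff_eq_mul.2 hA.eq
  rw [AA_top] at e
  have e' : Collect.P (0 : K) 0 0 0 0 0 0 0 0 0 q (p + q) =
      Collect.P (0 : K) 0 0 0 0 0 0 0 0 0 p q := by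
    simpa [Collect.P, xg_zero hC] using e
  obtain ⟨-, -, -, -, -, -, -, -, -, -, hqp, hpq⟩ := Invol.P_inj e'
  have hp0 : p = 0 := by rw [hqp] at hpq; simpa [_root_.CharTwo.add_self_eq_zero] using hpq.symm
  rw [hqp, hp0, xx_zero, xx_zero, one_mul]

/-! ### The class -/

theorem om_om {L : List ℕ} (hL : ∀ r ∈ L, r < 24) {g : GG} (hg : g ∈ RS K L) :
    om (om g) = g := by
  induction hg using Subgroup.closure_induction with
  | mem x hx =>
    obtain ⟨r, hr, t, rfl⟩ := hx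
    have hn : chevD4.neg r < 24 := by rw [neg_val r (hL r hr)]; have := hL r hr; omega
    rw [om_two (hL r hr), om_two hn,
      (show ∀ r < 24, chevD4.neg (chevD4.neg r) = r by decide +kernel) r (hL r hr)]
  | one => rw [map_one, map_one]
  | mul x y _ _ hx hy => rw [map_mul, map_mul, hx, hy]
  | inv x _ hx => rw [map_inv, map_inv, hx]

theorem fixed_neg (h2 : E.q = 2) {B : GG} (hB : IsB B) {a : Kˣ} (ha : a ≠ 1) {v : GG}
    (hv : v ∈ RS K (Rn 1)) (hc : Commute (B * tt E.θ a 1) v) : v = 1 := by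
  have h := hc.map (om (K := K)).toMonoidHom
  simp only [MulEquiv.coe_toMonoidHom, map_mul, om_tt, tt_inv, inv_one] at h
  have h1 := fixed_pos h2 hB.om (fun h => ha (inv_eq_one.1 h)) (om_Rn 1 hv) h
  exact (map_eq_one_iff (om (K := K)) (om (K := K)).injective).1 h1

theorem twist_two (h2 : E.q = 2) {B : GG} (hB : IsB B) {a : Kˣ} (ha : a ≠ 1) {w p : GG}
    (hw : w ∈ RS K (Rn 1)) (gw : w ∈ E.G) (hp : p ∈ RS K (Rp 1)) (gp : p ∈ E.G) :
    (∃ y ∈ E.G, w * (B * tt E.θ a 1) = y * (B * tt E.θ a 1) * y⁻¹) ∧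
      ∃ y ∈ E.G, B * tt E.θ a 1 * p = y * (B * tt E.θ a 1) * y⁻¹ := by
  obtain ⟨z, hz⟩ : ∃ z : GG, z = B * tt E.θ a 1 := ⟨_, rfl⟩
  have gz : z ∈ E.G := hz ▸ mul_mem hB.mem (tt_mem E a fixed_one)
  have hRp : ∀ u ∈ RS K (Rp 1), z * u * z⁻¹ ∈ RS K (Rp 1) := fun u hu => by
    have := conj_Rp hB.mem_RS (H_conj_Rp 1 (tt_mem_H E.θ a 1) hu)
    simpa [hz, mul_assoc] using this
  have hRn : ∀ u ∈ RS K (Rn 1), z * u * z⁻¹ ∈ RS K (Rn 1) := fun u hu => by
    have := conj_Rn hB.mem_RS (H_conj_Rn 1 (tt_mem_H E.θ a 1) hu)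
    simpa [hz, mul_assoc] using this
  rw [← hz]
  constructor
  · obtain ⟨y, hy, e⟩ := G2.twist_bij (z := z) (U := RS K (Rn 1) ⊓ E.G)
      (fun u hu => Subgroup.mem_inf.2 ⟨hRn u (Subgroup.mem_inf.1 hu).1,
        mul_mem (mul_mem gz (Subgroup.mem_inf.1 hu).2) (inv_mem gz)⟩)
      (fun u hu h => fixed_neg h2 hB ha (Subgroup.mem_inf.1 hu).1 (hz ▸ h))
      (Subgroup.mem_inf.2 ⟨hw, gw⟩)
    exact ⟨y, (Subgroup.mem_inf.1 hy).2, e⟩
  · obtain ⟨y, hy, e⟩ := G2.twist_bij (z := z) (U := RS K (Rp 1) ⊓ E.G)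
      (fun u hu => Subgroup.mem_inf.2 ⟨hRp u (Subgroup.mem_inf.1 hu).1,
        mul_mem (mul_mem gz (Subgroup.mem_inf.1 hu).2) (inv_mem gz)⟩)
      (fun u hu h => fixed_pos h2 hB ha (Subgroup.mem_inf.1 hu).1 (hz ▸ h))
      (Subgroup.mem_inf.2 ⟨hp, gp⟩)
    refine ⟨z * y, mul_mem gz (Subgroup.mem_inf.1 hy).2, ?_⟩
    calc z * p = z * (p * z) * z⁻¹ := by group
      _ = _ := by rw [e]; group

/-- The class representative. -/
noncomputable def xw (E : Env K) (a : Kˣ) : GL chevD4.Idx K := AA * tt E.θ a 1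

theorem xw_mem (a : Kˣ) : xw E a ∈ E.G := mul_mem AA_mem (tt_mem E a fixed_one)

theorem xw_pow (h2 : E.q = 2) (a : Kˣ) : (xw E a) ^ 21 = 1 := by
  rw [xw, (tt_AA h2 a).symm.mul_pow, tt_pow, show (21 : ℕ) = 3 * 7 by norm_num, pow_mul, AA_cube,
    one_pow, one_mul, mul_comm 3 7, pow_mul, unit_pow7 h2, one_pow, tt_one]

theorem class_mem (h2 : E.q = 2) (a0 : Kˣ) {B : GG} (hB : IsB B) {a : Kˣ}
    (ha : a = a0 ∨ a = a0⁻¹) : Cj E (xw E a0) (B * tt E.θ a 1) := by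
  have g14 : (xx 14 1 : GG) ∈ E.G := by rw [← Xp1 E.θ]; exact Xp_mem E fun _ => map_one _
  have flip : ∀ a : Kˣ, xx 14 1 * (AA * tt E.θ a 1) * (xx 14 1)⁻¹ =
      (AA⁻¹ * tt E.θ a 1 : GG) := fun a => by
    rw [← mul_assoc (xx 14 1), mul_assoc _ (tt E.θ a 1),
      (tt_long h2 a (by simp) 1).inv_right.eq, AA_inv, AA]
    group
  have base : Cj E (xw E a0) (xw E a0) := ⟨1, one_mem _, by simp⟩
  have h1 := base.conj E g14
  rw [xw, flip, ← xw] at h1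
  have h2' := base.conj E (n0_mem E)
  rw [← om_apply, xw, map_mul, om_AA, om_tt, tt_inv, inv_one, ← xw] at h2'
  have h3 := h1.conj E (n0_mem E)
  rw [← om_apply, map_mul, map_inv, om_AA, om_tt, tt_inv, inv_one, inv_inv] at h3
  rcases hB with rfl | rfl <;> rcases ha with rfl | rfl
  exacts [base, h3, h1, h2']

theorem cov_lb (h2 : E.q = 2) {a0 : Kˣ} (ha0 : a0 ≠ 1) {w p : GG}
    (hw : w ∈ RS K (Rn 1)) (gw : w ∈ E.G) (hp : p ∈ RS K (Rp 1)) (gp : p ∈ E.G) {B : GG}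
    (hB : B = 1 ∨ B = AA) {d : Kˣ} (hd : d = 1 ∨ d = a0 * a0 ∨ d = a0⁻¹ * a0⁻¹) :
    Cov E (xw E a0) (w * (B * tt E.θ d 1) * p) := by
  obtain ⟨B1, B2, h1, h2B, eB⟩ : ∃ B1 B2 : GG, IsB B1 ∧ IsB B2 ∧ B = B1 * B2 := by
    rcases hB with rfl | rfl
    · exact ⟨AA, AA⁻¹, Or.inl rfl, Or.inr rfl, (mul_inv_cancel _).symm⟩
    · refine ⟨AA⁻¹, AA⁻¹, Or.inr rfl, Or.inr rfl, ?_⟩
      rw [← mul_inv_rev, eq_inv_iff_mul_eq_one, ← mul_assoc, ← pow_two, ← pow_succ, AA_cube]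
  obtain ⟨a1, a2, ha1, ha2, ed⟩ : ∃ a1 a2 : Kˣ, (a1 = a0 ∨ a1 = a0⁻¹) ∧
      (a2 = a0 ∨ a2 = a0⁻¹) ∧ d = a1 * a2 := by
    rcases hd with rfl | rfl | rfl
    · exact ⟨a0, a0⁻¹, Or.inl rfl, Or.inr rfl, (mul_inv_cancel _).symm⟩
    · exact ⟨a0, a0, Or.inl rfl, Or.inl rfl, rfl⟩
    · exact ⟨_, _, Or.inr rfl, Or.inr rfl, rfl⟩
  have ne : ∀ a : Kˣ, (a = a0 ∨ a = a0⁻¹) → a ≠ 1 := fun a h => by
    rcases h with rfl | rfl
    exacts [ha0, fun h => ha0 (inv_eq_one.1 h)]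
  obtain ⟨⟨y, hy, ey⟩, -⟩ := twist_two h2 h1 (ne a1 ha1) hw gw hp gp
  obtain ⟨-, z, hz, ez⟩ := twist_two h2 h2B (ne a2 ha2) hw gw hp gp
  refine ⟨w * (B1 * tt E.θ a1 1), B2 * tt E.θ a2 1 * p,
    ey ▸ (class_mem h2 a0 h1 ha1).conj E hy, ez ▸ (class_mem h2 a0 h2B ha2).conj E hz, ?_⟩
  calc w * (B * tt E.θ d 1) * p =
      w * (B1 * (B2 * tt E.θ a1 1) * tt E.θ a2 1) * p := by
        rw [eB, ed, show tt E.θ (a1 * a2) 1 = tt E.θ a1 1 * tt E.θ a2 1 by rw [tt_mul, mul_one]]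
        group
    _ = _ := by rw [← (h2B.comm h2 a1).eq]; group

end Cfsg.Agent.Involutions.ClassSquare.D4.Two
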