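import Cfsg.Agent.Lib.Involutions.ClassSquare.D4TwoBase

/-!
The coordinate of the radical that decides whether an element of the big cell of `³D₄(2)` is a
product of two elements of the class of order 21.
-/

set_option autoImplicit false
set_option linter.unusedSectionVars false

open scoped Matrix

namespace Cfsg.Agent.Involutions.ClassSquare.D4.Two

open Cfsg.Lie Cfsg.Agent.Chevalley Cfsg.Agent.Chevalley.Cert Cfsg.Agent.Chevalley.Group
  Cfsg.Agent.Chevalley.Table Cfsg.Agent.Chevalley.Unip Cfsg.Agent.Chevalley.Bruhat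
  Cfsg.Agent.Chevalley.Borel Cfsg.Agent.Chevalley.Twist.D4

variable {K : Type*} [Field K] [Fintype K] [CharP K 2] {E : Env K}

local notation "GG" => GL chevD4.Idx K
local notation "SL" => Matrix.SpecialLinearGroup (Fin 2) K

/-- The allowed middle coefficients. -/
def TK (a0 : Kˣ) (d : K) : Prop :=
  d = 1 ∨ d = (a0 : K) * a0 ∨ d = (a0 : K)⁻¹ * (a0 : K)⁻¹

theorem TK.ne_zero {a0 : Kˣ} {d : K} (h : TK a0 d) : d ≠ 0 := by
  rcases h with rfl | rfl | rfl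
  exacts [one_ne_zero, mul_ne_zero a0.ne_zero a0.ne_zero,
    mul_ne_zero (inv_ne_zero a0.ne_zero) (inv_ne_zero a0.ne_zero)]

theorem TK.inv {a0 : Kˣ} {d : K} (h : TK a0 d) : TK a0 d⁻¹ := by
  rcases h with rfl | rfl | rfl
  · exact Or.inl inv_one
  · exact Or.inr (Or.inr (by rw [mul_inv]))
  · exact Or.inr (Or.inl (by rw [mul_inv, inv_inv]))

theorem TK.unit {a0 d : Kˣ} (h : TK a0 (d : K)) :
    d = 1 ∨ d = a0 * a0 ∨ d = a0⁻¹ * a0⁻¹ := by
  rcases h with h | h | h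
  · exact Or.inl (Units.ext h)
  · exact Or.inr (Or.inl (Units.ext h))
  · exact Or.inr (Or.inr (Units.ext (by simpa using h)))

/-- The decisive coordinate. -/
def Bc (u : GL chevD4.Idx K) (β : K) : Prop := ∃ R ∈ RS K (Rp 1), u = xx 14 β * R

theorem xx14_conj {β : K} {R : GG} (hR : R ∈ RS K (Rp 1)) :
    xx 14 β * R * (xx 14 β)⁻¹ ∈ RS K (Rp 1) :=
  conj_Rp (xx_mem_RS (by simp [Ps, Ns]) β) hR

theorem Bc.uniq {u : GG} {β β' : K} (h : Bc u β) (h' : Bc u β') : β = β' := by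
  obtain ⟨R, hR, e⟩ := h
  obtain ⟨R', hR', e'⟩ := h'
  have h1 : (xx 14 (β + β') : GG) = 1 := by
    refine RS_inf (Jw_lt 1) (sep_ok 1).1 (sep_ok 1).2.1 (xx_mem_RS (by simp [Ps]) _) ?_
    have : (xx 14 (β + β') : GG) = R' * R⁻¹ := by
      calc (xx 14 (β + β') : GG) = (xx 14 β')⁻¹ * (xx 14 β * R) * R⁻¹ := by
            rw [xx_inv2, add_comm, xx_add]; group
        _ = _ := by rw [← e, e']; group
    rw [this]
    exact mul_mem hR' (inv_mem hR)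
  exact _root_.CharTwo.add_eq_zero.1
    (xg_injective hC (lt24 (show 14 < 24 by norm_num)) (h1.trans (xx_zero 14).symm))

theorem Bc.conj_mem {u : GG} {β : K} (h : Bc u β) {s : GG} (hs : s ∈ RS K (Rp 1)) :
    Bc (s * u * s⁻¹) β := by
  obtain ⟨R, hR, rfl⟩ := h
  refine ⟨((xx 14 β)⁻¹ * s * xx 14 β) * R * s⁻¹, mul_mem (mul_mem ?_ hR) (inv_mem hs), by group⟩
  have := xx14_conj (β := β) hs
  rwa [← xx_inv2 14 β, inv_inv] at this

theorem Bc.conj_tor (h2 : E.q = 2) {u : GG} {β : K} (h : Bc u β) (a : Kˣ) :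
    Bc (tt E.θ a 1 * u * (tt E.θ a 1)⁻¹) β := by
  obtain ⟨R, hR, rfl⟩ := h
  refine ⟨_, H_conj_Rp 1 (tt_mem_H E.θ a 1) hR, ?_⟩
  rw [← mul_assoc, (tt_long h2 a (by simp) β).eq]
  group

theorem Bc_Pt (b c d e f : K) : Bc (Invol.Pt E.θ b 0 c d e f) b := by
  refine ⟨Invol.Pt E.θ 0 0 c d e f, ?_, by simp [Invol.Pt, Collect.P, xg_zero hC]⟩
  simp only [Invol.Pt, Collect.P, xg_zero hC, one_mul, map_zero]
  repeat' first
    | exact xx_mem_RS (by decide) _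
    | apply mul_mem

theorem Bc.fixed {u : GG} {β : K} (h : Bc u β) (hu : u ∈ RS K (Rp 0)) (gu : u ∈ E.G) :
    E.θ β = β := by
  obtain ⟨b, c, d, e, f, hb, -, -, rfl⟩ := coords E hu gu
  rwa [h.uniq (Bc_Pt b c d e f)]

/-! ### The flip -/

/-- The flip. -/
def swm : Matrix.SpecialLinearGroup (Fin 2) K := SL2.sx 1 * SL2.sy (-(1 : K)⁻¹) * SL2.sx 1

theorem coe_swm : ((swm : SL) : Matrix (Fin 2) (Fin 2) K) = !![0, 1; 1, 0] := by
  ext i j
  fin_cases i <;> fin_cases j <;>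
    simp [swm, Matrix.mul_apply, Fin.sum_univ_two, Twist.CharTwo.neg_eq,
      _root_.CharTwo.add_self_eq_zero]

theorem swm_sq : (swm : SL) * swm = 1 := by
  apply Subtype.ext
  rw [Matrix.SpecialLinearGroup.coe_mul, coe_swm]
  ext i j
  fin_cases i <;> fin_cases j <;> simp [Matrix.mul_apply, Fin.sum_univ_two]

theorem nJ0_eq (θ : K →+* K) : nL hC K (Jw 0) = Phi θ 0 swm := by
  have hf : fm θ (swm : SL) = swm := by
    simp only [swm, map_mul, fm_sx, fm_sy, map_neg, map_inv₀, map_one]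
  obtain ⟨s0, -, s2, s3, -⟩ := simple_vals
  have hp : ∀ {r : ℕ} (hr : r < 24), phi r hr (swm : SL) = ng hC r 1 := fun {r} hr => by
    simp only [swm, map_mul, phi_sx, phi_sy]
    rfl
  have e : nL hC K (Jw 0) = ng hC 12 (1 : K) * (ng hC 13 1 * ng hC 18 1) := by
    simp [nL, Jw, s0, s2, s3]
  rw [e, show Phi θ 0 (swm : SL) = phi 18 (by decide) swm *
    (phi 13 (by decide) (fm θ swm) * phi 12 (by decide) (fm θ (fm θ swm))) from rfl, hf, hf,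
    ← hp (show 12 < 24 by norm_num), ← hp (show 13 < 24 by norm_num),
    ← hp (show 18 < 24 by norm_num)]
  have hab := phi_comm (show 18 < 24 by norm_num) (show 13 < 24 by norm_num) orth_ok.1 (swm : SL) swm
  have hac := phi_comm (show 18 < 24 by norm_num) (show 12 < 24 by norm_num) orth_ok.2.1 (swm : SL) swm
  have hbc := phi_comm (show 13 < 24 by norm_num) (show 12 < 24 by norm_num) orth_ok.2.2.1 (swm : SL)
    swm
  rw [← hab.eq, ← mul_assoc, ← hac.eq, mul_assoc, ← hbc.eq]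

theorem nJ0_sq : nL hC K (Jw 0) * nL hC K (Jw 0) = (1 : GG) := by
  rw [nJ0_eq (RingHom.id K), ← map_mul, swm_sq, map_one]

theorem nJ0_inv : (nL hC K (Jw 0))⁻¹ = (nL hC K (Jw 0) : GG) :=
  inv_eq_of_mul_eq_one_right nJ0_sq

theorem om_Phi (M : SL) :
    om (Phi E.θ 0 M) = (Phi E.θ 0 (swm * M * swm) : GG) := by
  have h := SL2.mem_of_generators (K := MonoidHom.eqLocus
    ((om (K := K)).toMonoidHom.comp (Phi E.θ 0))
    ((MulAut.conj (nL hC K (Jw 0))).toMonoidHom.comp (Phi E.θ 0))) (fun t => ?_) (fun t => ?_) M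
  · have h' : om (Phi E.θ 0 M) = nL hC K (Jw 0) * Phi E.θ 0 M * (nL hC K (Jw 0))⁻¹ := h
    rw [h', nJ0_inv, nJ0_eq E.θ, ← map_mul, ← map_mul]
  · show om (Xp E.θ 0 t) = nL hC K (Jw 0) * Xp E.θ 0 t * (nL hC K (Jw 0))⁻¹
    rw [om_Xp2, nJ0_Xp]
  · show om (Yn E.θ 0 t) = nL hC K (Jw 0) * Yn E.θ 0 t * (nL hC K (Jw 0))⁻¹
    rw [om_Yn2, ← nJ0_Xp, nJ0_inv, ← mul_assoc, ← mul_assoc, nJ0_sq, one_mul,
      mul_assoc, nJ0_sq, mul_one]

theorem Bc_flip (b c0 c2 c3 d0 d2 d3 e f : K) :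
    Bc (nL hC K (Jw 0) * Collect.P b 0 0 0 c0 c2 c3 d0 d2 d3 e f * (nL hC K (Jw 0))⁻¹) e := by
  obtain ⟨w14, w22, w19, w16, w15, w17, w20, w21, w23, -⟩ := w_vals
  have hm : ∀ r < 24, ∀ u : K,
      nL hC K (Jw 0) * xx r u * (nL hC K (Jw 0))⁻¹ = (xx (wL chevD4 (Jw 0) r) u : GG) :=
    fun r hr u => nJ0_conj hr u
  have e0 : nL hC K (Jw 0) * Collect.P b 0 0 0 c0 c2 c3 d0 d2 d3 e f * (nL hC K (Jw 0))⁻¹ =
      (xx 22 b * (xx 17 c0 * (xx 20 c2 * (xx 21 c3 * (xx 19 d0 * (xx 16 d2 * xx 15 d3)))))) *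
        xx 14 e * xx 23 f := by
    have h14 := hm 14 (by norm_num) b
    have h19 := hm 19 (by norm_num) c0
    have h16 := hm 16 (by norm_num) c2
    have h15 := hm 15 (by norm_num) c3
    have h17 := hm 17 (by norm_num) d0
    have h20 := hm 20 (by norm_num) d2
    have h21 := hm 21 (by norm_num) d3
    have h22 := hm 22 (by norm_num) e
    have h23 := hm 23 (by norm_num) f
    rw [w14] at h14; rw [w19] at h19; rw [w16] at h16; rw [w15] at h15; rw [w17] at h17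
    rw [w20] at h20; rw [w21] at h21; rw [w22] at h22; rw [w23] at h23
    rw [← h14, ← h19, ← h16, ← h15, ← h17, ← h20, ← h21, ← h22, ← h23]
    simp only [Collect.P, xg_zero hC, one_mul]
    group
  rw [e0]
  have hW : (xx 22 b * (xx 17 c0 * (xx 20 c2 * (xx 21 c3 * (xx 19 d0 * (xx 16 d2 * xx 15 d3))))) :
      GG) ∈ RS K (Rp 1) := by
    repeat' first
      | exact xx_mem_RS (by decide) _
      | apply mul_mem
  generalize (xx 22 b * (xx 17 c0 * (xx 20 c2 * (xx 21 c3 * (xx 19 d0 * (xx 16 d2 * xx 15 d3))))) :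
      GG) = W at hW
  refine ⟨(xx 14 e)⁻¹ * W * xx 14 e * xx 23 f, mul_mem ?_ (xx_mem_RS (by decide) f), by group⟩
  have := xx14_conj (β := e) hW
  rwa [← xx_inv2 14 e, inv_inv] at this

/-! ### The values -/

/-- The coordinates of a radical element that matter. -/
structure Co (K : Type*) where
  b : K
  c : K
  d : K
  e : K
  f : K

/-- The radical element of given coordinates. -/
noncomputable def Co.pt (θ : K →+* K) (C : Co K) : GL chevD4.Idx K :=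
  Invol.Pt θ C.b 0 C.c C.d C.e C.f

/-- The point of the projective line of a vector. -/
noncomputable def pj (x y : K) : Option K := by
  classical exact if x = 0 then none else some (y / x)

theorem pj_zero (y : K) : pj (0 : K) y = none := by simp [pj]

theorem pj_some {x : K} (hx : x ≠ 0) (y : K) : pj x y = some (y / x) := by simp [pj, hx]

theorem pj_one (y : K) : pj (1 : K) y = some y := by rw [pj_some one_ne_zero, div_one]

theorem pj_div {D : K} (hD : D ≠ 0) (x y : K) : pj (x / D) (y / D) = pj x y := by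
  rcases eq_or_ne x 0 with rfl | hx
  · rw [zero_div, pj_zero, pj_zero]
  · rw [pj_some hx, pj_some (div_ne_zero hx hD), div_div_div_cancel_right₀ hD]

/-- The decisive coordinate after moving by a point. -/
def Co.val (θ : K →+* K) (C : Co K) : Option K → K
  | none => C.b
  | some t => C.e + t * C.d + θ t * θ C.d + θ (θ t) * θ (θ C.d) + t * θ t * θ (θ C.c) +
      t * θ (θ t) * θ C.c + θ t * θ (θ t) * C.c + t * θ t * θ (θ t) * C.b

theorem Bc_conj_upper (h2 : E.q = 2) {u : GG} {β : K} (h : Bc u β) {U : SL}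
    (hU : SL2.el U 1 0 = 0) : Bc (Phi E.θ 0 U * u * (Phi E.θ 0 U)⁻¹) β := by
  have ha : SL2.el U 0 0 ≠ 0 := fun h0 => by
    have := SL2.el_det U; rw [h0, hU] at this; simp at this
  rw [ldu ha, hU, zero_div]
  simp only [map_mul, Phi_dw]
  rw [show Phi E.θ 0 (SL2.sy (0 : K)) = Yn E.θ 0 0 from rfl, Yn_zero, one_mul, th, if_pos rfl]
  rw [show ∀ a b : GG, a * b * u * (a * b)⁻¹ = a * (b * u * b⁻¹) * a⁻¹ from fun a b => by group]
  exact (h.conj_mem (RS_mono (show ∀ r ∈ Ps 0, r ∈ Rp 1 by decide)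
    (Xp_mem_RS E.θ 0 _))).conj_tor h2 _

theorem val_spec (h2 : E.q = 2) (C : Co K) (M : SL) :
    Bc (Phi E.θ 0 M * C.pt E.θ * (Phi E.θ 0 M)⁻¹)
      (C.val E.θ (pj (SL2.el M 1 0) (SL2.el M 1 1))) := by
  by_cases h0 : SL2.el M 1 0 = 0
  · rw [h0, pj_zero]
    exact Bc_conj_upper h2 (Bc_Pt _ _ _ _ _) h0
  rw [pj_some h0]
  obtain ⟨t, ht⟩ : ∃ t : K, t = SL2.el M 1 1 / SL2.el M 1 0 := ⟨_, rfl⟩
  rw [← ht]
  obtain ⟨U, hU⟩ : ∃ U : SL, U = M * SL2.sx t * swm := ⟨_, rfl⟩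
  have hM : M = U * (swm * SL2.sx t) := by
    have e : (SL2.sx t * SL2.sx t : SL) = 1 := by
      ext i j
      fin_cases i <;> fin_cases j <;>
        simp [Matrix.mul_apply, Fin.sum_univ_two, _root_.CharTwo.add_self_eq_zero]
    rw [hU, mul_assoc, ← mul_assoc swm, swm_sq, one_mul, mul_assoc, e, mul_one]
  have hU0 : SL2.el U 1 0 = 0 := by
    have e : SL2.el (M * SL2.sx t) 1 1 = 0 := by
      rw [SL2.el_mul, ht]
      simp only [SL2.el, SL2.coe_sx]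
      simp only [Matrix.of_apply, Matrix.cons_val', Matrix.cons_val_zero, Matrix.cons_val_one,
        Matrix.cons_val_fin_one]
      simp only [SL2.el] at h0
      field_simp
      rw [_root_.CharTwo.add_self_eq_zero (1 : K), mul_zero]
    rw [hU, SL2.el_mul, e]
    simp [SL2.el, coe_swm]
  rw [hM, map_mul, map_mul, ← nJ0_eq E.θ,
    show Phi E.θ 0 (SL2.sx t) = Xp E.θ 0 t from rfl,
    show ∀ a n X y : GG, a * (n * X) * y * (a * (n * X))⁻¹ = a * (n * (X * y * X⁻¹) * n⁻¹) * a⁻¹ from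
      fun a n X y => by group]
  refine Bc_conj_upper h2 ?_ hU0
  have h := Collect.conjA_BlZ C.b C.c (E.θ C.c) (E.θ (E.θ C.c)) C.d (E.θ C.d) (E.θ (E.θ C.d))
    C.e C.f t (E.θ t) (E.θ (E.θ t))
  have eX : (Xp E.θ 0 t : GG) =
      Collect.P 0 t (E.θ t) (E.θ (E.θ t)) 0 0 0 0 0 0 0 0 := by
    simp [Xp0, Collect.P, xg_zero hC]
  have eC : C.pt E.θ = Collect.P C.b 0 0 0 C.c (E.θ C.c) (E.θ (E.θ C.c)) C.d (E.θ C.d)
      (E.θ (E.θ C.d)) C.e C.f := by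
    simp [Co.pt, Invol.Pt, Collect.P, xg_zero hC]
  rw [Xp_inv2, eX, eC, h]
  exact Bc_flip _ _ _ _ _ _ _ _ _

theorem val_fixed (h2 : E.q = 2) {C : Co K} (hR : C.pt E.θ ∈ RS K (Rp 0)) (hG : C.pt E.θ ∈ E.G)
    (r : Option K) : E.θ (C.val E.θ r) = C.val E.θ r := by
  obtain ⟨M, hM⟩ : ∃ M : SL, pj (SL2.el M 1 0) (SL2.el M 1 1) = r := by
    rcases r with _ | t
    · exact ⟨1, by simp [SL2.el, pj_zero]⟩
    · refine ⟨swm * SL2.sx t, ?_⟩
      simp [SL2.el_mul]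
      simp [SL2.el, coe_swm, pj_one]
  have gM : Phi E.θ 0 M ∈ E.G := Phi_mem E fun h => absurd h (by decide)
  rw [← hM]
  exact (val_spec h2 C M).fixed (conj_Rp (Phi_mem_RS E.θ 0 M) hR)
    (mul_mem (mul_mem gM hG) (inv_mem gM))

theorem J0p : ∀ r ∈ Rp 0, r < 24 ∧ wL chevD4 (Jw 0) r ∈ Rp 0 := by decide +kernel

/-- A radical element below and its coordinates after the flip. -/
def Low (E : Env K) (m : GL chevD4.Idx K) (C : Co K) : Prop :=
  m ∈ RS K (Rn 0) ∧ m ∈ E.G ∧ nL hC K (Jw 0) * om m * (nL hC K (Jw 0))⁻¹ = C.pt E.θ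

/-- A radical element above and its coordinates. -/
def Upp (E : Env K) (p : GL chevD4.Idx K) (C : Co K) : Prop :=
  p ∈ RS K (Rp 0) ∧ p ∈ E.G ∧ p = C.pt E.θ

theorem exists_low {m : GG} (hm : m ∈ RS K (Rn 0)) (gm : m ∈ E.G) : ∃ C, Low E m C := by
  obtain ⟨b, c, d, e, f, -, -, -, h⟩ := coords E
    (nL_conj_RS (Jw_lt 0) J0p (om_Rn 0 hm))
    (mul_mem (mul_mem (nJ_mem E 0) (om_mem E gm)) (inv_mem (nJ_mem E 0)))
  exact ⟨⟨b, c, d, e, f⟩, hm, gm, h⟩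

theorem exists_upp {p : GG} (hp : p ∈ RS K (Rp 0)) (gp : p ∈ E.G) : ∃ C, Upp E p C := by
  obtain ⟨b, c, d, e, f, -, -, -, h⟩ := coords E hp gp
  exact ⟨⟨b, c, d, e, f⟩, hp, gp, h⟩

theorem Low.val_fixed (h2 : E.q = 2) {m : GG} {C : Co K} (h : Low E m C) (r : Option K) :
    E.θ (C.val E.θ r) = C.val E.θ r :=
  Two.val_fixed h2 (h.2.2 ▸ nL_conj_RS (Jw_lt 0) J0p (om_Rn 0 h.1))
    (h.2.2 ▸ mul_mem (mul_mem (nJ_mem E 0) (om_mem E h.2.1)) (inv_mem (nJ_mem E 0))) r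

theorem Upp.val_fixed (h2 : E.q = 2) {p : GG} {C : Co K} (h : Upp E p C) (r : Option K) :
    E.θ (C.val E.θ r) = C.val E.θ r :=
  Two.val_fixed h2 (h.2.2 ▸ h.1) (h.2.2 ▸ h.2.1) r

theorem direct (h2 : E.q = 2) {a0 : Kˣ} (ha0 : a0 ≠ 1) {m p : GG} (hm : m ∈ RS K (Rn 0))
    (gm : m ∈ E.G) (hp : p ∈ RS K (Rp 0)) (gp : p ∈ E.G) (γ ε : K) {d : Kˣ}
    (hd : TK a0 (d : K)) {β : K} (hbm : Bc (om m) β) (hbp : Bc p β) :
    Cov E (xw E a0) (m * (Yn E.θ 0 γ * tt E.θ d 1 * Xp E.θ 0 ε) * p) := by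
  have hβ := hbp.fixed hp gp
  obtain ⟨R, hR, eR⟩ := hbm
  obtain ⟨R', hR', eR'⟩ := hbp
  obtain ⟨W0, hW0, eW⟩ : ∃ W0 ∈ RS K (Rn 1), m = xx 9 β * W0 := by
    refine ⟨om R, om_Rp 1 hR, ?_⟩
    rw [← om_om (fun _ hr => ((neg_lists 0).2.1 _ hr).1) hm, eR, map_mul, om_two (by norm_num),
      neg_vals.1]
  have g9 : (xx 9 β : GG) ∈ E.G := by rw [← Yn1 E.θ]; exact Yn_mem E fun _ => hβ
  have g14 : (xx 14 β : GG) ∈ E.G := by rw [← Xp1 E.θ]; exact Xp_mem E fun _ => hβ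
  have gW0 : W0 ∈ E.G := by
    have := mul_mem (inv_mem g9) gm
    rwa [eW, inv_mul_cancel_left] at this
  have gR' : R' ∈ E.G := by
    have := mul_mem (inv_mem g14) gp
    rwa [eR', inv_mul_cancel_left] at this
  obtain ⟨V, hV, gV, eV⟩ : ∃ V ∈ RS K (Rn 1), V ∈ E.G ∧
      V = xx 9 β * (W0 * Yn E.θ 0 γ) * (xx 9 β)⁻¹ :=
    ⟨_, conj_Rn (xx_mem_RS (by simp [Ps, Ns]) β)
      (mul_mem hW0 (RS_mono (show ∀ r ∈ Ns 0, r ∈ Rn 1 by decide) (Yn_mem_RS E.θ 0 γ))),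
      mul_mem (mul_mem g9 (mul_mem gW0 (Yn_mem E (Par.zero E γ)))) (inv_mem g9), rfl⟩
  obtain ⟨U, hU, gU, eU⟩ : ∃ U ∈ RS K (Rp 1), U ∈ E.G ∧
      U = (xx 14 β)⁻¹ * Xp E.θ 0 ε * xx 14 β * R' := by
    refine ⟨_, mul_mem ?_ hR',
      mul_mem (mul_mem (mul_mem (inv_mem g14) (Xp_mem E (Par.zero E ε))) g14) gR', rfl⟩
    have := xx14_conj (β := β) (RS_mono (show ∀ r ∈ Ps 0, r ∈ Rp 1 by decide) (Xp_mem_RS E.θ 0 ε))
    rwa [← xx_inv2 14 β, inv_inv] at this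
  have hB : (xx 9 β * xx 14 β : GG) = 1 ∨ (xx 9 β * xx 14 β : GG) = AA := by
    rcases fix01 h2 hβ with rfl | rfl
    · exact Or.inl (by rw [xx_zero, xx_zero, one_mul])
    · exact Or.inr rfl
  refine (congrArg (Cov E (xw E a0)) ?_).mp (cov_lb h2 ha0 hV gV hU gU hB hd.unit)
  rw [eV, eU, eR', eW]
  calc xx 9 β * (W0 * Yn E.θ 0 γ) * (xx 9 β)⁻¹ * (xx 9 β * xx 14 β * tt E.θ d 1) *
        ((xx 14 β)⁻¹ * Xp E.θ 0 ε * xx 14 β * R') =
      xx 9 β * (W0 * Yn E.θ 0 γ) * (xx 14 β * tt E.θ d 1 * (xx 14 β)⁻¹) *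
        Xp E.θ 0 ε * (xx 14 β * R') := by group
    _ = _ := by rw [← (tt_long h2 d (by simp) β).eq, mul_inv_cancel_right]; group

/-- A covered state: a pair of points with equal values and an allowed middle coefficient. -/
theorem good_pair (h2 : E.q = 2) {a0 : Kˣ} (ha0 : a0 ≠ 1) {m p : GG} {Q C : Co K}
    (hQ : Low E m Q) (hC' : Upp E p C) (l : SL) {v0 v1 w0 w1 : K} (hD : v0 * w1 - v1 * w0 ≠ 0)
    (hT : TK a0 (((v0 * SL2.el l 0 0 + v1 * SL2.el l 1 0) * w1 -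
      (v0 * SL2.el l 0 1 + v1 * SL2.el l 1 1) * w0) / (v0 * w1 - v1 * w0)))
    (hv : Q.val E.θ (pj v0 v1) = C.val E.θ (pj w0 w1)) :
    Cov E (xw E a0) (m * Phi E.θ 0 l * p) := by
  obtain ⟨D, hDe⟩ : ∃ D, D = v0 * w1 - v1 * w0 := ⟨_, rfl⟩
  rw [← hDe] at hD hT
  obtain ⟨M, hM⟩ : ∃ M : SL,
      (M : Matrix (Fin 2) (Fin 2) K) = !![v0, v1; w0 / D, w1 / D] :=
    ⟨⟨!![v0, v1; w0 / D, w1 / D], by
      rw [Matrix.det_fin_two_of]; field_simp; exact hDe.symm⟩, rfl⟩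
  obtain ⟨hmR, gm, em⟩ := hQ
  obtain ⟨hpR, gp, ep⟩ := hC'
  have gM : Phi E.θ 0 M ∈ E.G := Phi_mem E fun h => absurd h (by decide)
  refine Cov.of_conj E gM ?_
  obtain ⟨l', hl'⟩ : ∃ l', l' = M * l * M⁻¹ := ⟨_, rfl⟩
  have h00 : SL2.el l' 0 0 = ((v0 * SL2.el l 0 0 + v1 * SL2.el l 1 0) * w1 -
      (v0 * SL2.el l 0 1 + v1 * SL2.el l 1 1) * w0) / D := by
    rw [hl', SL2.el_mul, SL2.el_mul, SL2.el_mul]
    simp [SL2.el, Matrix.SpecialLinearGroup.coe_inv, hM, Matrix.adjugate_fin_two]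
    ring
  have hne : SL2.el l' 0 0 ≠ 0 := by rw [h00]; exact hT.ne_zero
  have e : Phi E.θ 0 M * (m * Phi E.θ 0 l * p) * (Phi E.θ 0 M)⁻¹ =
      (Phi E.θ 0 M * m * (Phi E.θ 0 M)⁻¹) * Phi E.θ 0 l' *
        (Phi E.θ 0 M * p * (Phi E.θ 0 M)⁻¹) := by
    rw [hl', map_mul, map_mul, map_inv]; group
  have el' : Phi E.θ 0 l' = Yn E.θ 0 (SL2.el l' 1 0 / SL2.el l' 0 0) *
      tt E.θ (Units.mk0 _ hne) 1 * Xp E.θ 0 (SL2.el l' 0 1 / SL2.el l' 0 0) := by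
    conv_lhs => rw [ldu hne]
    rw [map_mul, map_mul, Phi_dw]
    rfl
  rw [e, el']
  refine direct h2 ha0 (conj_Rn (Phi_mem_RS E.θ 0 M) hmR) (mul_mem (mul_mem gM gm) (inv_mem gM))
    (conj_Rp (Phi_mem_RS E.θ 0 M) hpR) (mul_mem (mul_mem gM gp) (inv_mem gM)) _ _
    (by rw [Units.val_mk0, h00]; exact hT) (β := C.val E.θ (pj w0 w1)) ?_ ?_
  · have e1 : om (Phi E.θ 0 M * m * (Phi E.θ 0 M)⁻¹) =
        Phi E.θ 0 (swm * M) * Q.pt E.θ * (Phi E.θ 0 (swm * M))⁻¹ := by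
      rw [map_mul, map_mul, map_inv, om_Phi, ← em, nJ0_eq E.θ]
      simp only [map_mul]
      have hs : Phi E.θ 0 (swm : SL) * Phi E.θ 0 swm = 1 := by rw [← map_mul, swm_sq, map_one]
      group
    rw [e1, ← hv]
    have := val_spec h2 Q (swm * M)
    rw [show SL2.el (swm * M) 1 0 = v0 by simp [SL2.el_mul]; simp [SL2.el, coe_swm, hM],
      show SL2.el (swm * M) 1 1 = v1 by simp [SL2.el_mul]; simp [SL2.el, coe_swm, hM]] at this
    exact this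
  · rw [ep]
    have := val_spec h2 C M
    rw [show SL2.el M 1 0 = w0 / D by simp [SL2.el, hM],
      show SL2.el M 1 1 = w1 / D by simp [SL2.el, hM], pj_div hD] at this
    exact this

end Cfsg.Agent.Involutions.ClassSquare.D4.Two
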