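import Cfsg.Agent.Lib.Involutions.ClassSquare.G2Twist

/-!
Every element of `G₂(q)` is conjugate to a product `v * Lev l * u` with a covered middle factor.
-/

set_option autoImplicit false
set_option linter.unusedSectionVars false

open scoped Matrix

namespace Cfsg.Agent.Involutions.ClassSquare.G2

open Cfsg.Lie Cfsg.Agent.Chevalley Cfsg.Agent.Chevalley.Cert Cfsg.Agent.Chevalley.Group
  Cfsg.Agent.Chevalley.Table Cfsg.Agent.Chevalley.Unip Cfsg.Agent.Chevalley.Bruhat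
  Cfsg.Agent.Chevalley.Borel

variable {F : Type*} [Field F] [Fintype F] {δ t : F}

local notation "GG" => GL chevG2.Idx F
local notation "M2" => Matrix (Fin 2) (Fin 2) F

theorem V_le_group : chevG2.negUnipotent F ≤ chevG2.group F := le_sup_right.trans (U_sup_V hC).le

theorem U_le_group : chevG2.posUnipotent F ≤ chevG2.group F := le_sup_left.trans (U_sup_V hC).le

theorem xx_mem_group {r : ℕ} (hr : r < 12) (a : F) : (xx r a : GG) ∈ chevG2.group F :=
  xg_mem_group hC hr a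

theorem xel_inv (hg : Good δ t) : Cj hg (xel hg : GG)⁻¹ := by
  obtain ⟨P, hP⟩ := sim_cA hg (M := !![t, δ; -1, 0]) (by simp [Matrix.trace_fin_two])
    (by simp [Matrix.det_fin_two_of])
  obtain ⟨D, hD⟩ : ∃ D : Fˣ, D = Units.mk0 δ hg.d0 := ⟨_, rfl⟩
  have hd : Matrix.GeneralLinearGroup.det (P * cG hg * P⁻¹) = D := by
    apply Units.ext
    rw [map_mul, map_mul, map_inv, mul_inv_cancel_comm, det_cG, hD]
    rfl
  have e : (cG hg)⁻¹ = sG D⁻¹ * (P * cG hg * P⁻¹) := by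
    refine inv_eq_of_mul_eq_one_right (Units.ext ?_)
    rw [Units.val_mul, Units.val_mul, Units.val_mul, Units.val_mul, coe_cG, ← hP, coe_sG,
      Matrix.smul_mul, Matrix.one_mul, Matrix.mul_smul, Units.val_inv_eq_inv_val, hD, Units.val_mk0]
    have := hg.d0
    ext i j
    fin_cases i <;> fin_cases j <;> simp [cA] <;> field_simp
  rw [xel, ← map_inv, e, ← hd, ← n11_conj_Lev, map_mul, map_mul, map_inv]
  exact Cj.conj ⟨Lev P, Lev_mem P, rfl⟩ (ng_mem_group hC (show 11 < chevG2.nroots by decide) _)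

theorem Cj.inv {hg : Good δ t} {g : GG} (h : Cj hg g) : Cj hg g⁻¹ := by
  obtain ⟨a, ha, rfl⟩ := h
  obtain ⟨b, hb, e⟩ := xel_inv hg
  exact ⟨a * b, mul_mem ha hb, by rw [mul_inv_rev, mul_inv_rev, inv_inv, e]; group⟩

theorem Cov.of_inv {hg : Good δ t} {g : GG} (h : Cov hg g⁻¹) : Cov hg g := by
  obtain ⟨b, c, hb, hc, e⟩ := h
  exact ⟨_, _, hc.inv, hb.inv, by rw [← mul_inv_rev, ← e, inv_inv]⟩

theorem Cov.of_conj {hg : Good δ t} {g a : GG} (ha : a ∈ chevG2.group F)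
    (h : Cov hg (a * g * a⁻¹)) : Cov hg g := by
  have h1 := h.conj (inv_mem ha)
  rwa [show a⁻¹ * (a * g * a⁻¹) * a⁻¹⁻¹ = g by group] at h1

theorem Cov.of_mirror {hg : Good δ t} {g : GG} (h : Cov hg (om g⁻¹)) : Cov hg g :=
  Cov.of_inv (Cov.of_conj n0_mem h)

/-! ### Shifts -/

theorem shift {i : ℕ} (hi : i < chevG2.rank) {c : F} (hc : c ≠ 0) {w h u : GG}
    (hw : w ∈ Vm F (chevG2.simple i)) (hh : h ∈ chevG2.diagonalSubgroup F)
    (hu : u ∈ chevG2.posUnipotent F) (s : Fˣ) :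
    ∃ a ∈ chevG2.group F, ∃ v ∈ chevG2.negUnipotent F, ∃ u' ∈ chevG2.posUnipotent F,
      a * (xx (chevG2.neg (chevG2.simple i)) c * w * h * u) * a⁻¹ =
        v * (hg hC (chevG2.simple i) (s : F) * h) * u' ∧
      ∀ p, chevG2.simple i ≠ p → u ∈ Uom hC F p → u' ∈ Uom hC F p := by
  have hsi := hC.simple_lt hi
  have hpos := hC.phi_simple hi
  obtain ⟨r, hr⟩ : ∃ r : F, r = ((s : F) - 1) / c := ⟨_, rfl⟩
  have hs : (s : F) = 1 + r * c := by rw [hr, div_mul_cancel₀ _ hc]; ring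
  have hs0 : 1 + r * c ≠ 0 := hs ▸ s.ne_zero
  have e := xx_sx_sy (F := F) hi hs0
  have e' : (Units.mk0 _ hs0 : Fˣ) = s := Units.ext hs.symm
  rw [e'] at e
  obtain ⟨ρ, hρ⟩ : ∃ ρ : F, ρ = r / (1 + r * c) := ⟨_, rfl⟩
  rw [← hρ] at e
  obtain ⟨ca, cb, hab⟩ := mem_H hh
  obtain ⟨χ, hχ⟩ : ∃ χ : F, h⁻¹ * xx (chevG2.simple i) ρ * h = xx (chevG2.simple i) χ := by
    have h1 := tt_conj (F := F) ca⁻¹ cb⁻¹ (chevG2.simple i) hsi ρ
    rw [← tt_inv, inv_inv, ← hab] at h1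
    exact ⟨_, h1⟩
  have hH : hg hC (chevG2.simple i) (s : F) ∈ chevG2.diagonalSubgroup F := by
    rw [hg_eq_tor hC hsi]; exact tor_mem_H hC _
  refine ⟨xx (chevG2.simple i) r, xx_mem_group hsi r,
    xx (chevG2.neg (chevG2.simple i)) (c / (1 + r * c)) * (hg hC (chevG2.simple i) (s : F) *
      (xx (chevG2.simple i) ρ * w * (xx (chevG2.simple i) ρ)⁻¹) *
        (hg hC (chevG2.simple i) (s : F))⁻¹),
    mul_mem (xx_neg_mem_V hi _) (Vm_le_V _ (H_conj_Vm _ hH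
      (Rk_conj_Vm hi (xx_mem_Rk (Or.inl rfl) ρ) hw))),
    xx (chevG2.simple i) χ * u * (xx (chevG2.simple i) r)⁻¹,
    mul_mem (mul_mem (xg_mem_U hC hsi hpos χ) hu) (inv_mem (xg_mem_U hC hsi hpos r)), ?_,
    fun p hp hup => ?_⟩
  · rw [← hχ]
    calc _ = (xx (chevG2.simple i) r * xx (chevG2.neg (chevG2.simple i)) c) * w * h * u *
          (xx (chevG2.simple i) r)⁻¹ := by group
      _ = _ := by rw [e]; group
  · have hm : ∀ a : F, xx (chevG2.simple i) a ∈ Uom hC F p := fun a =>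
      Subgroup.subset_closure ⟨_, a, hsi, ⟨hpos, hp⟩, rfl⟩
    exact mul_mem (mul_mem (hm _) hup) (inv_mem (hm _))

theorem cov_shift {hgd : Good δ t} {i : ℕ} (hi : i < chevG2.rank) (a b : Fˣ)
    (hne : (((a ^ chevG2.cartan 0 (chevG2.neg (chevG2.simple i)) *
      b ^ chevG2.cartan 1 (chevG2.neg (chevG2.simple i)) : Fˣ) : F)) ≠ 1) (s : Fˣ)
    (H : ∀ v ∈ chevG2.negUnipotent F, ∀ u ∈ chevG2.posUnipotent F,
      Cov hgd (v * (hg hC (chevG2.simple i) (s : F) * tt a b) * u))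
    {v u : GG} (hv : v ∈ chevG2.negUnipotent F) (hu : u ∈ chevG2.posUnipotent F) :
    Cov hgd (v * tt a b * u) := by
  have hsi := hC.simple_lt hi
  have key : ∀ {c : F}, c ≠ 0 → ∀ {w u : GG}, w ∈ Vm F (chevG2.simple i) →
      u ∈ chevG2.posUnipotent F →
      Cov hgd (xx (chevG2.neg (chevG2.simple i)) c * w * tt a b * u) := by
    intro c hc w u hw hu
    obtain ⟨x, hx, v', hv', u', hu', e, -⟩ := shift hi hc hw (tt_mem_H a b) hu s
    exact Cov.of_conj hx (e ▸ H v' hv' u' hu')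
  obtain ⟨c, w, hw, rfl⟩ := V_split_left hi hv
  by_cases hc : c = 0
  swap
  · exact key hc hw hu
  rw [hc, xx_zero, one_mul]
  obtain ⟨d, p, hp, rfl⟩ := U_split_left hi hu
  by_cases hd : d = 0
  swap
  · refine Cov.of_mirror ?_
    obtain ⟨η, hη, he⟩ := om_xx (F := F) (r := chevG2.simple i) hsi
    have e : om (w * tt a b * (xx (chevG2.simple i) d * p))⁻¹ =
        om p⁻¹ * xx (chevG2.neg (chevG2.simple i)) (η * -d) * tt a b * om w⁻¹ := by
      rw [mul_inv_rev, mul_inv_rev, mul_inv_rev, xx_inv, map_mul, map_mul, map_mul, he,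
        map_inv om (tt a b), om_tt, inv_inv]
      simp only [mul_assoc]
    rw [e, show om p⁻¹ * xx (chevG2.neg (chevG2.simple i)) (η * -d) =
      xx (chevG2.neg (chevG2.simple i)) (η * -d) * ((xx (chevG2.neg (chevG2.simple i)) (η * -d))⁻¹ *
        om p⁻¹ * xx (chevG2.neg (chevG2.simple i)) (η * -d)) by group]
    refine key (mul_ne_zero hη (neg_ne_zero.2 hd)) ?_ (Uom_le_U hC _ (om_Vm (inv_mem hw)))
    have := Rk_conj_Vm hi (inv_mem (xx_mem_Rk (r := chevG2.neg (chevG2.simple i)) (Or.inr rfl)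
      (η * -d))) (om_Vm_mem (inv_mem hp))
    rwa [inv_inv] at this
  rw [hd, xx_zero, one_mul]
  set χ : F := (((a ^ chevG2.cartan 0 (chevG2.neg (chevG2.simple i)) *
      b ^ chevG2.cartan 1 (chevG2.neg (chevG2.simple i)) : Fˣ) : F)) with hχ
  refine Cov.of_conj (xx_mem_group (hC.neg_lt hsi) (1 : F)) ?_
  have hR : ∀ z : F, xx (chevG2.neg (chevG2.simple i)) z ∈ Rk F (chevG2.simple i) :=
    fun z => xx_mem_Rk (Or.inr rfl) z
  have hz := tt_conj (F := F) a b _ (hC.neg_lt hsi) (-1)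
  rw [← hχ] at hz
  have hN : xx (chevG2.neg (chevG2.simple i)) (1 - χ) = xx (chevG2.neg (chevG2.simple i)) 1 *
      (tt a b * xx (chevG2.neg (chevG2.simple i)) (-1) * (tt a b : GG)⁻¹) := by
    rw [hz, ← xx_add]
    congr 1
    ring
  have hw' : (tt a b * xx (chevG2.neg (chevG2.simple i)) (-1) * (tt a b : GG)⁻¹)⁻¹ * w *
      (tt a b * xx (chevG2.neg (chevG2.simple i)) (-1) * (tt a b : GG)⁻¹) ∈
      Vm F (chevG2.simple i) := by
    rw [hz]
    simpa using Rk_conj_Vm hi (inv_mem (hR (χ * -1))) hw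
  have := key (c := 1 - χ) (sub_ne_zero.2 (Ne.symm hne)) hw'
    (Uom_le_U hC _ (Rk_conj_Uom hi (hR 1) hp))
  rw [hN] at this
  refine (congrArg (Cov hgd) ?_).mp this
  rw [show xx (chevG2.neg (chevG2.simple i)) (-1 : F) = (xx (chevG2.neg (chevG2.simple i)) 1)⁻¹ from
    (xx_inv _ _).symm]
  group

theorem main_cases {hgd : Good δ t}
    (H : ∀ v ∈ chevG2.negUnipotent F, ∀ u ∈ chevG2.posUnipotent F, ∀ a : Fˣ,
      Cov hgd (v * tt a 1 * u)) {v u : GG} (hv : v ∈ chevG2.negUnipotent F)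
    (hu : u ∈ chevG2.posUnipotent F) (a b : Fˣ) : Cov hgd (v * tt a b * u) := by
  have hb_case : ∀ a b : Fˣ, a ^ 3 ≠ b ^ 2 → ∀ v ∈ chevG2.negUnipotent F,
      ∀ u ∈ chevG2.posUnipotent F, Cov hgd (v * tt a b * u) := by
    intro a b hab v hv u hu
    refine cov_shift (i := 1) (by decide) a b ?_ b⁻¹ (fun v hv u hu => ?_) hv hu
    · rw [show chevG2.cartan 0 (chevG2.neg (chevG2.simple 1)) = 3 from rfl,
        show chevG2.cartan 1 (chevG2.neg (chevG2.simple 1)) = -2 from rfl]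
      intro h
      apply hab
      rw [Units.val_eq_one, zpow_neg, mul_inv_eq_one] at h
      exact_mod_cast h
    · rw [simple1, hg6, tt_mul, one_mul, inv_mul_cancel]
      exact H v hv u hu a
  by_cases hb : b = 1
  · subst hb; exact H v hv u hu a
  by_cases hab : a ^ 3 = b ^ 2
  swap
  · exact hb_case a b hab v hv u hu
  have h1 : b / a ^ 2 ≠ 1 := by
    intro h
    apply hb
    rw [div_eq_one] at h
    have ha : a = 1 := by
      rw [h, ← pow_mul] at hab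
      exact left_eq_mul.1 (hab.trans (pow_succ a 3))
    rw [h, ha, one_pow]
  obtain ⟨s, hs⟩ : ∃ s : Fˣ, s = a ^ 2 / b := ⟨_, rfl⟩
  refine cov_shift (i := 0) (by decide) a b ?_ s (fun v hv u hu => ?_) hv hu
  · rw [show chevG2.cartan 0 (chevG2.neg (chevG2.simple 0)) = -2 from rfl,
      show chevG2.cartan 1 (chevG2.neg (chevG2.simple 0)) = 1 from rfl, zpow_one]
    intro h
    apply h1
    rw [Units.val_eq_one, zpow_neg, inv_mul_eq_one] at h
    rw [← h, zpow_two, pow_two, div_self']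
  · rw [simple0, hg7, tt_mul, one_mul]
    refine hb_case _ _ (fun h => hb ?_) v hv u hu
    rw [mul_pow, hab] at h
    have h3 : s ^ 3 = 1 := mul_eq_right.1 h
    rw [hs, div_pow, ← pow_mul, show 2 * 3 = 3 * 2 by norm_num, pow_mul, hab, ← pow_mul,
      show 2 * 2 = 3 + 1 by norm_num, pow_succ, mul_div_cancel_left] at h3
    exact h3

/-! ### The middle factor -/

/-- An invertible matrix from four entries. -/
def g4 (a b c d : F) (h : a * d - b * c ≠ 0) : GL (Fin 2) F :=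
  Matrix.GeneralLinearGroup.mkOfDetNeZero !![a, b; c, d] (by rwa [Matrix.det_fin_two_of])

theorem coe_g4 (a b c d : F) (h : a * d - b * c ≠ 0) :
    ((g4 a b c d h : GL (Fin 2) F) : M2) = !![a, b; c, d] := rfl

theorem three_ne (c : F) (a b : Fˣ) (e : F) :
    (a : F) * (c * a * e + (b : F) / a) - (a : F) * e * (c * a) ≠ 0 := by
  rw [show (a : F) * (c * a * e + (b : F) / a) - (a : F) * e * (c * a) = b by field_simp; ring]
  exact b.ne_zero

theorem lev_three (c : F) (a b : Fˣ) (e : F) :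
    xx 4 c * tt a b * xx 7 e =
      (Lev (g4 (a : F) (a * e) (c * a) (c * a * e + b / a) (three_ne c a b e)) : GG) := by
  obtain ⟨L1, h1⟩ : ∃ L1 : GL (Fin 2) F, (L1 : M2) = !![1, 0; c, 1] :=
    ⟨g4 1 0 c 1 (by simp), rfl⟩
  obtain ⟨L2, h2⟩ : ∃ L2 : GL (Fin 2) F, (L2 : M2) = !![(a : F), 0; 0, ((b / a : Fˣ) : F)] :=
    ⟨g4 (a : F) 0 0 ((b / a : Fˣ) : F) (by simp), rfl⟩
  obtain ⟨L3, h3⟩ : ∃ L3 : GL (Fin 2) F, (L3 : M2) = !![1, e; 0, 1] :=
    ⟨g4 1 e 0 1 (by simp), rfl⟩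
  have e2 : Lev L2 = (tt a b : GG) := by rw [Lev_diag a (b / a) L2 h2, mul_div_cancel]
  rw [← Lev_lower c L1 h1, ← e2, ← Lev_upper e L3 h3, ← map_mul, ← map_mul]
  congr 1
  apply Units.ext
  rw [Units.val_mul, Units.val_mul, h1, h2, h3, coe_g4]
  ext i j
  fin_cases i <;> fin_cases j <;> simp [Matrix.mul_apply, Fin.sum_univ_two]

theorem to_lev {v u : GG} (hv : v ∈ chevG2.negUnipotent F) (hu : u ∈ chevG2.posUnipotent F)
    (a b : Fˣ) : ∃ w ∈ Vm F 7, ∃ p ∈ Uom hC F 7, ∃ c e : F,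
      v * tt a b * u =
        w * Lev (g4 (a : F) (a * e) (c * a) (c * a * e + b / a) (three_ne c a b e)) * p := by
  obtain ⟨c, w, hw, rfl⟩ := V_split_left (i := 0) (by decide) hv
  obtain ⟨e, p, hp, rfl⟩ := U_split_left (i := 0) (by decide) hu
  refine ⟨xx 4 c * w * (xx 4 c)⁻¹,
    Rk_conj_Vm (i := 0) (by decide) (xx_mem_Rk (Or.inr rfl) c) hw, p, hp, c, e, ?_⟩
  rw [← lev_three, show chevG2.neg (chevG2.simple 0) = 4 from rfl, simple0]
  group

theorem ok_neg_one (h2 : (2 : F) ≠ 0) {l : GL (Fin 2) F} (hd : (l : M2).det = 1) :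
    Ok (-1) l := by
  by_cases hs : ∃ s : F, (l : M2) = Matrix.scalar (Fin 2) s
  · obtain ⟨s, hs⟩ := hs
    have hss : (s - 1) * (s + 1) = 0 := by
      rw [hs, Matrix.scalar_apply, Matrix.det_diagonal] at hd
      simp at hd
      rcases hd with hd | hd <;> rw [hd] <;> simp
    rcases mul_eq_zero.1 hss with h | h
    · refine Or.inr (Or.inr ?_)
      rw [hs, sub_eq_zero.1 h]
      ext i j; fin_cases i <;> fin_cases j <;> simp
    · refine Or.inl (Or.inr ?_)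
      rw [hs, eq_neg_of_add_eq_zero_left h]
  push Not at hs
  by_cases ht : (l : M2).trace = 2 * -1
  · refine Or.inr (Or.inl ⟨?_, ?_, fun s h => hs (-s) ?_⟩)
    · rw [Matrix.det_smul, hd]; simp
    · rw [Matrix.trace_smul, ht]
      intro h
      simp at h
      exact mul_ne_zero h2 h2 (by linear_combination h)
    · have h' := congrArg (fun m : M2 => (-1 : F) • m) h
      simp only [smul_smul, neg_mul_neg, one_mul, one_smul] at h'
      rw [h']
      ext i j; fin_cases i <;> fin_cases j <;> simp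
  · exact Or.inl (Or.inl ⟨by rw [hd]; ring, ht, hs⟩)

theorem ok_trace (h2 : (2 : F) = 0) (hg : Good δ t) {l : GL (Fin 2) F}
    (hd : (l : M2).det = δ * δ ∨ (l : M2).det = 1) (ht : (l : M2).trace ≠ 0) : Ok δ l := by
  rcases hd with hd | hd
  · refine Or.inl (Or.inl ⟨hd, by rwa [h2, zero_mul], fun s h => ht ?_⟩)
    rw [h, Matrix.trace_fin_two]
    simp
    linear_combination s * h2
  · refine Or.inr (Or.inl ⟨?_, ?_, fun s h => ht ?_⟩)
    · rw [Matrix.det_smul, hd]; simp [pow_two]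
    · rw [Matrix.trace_smul, smul_eq_mul, h2, zero_mul]; exact mul_ne_zero hg.d0 ht
    · have h' := congrArg Matrix.trace h
      rw [Matrix.trace_smul, smul_eq_mul, Matrix.trace_fin_two (Matrix.scalar (Fin 2) s)] at h'
      simp at h'
      have : δ * (l : M2).trace = 0 := by linear_combination h' + s * h2
      exact (mul_eq_zero.1 this).resolve_left hg.d0

theorem unipotent_conj (h2 : (2 : F) = 0) {l : GL (Fin 2) F} (hd : (l : M2).det = 1)
    (ht : (l : M2).trace = 0) (hne : (l : M2) ≠ 1) :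
    ∃ P U : GL (Fin 2) F, (U : M2) = !![1, 1; 0, 1] ∧ l = P * U * P⁻¹ := by
  rw [Matrix.det_fin_two] at hd
  rw [Matrix.trace_fin_two] at ht
  set a := (l : M2) 0 0 with ha
  set b := (l : M2) 0 1 with hb
  set c := (l : M2) 1 0 with hc
  set d := (l : M2) 1 1 with hd'
  have hl : (l : M2) = !![a, b; c, d] := Matrix.eta_fin_two _
  obtain ⟨U, hU⟩ : ∃ U : GL (Fin 2) F, (U : M2) = !![1, 1; 0, 1] :=
    ⟨g4 1 1 0 1 (by simp), rfl⟩
  suffices ∃ P : GL (Fin 2) F, (l : M2) * (P : M2) = (P : M2) * (U : M2) by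
    obtain ⟨P, hP⟩ := this
    exact ⟨P, U, hU, eq_mul_inv_of_mul_eq (Units.ext hP)⟩
  by_cases hc0 : c = 0
  · have haa : a = 1 := by
      have : (a - 1) * (a - 1) = 0 := by
        rw [hc0] at hd
        linear_combination -hd + a * ht - a * h2
      exact sub_eq_zero.1 (mul_self_eq_zero.1 this)
    have hdd : d = 1 := by linear_combination ht - haa - h2
    have hb0 : b ≠ 0 := fun hb0 => hne (by
      rw [hl, haa, hb0, hc0, hdd, Matrix.one_fin_two])
    refine ⟨g4 b 0 0 1 (by simpa using hb0), ?_⟩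
    rw [coe_g4, hU, hl, hc0, haa, hdd]
    ext i j
    fin_cases i <;> fin_cases j <;> simp [Matrix.mul_apply, Fin.sum_univ_two]
  · refine ⟨g4 (a + 1) 1 c 0 (by simpa using hc0), ?_⟩
    rw [coe_g4, hU, hl]
    ext i j
    fin_cases i <;> fin_cases j <;> simp [Matrix.mul_apply, Fin.sum_univ_two]
    · linear_combination -hd + a * ht - h2
    · linear_combination -h2
    · linear_combination c * ht

/-! ### Characteristic two -/

theorem eta_two (h2 : (2 : F) = 0) (i r : ℕ) : ((Data.G2.tab.eta i r : ℤ) : F) = 1 := by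
  rcases Certified.eta_cases (T := Data.G2.tab) i r with e | e
  · rw [e, Int.cast_one]
  · rw [e, Int.cast_neg, Int.cast_one]
    linear_combination -h2

theorem nL_two (h2 : (2 : F) = 0) {L : List ℕ} (hL : ∀ i ∈ L, i < chevG2.rank) {r : ℕ}
    (hr : r < 12) (a : F) :
    nL hC F L * xx r a * (nL hC F L)⁻¹ = xx (wL chevG2 L r) a := by
  induction L with
  | nil => simp [nL, wL]
  | cons i L ih =>
    have hL' : ∀ j ∈ L, j < chevG2.rank := fun j hj => hL j (List.mem_cons_of_mem i hj)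
    have e1 : nL hC F (i :: L) = ng hC (chevG2.simple i) 1 * nL hC F L := by simp [nL]
    rw [e1, mul_inv_rev]
    calc _ = ng hC (chevG2.simple i) 1 * (nL hC F L * xx r a * (nL hC F L)⁻¹) *
          (ng hC (chevG2.simple i) (1 : F))⁻¹ := by simp only [mul_assoc]
      _ = _ := by
        rw [ih hL', ng_conj_x hC (hL i List.mem_cons_self) (wL_lt hC hL' hr), eta_two h2, one_mul]
        rfl

theorem om_two (h2 : (2 : F) = 0) {r : ℕ} (hr : r < 12) (a : F) :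
    om (xx r a) = (xx (chevG2.neg r) a : GG) := by
  rw [om_apply, ← wL_w0 r hr]
  exact nL_two h2 w0_lt hr a

/-- A torus shift makes the middle factor triangular. -/
theorem cov_lower {hgd : Good δ t} (he : NoRoot δ t) (h2 : (2 : F) = 0) (hδ : δ * δ ≠ 1) {c : F}
    (hc : c ≠ 0) {w u : GG} (hw : w ∈ Vm F 6) (hu : u ∈ Uom hC F 7) :
    Cov hgd (xx 5 c * w * u) := by
  obtain ⟨a, ha, v, hv, u', -, e, hu'⟩ := shift (i := 1) (by decide) hc hw
    (one_mem (chevG2.diagonalSubgroup F)) (Uom_le_U hC 7 hu)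
    (Units.mk0 (δ * δ) (mul_ne_zero hgd.d0 hgd.d0))
  refine Cov.of_conj ha ?_
  rw [show chevG2.neg (chevG2.simple 1) = 5 from rfl, simple1, mul_one, mul_one, hg6] at e
  rw [e]
  obtain ⟨k, w', hw', rfl⟩ := V_split_left (i := 0) (by decide) hv
  have hu7 : u' ∈ Uom hC F 7 := hu' 7 (by decide) hu
  rw [show chevG2.neg (chevG2.simple 0) = 4 from rfl] at *
  have e3 := lev_three k 1 (Units.mk0 (δ * δ) (mul_ne_zero hgd.d0 hgd.d0)) (0 : F)
  rw [xx_zero, mul_one] at e3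
  rw [show xx 4 k * w' = (xx 4 k * w' * (xx 4 k)⁻¹) * xx 4 k by group,
    mul_assoc _ (xx 4 k) (tt _ _), e3]
  refine cov_tri hgd he (Rk_conj_Vm (i := 0) (by decide) (xx_mem_Rk (Or.inr rfl) k) hw') hu7
    (ok_trace h2 hgd (Or.inl ?_) ?_)
  · rw [coe_g4, Matrix.det_fin_two_of]; simp
  · rw [coe_g4, Matrix.trace_fin_two]
    simp
    intro h
    exact hδ (by linear_combination h - h2)

theorem Vm7_coords {v : GG} (hv : v ∈ Vm F 7) :
    ∃ c e f k z : F, v = xx 5 c * xx 3 e * xx 2 f * xx 1 k * xx 0 z := by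
  obtain ⟨u, hu, rfl⟩ := hv
  obtain ⟨a, rfl⟩ := Uom7_coords hu
  obtain ⟨η6, -, e6⟩ := om_xx (F := F) (r := 6) (by norm_num)
  obtain ⟨η8, -, e8⟩ := om_xx (F := F) (r := 8) (by norm_num)
  obtain ⟨η9, -, e9⟩ := om_xx (F := F) (r := 9) (by norm_num)
  obtain ⟨η10, -, e10⟩ := om_xx (F := F) (r := 10) (by norm_num)
  obtain ⟨η11, -, e11⟩ := om_xx (F := F) (r := 11) (by norm_num)
  refine ⟨η6 * a 6, η8 * a 8, η9 * a 9, η10 * a 10, η11 * a 11, ?_⟩
  show om (prodX hC [6, 8, 9, 10, 11] a) = _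
  simp only [prodX, List.map_cons, List.map_nil, List.prod_cons, List.prod_nil, map_mul, map_one,
    mul_one]
  rw [e6, e8, e9, e10, e11]
  simp only [mul_assoc]
  rfl

theorem cov_k {hgd : Good δ t} (he : NoRoot δ t) (h2 : (2 : F) = 0) (hδ : δ * δ ≠ 1)
    {c e f k z : F} (hk : k ≠ 0) {p : GG} (hp : p ∈ Uom hC F 7) :
    Cov hgd (xx 5 c * xx 3 e * xx 2 f * xx 1 k * xx 0 z * xx 7 1 * p) := by
  obtain ⟨n, hn⟩ : ∃ n : GG, n = ng hC (chevG2.simple 0) 1 := ⟨_, rfl⟩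
  have conj : ∀ r < 12, ∀ a : F, n * xx r a * n⁻¹ = xx (chevG2.reflectRoot 0 r) a := fun r hr a => by
    rw [hn, ng_conj_x hC (by decide) hr, eta_two h2, one_mul]
  refine Cov.of_conj (a := n) (hn ▸ ng_mem_group hC (show chevG2.simple 0 < chevG2.nroots by decide) _) ?_
  have hp' : n * p * n⁻¹ ∈ Uom hC F 7 :=
    (Subgroup.mem_normalizer_iff.1 (hn ▸ ng_normalizes_Uom hC (i := 0) (by decide)) p).1 hp
  have eq : n * (xx 5 c * xx 3 e * xx 2 f * xx 1 k * xx 0 z * xx 7 1 * p) * n⁻¹ =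
      xx 1 c * xx 2 e * xx 3 f * xx 5 k * xx 0 z * xx 4 1 * (n * p * n⁻¹) := by
    have h5 := conj 5 (by norm_num) c
    have h3 := conj 3 (by norm_num) e
    have h2' := conj 2 (by norm_num) f
    have h1 := conj 1 (by norm_num) k
    have h0 := conj 0 (by norm_num) z
    have h7 := conj 7 (by norm_num) (1 : F)
    rw [show chevG2.reflectRoot 0 5 = 1 from by decide +kernel] at h5
    rw [show chevG2.reflectRoot 0 3 = 2 from by decide +kernel] at h3
    rw [show chevG2.reflectRoot 0 2 = 3 from by decide +kernel] at h2'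
    rw [show chevG2.reflectRoot 0 1 = 5 from by decide +kernel] at h1
    rw [show chevG2.reflectRoot 0 0 = 0 from by decide +kernel] at h0
    rw [show chevG2.reflectRoot 0 7 = 4 from by decide +kernel] at h7
    calc _ = (n * xx 5 c * n⁻¹) * (n * xx 3 e * n⁻¹) * (n * xx 2 f * n⁻¹) * (n * xx 1 k * n⁻¹) *
          (n * xx 0 z * n⁻¹) * (n * xx 7 1 * n⁻¹) * (n * p * n⁻¹) := by group
      _ = _ := by rw [h5, h3, h2', h1, h0, h7]
  rw [eq]
  have hW : (xx 5 k)⁻¹ * (xx 1 c * xx 2 e * xx 3 f) * xx 5 k * xx 0 z * xx 4 1 ∈ Vm F 6 := by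
    have hA : xx 1 c * xx 2 e * xx 3 f ∈ Vm F 6 :=
      mul_mem (mul_mem (xx_mem_Vm (by norm_num) (by decide) c) (xx_mem_Vm (by norm_num) (by decide) e))
        (xx_mem_Vm (by norm_num) (by decide) f)
    have := Rk_conj_Vm (i := 1) (by decide) (inv_mem (xx_mem_Rk (r := 5) (Or.inr rfl) k)) hA
    rw [inv_inv] at this
    exact mul_mem (mul_mem this (xx_mem_Vm (by norm_num) (by decide) z))
      (xx_mem_Vm (by norm_num) (by decide) 1)
  have := cov_lower (hgd := hgd) he h2 hδ hk hW hp'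
  refine (congrArg (Cov hgd) ?_).mp this
  group

theorem conj_expand {r s : ℕ} (hr : r < 12) (hs : s < 12) (hsr : s ≠ r) (hsn : s ≠ chevG2.neg r)
    (a b : F) :
    xx r a * xx s b * (xx r a)⁻¹ =
      xx s b * (((chevG2.commWord F r s (-a) b).map fun p => xg hC p.1 p.2).prod : GG) := by
  have h := xg_comm hC hr hs hsr hsn (-a) b
  rw [xx_inv, mul_assoc, h, ← mul_assoc, ← mul_assoc, ← xg_add hC, add_neg_cancel, xg_zero hC,
    one_mul]

theorem sigma_conj (h2 : (2 : F) = 0) (σ c e f z : F) :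
    xx 7 σ * (xx 5 c * xx 3 e * xx 2 f * xx 0 z) * (xx 7 σ)⁻¹ =
      (xx 5 (c + σ * e + σ ^ 2 * f) * xx 3 e * xx 2 f * xx 0 (σ * f ^ 2 + z) : GG) := by
  have c75 : xx 7 σ * xx 5 c * (xx 7 σ)⁻¹ = (xx 5 c : GG) := by
    rw [(xx_comm_of_nil (by norm_num) (by norm_num) (by norm_num) (by decide) (by decide +kernel) σ c).eq,
      mul_inv_cancel_right]
  have c70 : xx 7 σ * xx 0 z * (xx 7 σ)⁻¹ = (xx 0 z : GG) := by
    rw [(xx_comm_of_nil (by norm_num) (by norm_num) (by norm_num) (by decide) (by decide +kernel) σ z).eq,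
      mul_inv_cancel_right]
  have c73 : xx 7 σ * xx 3 e * (xx 7 σ)⁻¹ = (xx 3 e * xx 5 (σ * e) : GG) := by
    rw [conj_expand (by norm_num) (by norm_num) (by norm_num) (by decide)]
    simp only [ChevalleyDatum.commWord, show chevG2.commTerms 7 3 = [(5, (3 : ℤ), 1, 1)] by decide +kernel,
      List.map_cons, List.map_nil, List.prod_cons, List.prod_nil, mul_one]
    congr 2
    push_cast
    linear_combination (σ * e) * h2
  have c72 : xx 7 σ * xx 2 f * (xx 7 σ)⁻¹ =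
      (xx 2 f * xx 5 (σ ^ 2 * f) * xx 0 (σ * f ^ 2) : GG) := by
    rw [conj_expand (by norm_num) (by norm_num) (by norm_num) (by decide)]
    simp only [ChevalleyDatum.commWord, show chevG2.commTerms 7 2 =
        [(3, (2 : ℤ), 1, 1), (5, (3 : ℤ), 2, 1), (0, (-3 : ℤ), 1, 2)] by decide +kernel,
      List.map_cons, List.map_nil, List.prod_cons, List.prod_nil, mul_one]
    push_cast
    rw [show (2 : F) * (- -σ) ^ 1 * f ^ 1 = 0 by rw [h2]; ring, xg_zero hC, one_mul,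
      show (3 : F) * (- -σ) ^ 2 * f ^ 1 = σ ^ 2 * f by linear_combination (σ ^ 2 * f) * h2,
      show (-3 : F) * (- -σ) ^ 1 * f ^ 2 = σ * f ^ 2 by
        linear_combination (-2 * σ * f ^ 2) * h2]
    simp only [mul_assoc]
  calc _ = (xx 7 σ * xx 5 c * (xx 7 σ)⁻¹) * (xx 7 σ * xx 3 e * (xx 7 σ)⁻¹) *
        (xx 7 σ * xx 2 f * (xx 7 σ)⁻¹) * (xx 7 σ * xx 0 z * (xx 7 σ)⁻¹) := by group
    _ = _ := by
      rw [c75, c73, c72, c70, xx_add, xx_add, xx_add]
      have k35 : ∀ a b : F, xx 3 a * xx 5 b = (xx 5 b * xx 3 a : GG) := fun a b =>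
        (xx_comm_of_nil (by norm_num) (by norm_num) (by norm_num) (by decide) (by decide +kernel) a b).eq
      have k25 : ∀ a b : F, xx 2 a * xx 5 b = (xx 5 b * xx 2 a : GG) := fun a b =>
        (xx_comm_of_nil (by norm_num) (by norm_num) (by norm_num) (by decide) (by decide +kernel) a b).eq
      rw [k35 e (σ * e), k25 f (σ ^ 2 * f)]
      calc _ = xx 5 c * xx 5 (σ * e) * (xx 3 e * xx 5 (σ ^ 2 * f)) * xx 2 f *
            xx 0 (σ * f ^ 2) * xx 0 z := by simp only [mul_assoc]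
        _ = _ := by rw [k35]; simp only [mul_assoc]

theorem cov_trace {hgd : Good δ t} (he : NoRoot δ t) (h2 : (2 : F) = 0) (hδ : δ * δ ≠ 1)
    {c e f z : F} (hce : (c = 0 ∧ e ≠ 0) ∨ (c ≠ 0 ∧ c ≠ e)) {p : GG} (hp : p ∈ Uom hC F 7) :
    Cov hgd (xx 5 c * xx 3 e * xx 2 f * xx 0 z * xx 7 1 * p) := by
  obtain ⟨r, s, hs, hd, hr⟩ : ∃ (r : F) (s : Fˣ), (s : F) = 1 + r * c ∧
      ((s : F) = δ * δ ∨ (s : F) = 1) ∧ r * (c + e) ≠ 0 := by
    rcases hce with ⟨rfl, he0⟩ | ⟨hc, hce⟩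
    · exact ⟨1, 1, by simp, Or.inr rfl, by simpa using he0⟩
    · refine ⟨(δ * δ - 1) / c, Units.mk0 (δ * δ) (mul_ne_zero hgd.d0 hgd.d0),
        by field_simp; simp, Or.inl rfl, mul_ne_zero (div_ne_zero (sub_ne_zero.2 hδ) hc) fun h => hce ?_⟩
      linear_combination h - e * h2
  have hs0 : 1 + r * c ≠ 0 := hs ▸ s.ne_zero
  have e6 := xx_sx_sy (F := F) (i := 1) (by decide) hs0
  rw [show (Units.mk0 _ hs0 : Fˣ) = s from Units.ext hs.symm,
    show chevG2.neg (chevG2.simple 1) = 5 from rfl, simple1, hg6] at e6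
  obtain ⟨ρ, hρ⟩ : ∃ ρ : F, ρ = r / (1 + r * c) := ⟨_, rfl⟩
  rw [← hρ] at e6
  obtain ⟨R, hR, h63⟩ : ∃ R ∈ Vm F 7,
      xx 6 ρ * xx 3 e * (xx 6 ρ)⁻¹ = (xx 3 e * xx 4 (ρ * e) * R : GG) := by
    have h := conj_expand (F := F) (r := 6) (s := 3) (by norm_num) (by norm_num) (by norm_num)
      (by decide) ρ e
    simp only [ChevalleyDatum.commWord, show chevG2.commTerms 6 3 = [(4, (-1 : ℤ), 1, 1),
        (2, (-1 : ℤ), 1, 2), (0, (-1 : ℤ), 1, 3), (1, (2 : ℤ), 2, 3)] by decide +kernel,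
      List.map_cons, List.map_nil, List.prod_cons, List.prod_nil, mul_one] at h
    rw [show ((-1 : ℤ) : F) * (- -ρ) ^ 1 * e ^ 1 = ρ * e by
      push_cast; linear_combination (-(ρ * e)) * h2, ← mul_assoc] at h
    refine ⟨_, ?_, h⟩
    exact mul_mem (xx_mem_Vm (by norm_num) (by decide) _)
        (mul_mem (xx_mem_Vm (by norm_num) (by decide) _) (xx_mem_Vm (by norm_num) (by decide) _))
  have c62 : xx 6 ρ * xx 2 f * (xx 6 ρ)⁻¹ = (xx 2 f : GG) := by
    rw [(xx_comm_of_nil (by norm_num) (by norm_num) (by norm_num) (by decide) (by decide +kernel) ρ f).eq,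
      mul_inv_cancel_right]
  obtain ⟨R', hR', h60⟩ : ∃ R' ∈ Vm F 7, xx 6 ρ * xx 0 z * (xx 6 ρ)⁻¹ = (R' : GG) := by
    refine ⟨_, ?_, conj_expand (by norm_num) (by norm_num) (by norm_num) (by decide) ρ z⟩
    simp only [ChevalleyDatum.commWord, show chevG2.commTerms 6 0 = [(1, (-1 : ℤ), 1, 1)] by decide +kernel,
      List.map_cons, List.map_nil, List.prod_cons, List.prod_nil, mul_one]
    exact mul_mem (xx_mem_Vm (by norm_num) (by decide) _) (xx_mem_Vm (by norm_num) (by decide) _)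
  obtain ⟨B, hB, hBdef⟩ : ∃ B ∈ Vm F 7, B = R * xx 2 f * R' :=
    ⟨_, mul_mem (mul_mem hR (xx_mem_Vm (by norm_num) (by decide) f)) hR', rfl⟩
  obtain ⟨m, hm, hmdef⟩ : ∃ m ∈ Vm F 7, m = xx 5 (c / (1 + r * c)) *
      (tt 1 s * (xx 3 e * (xx 4 (ρ * e) * B * (xx 4 (ρ * e))⁻¹)) * (tt 1 s)⁻¹) :=
    ⟨_, mul_mem (xx_mem_Vm (by norm_num) (by decide) _) (H_conj_Vm 7 (tt_mem_H 1 s)
      (mul_mem (xx_mem_Vm (by norm_num) (by decide) e)
        (Rk_conj_Vm (i := 0) (by decide) (xx_mem_Rk (Or.inr rfl) _) hB))), rfl⟩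
  obtain ⟨q, hq, hqdef⟩ : ∃ q ∈ Uom hC F 7,
      q = (xx 7 1)⁻¹ * xx 6 ρ * xx 7 1 * p * (xx 6 r)⁻¹ := by
    refine ⟨_, ?_, rfl⟩
    have h1 := Rk_conj_Uom (i := 0) (by decide) (inv_mem (xx_mem_Rk (r := 7) (Or.inl rfl) (1 : F)))
      (xx_mem_Uom (r := 6) (p := 7) (by norm_num) (by norm_num) (by norm_num) ρ)
    rw [inv_inv] at h1
    exact mul_mem (mul_mem h1 hp)
      (inv_mem (xx_mem_Uom (by norm_num) (by norm_num) (by norm_num) r))
  refine Cov.of_conj (xx_mem_group (r := 6) (by norm_num) r) ?_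
  have eq : xx 6 r * (xx 5 c * xx 3 e * xx 2 f * xx 0 z * xx 7 1 * p) * (xx 6 r)⁻¹ =
      m * tt 1 s * xx 4 (ρ * e) * xx 7 1 * q := by
    calc _ = (xx 6 r * xx 5 c) * xx 3 e * xx 2 f * xx 0 z * xx 7 1 * p * (xx 6 r)⁻¹ := by group
      _ = xx 5 (c / (1 + r * c)) * tt 1 s * (xx 6 ρ * xx 3 e * (xx 6 ρ)⁻¹) *
            (xx 6 ρ * xx 2 f * (xx 6 ρ)⁻¹) * (xx 6 ρ * xx 0 z * (xx 6 ρ)⁻¹) *
            (xx 6 ρ * xx 7 1 * p * (xx 6 r)⁻¹) := by rw [e6]; group
      _ = _ := by rw [h63, c62, h60, hmdef, hBdef, hqdef]; group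
  obtain ⟨l, hl, hll⟩ : ∃ l : GL (Fin 2) F, (l : M2) = !![1, 1; r * e, r * e + (s : F)] ∧
      (tt 1 s * xx 4 (ρ * e) * xx 7 1 : GG) = Lev l := by
    obtain ⟨L2, hL2⟩ : ∃ L2 : GL (Fin 2) F, (L2 : M2) = !![((1 : Fˣ) : F), 0; 0, (s : F)] :=
      ⟨g4 ((1 : Fˣ) : F) 0 0 (s : F) (by simp), rfl⟩
    have h3 := lev_three (ρ * e) 1 1 (1 : F)
    rw [tt_one, mul_one] at h3
    refine ⟨L2 * g4 ((1 : Fˣ) : F) (((1 : Fˣ) : F) * 1) (ρ * e * ((1 : Fˣ) : F))
      (ρ * e * ((1 : Fˣ) : F) * 1 + ((1 : Fˣ) : F) / ((1 : Fˣ) : F)) (three_ne (ρ * e) 1 1 1), ?_,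
      by rw [map_mul, Lev_diag 1 s L2 hL2, ← h3, one_mul, mul_assoc]⟩
    rw [Units.val_mul, hL2, coe_g4, hρ, ← hs]
    ext i j
    fin_cases i <;> fin_cases j <;> simp [Matrix.mul_apply, Fin.sum_univ_two] <;> field_simp
  rw [eq, show m * tt 1 s * xx 4 (ρ * e) * xx 7 1 * q =
    m * (tt 1 s * xx 4 (ρ * e) * xx 7 1) * q by group, hll]
  refine cov_tri hgd he hm hq (ok_trace h2 hgd ?_ ?_)
  · rw [hl, Matrix.det_fin_two_of]
    rcases hd with hd | hd
    · left; linear_combination hd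
    · right; linear_combination hd
  · rw [hl, Matrix.trace_fin_two]
    intro h
    apply hr
    simp at h
    linear_combination h - hs - h2

theorem stateA_reduce {hgd : Good δ t} (he : NoRoot δ t) (h2 : (2 : F) = 0) (hδ : δ * δ ≠ 1)
    (h3 : 3 ≤ Fintype.card F) {v p : GG} (hv : v ∈ Vm F 7) (hp : p ∈ Uom hC F 7) :
    Cov hgd (v * xx 7 1 * p) ∨ ∃ z : F, v = xx 0 z := by
  classical
  obtain ⟨c, e, f, k, z, rfl⟩ := Vm7_coords hv
  by_cases hk : k = 0
  swap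
  · exact Or.inl (cov_k he h2 hδ hk hp)
  rw [hk, xx_zero, mul_one]
  by_cases hσ : ∃ σ : F, (c + σ * e + σ ^ 2 * f = 0 ∧ e ≠ 0) ∨
      (c + σ * e + σ ^ 2 * f ≠ 0 ∧ c + σ * e + σ ^ 2 * f ≠ e)
  · obtain ⟨σ, hσ⟩ := hσ
    left
    refine Cov.of_conj (xx_mem_group (r := 7) (by norm_num) σ) ?_
    have := cov_trace (hgd := hgd) he h2 hδ (f := f) (z := σ * f ^ 2 + z) hσ
      (Rk_conj_Uom (i := 0) (by decide) (xx_mem_Rk (r := 7) (Or.inl rfl) σ) hp)
    rw [← sigma_conj h2 σ c e f z] at this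
    refine (congrArg (Cov hgd) ?_).mp this
    have hc : (xx 7 σ)⁻¹ * xx 7 1 = (xx 7 1 * (xx 7 σ)⁻¹ : GG) := by
      rw [xx_inv, ← xx_add, ← xx_add, add_comm]
    calc _ = xx 7 σ * (xx 5 c * xx 3 e * xx 2 f * xx 0 z) * ((xx 7 σ)⁻¹ * xx 7 1) *
          (xx 7 σ * p * (xx 7 σ)⁻¹) := by group
      _ = _ := by rw [hc]; group
  push Not at hσ
  right
  have key : ∀ σ : F, c + σ * e + σ ^ 2 * f = e := by
    intro σ
    obtain ⟨h1, h1'⟩ := hσ σ
    by_cases h0 : c + σ * e + σ ^ 2 * f = 0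
    · rw [h0, h1 h0]
    · exact h1' h0
  have k0 := key 0
  have k1 := key 1
  have hce : c = e := by linear_combination k0
  have hfe : f = e := by linear_combination k1 - hce - e * h2
  obtain ⟨σ, hσ01⟩ : ∃ σ : F, σ ∉ ({0, 1} : Finset F) := by
    obtain ⟨σ, -, hσ⟩ := Finset.exists_mem_notMem_of_card_lt_card (s := ({0, 1} : Finset F))
      (t := Finset.univ) (lt_of_le_of_lt Finset.card_le_two (by rw [Finset.card_univ]; omega))
    exact ⟨σ, hσ⟩
  simp only [Finset.mem_insert, Finset.mem_singleton, not_or] at hσ01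
  have kσ := key σ
  rw [hce, hfe] at kσ
  have he0 : e = 0 := by
    have : σ * (σ + 1) * e = 0 := by linear_combination kσ
    refine (mul_eq_zero.1 this).resolve_left (mul_ne_zero hσ01.1 fun h => hσ01.2 ?_)
    linear_combination h - h2
  exact ⟨z, by rw [hce, hfe, he0]; simp [xx_zero]⟩

theorem stateA {hgd : Good δ t} (he : NoRoot δ t) (h2 : (2 : F) = 0) (hδ : δ * δ ≠ 1)
    (h3 : 3 ≤ Fintype.card F) {v p : GG} (hv : v ∈ Vm F 7) (hp : p ∈ Uom hC F 7) :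
    Cov hgd (v * xx 7 1 * p) := by
  rcases stateA_reduce (hgd := hgd) he h2 hδ h3 hv hp with h | ⟨z, rfl⟩
  · exact h
  obtain ⟨n, hn⟩ : ∃ n : GG, n = ng hC (chevG2.simple 0) 1 := ⟨_, rfl⟩
  have hnR : n ∈ Rk F (chevG2.simple 0) := by
    rw [hn, ng]
    exact mul_mem (mul_mem (xx_mem_Rk (Or.inl rfl) _) (xx_mem_Rk (Or.inr rfl) _))
      (xx_mem_Rk (Or.inl rfl) _)
  have hneg : ∀ a : F, -a = a := fun a => by linear_combination (-a) * h2
  have e4 : n * xx 4 1 * n⁻¹ = (xx 7 1 : GG) := by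
    rw [hn, ng_conj_x hC (by decide) (by decide), eta_two h2, one_mul]
    rw [show chevG2.reflectRoot 0 4 = 7 from by decide +kernel]
  have eg : n * om (xx 0 z * xx 7 1 * p)⁻¹ * n⁻¹ =
      (n * om p⁻¹ * n⁻¹) * xx 7 1 * (n * om (xx 0 z)⁻¹ * n⁻¹) := by
    rw [mul_inv_rev, mul_inv_rev, map_mul, map_mul, xx_inv 7, hneg,
      om_two h2 (show 7 < 12 by norm_num), show chevG2.neg 7 = 4 from rfl]
    calc _ = (n * om p⁻¹ * n⁻¹) * (n * xx 4 1 * n⁻¹) * (n * om (xx 0 z)⁻¹ * n⁻¹) := by group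
      _ = _ := by rw [e4]
  have hv' : n * om p⁻¹ * n⁻¹ ∈ Vm F 7 :=
    Rk_conj_Vm (i := 0) (by decide) hnR (om_Vm_mem (inv_mem hp))
  have hp' : n * om (xx 0 z)⁻¹ * n⁻¹ ∈ Uom hC F 7 :=
    Rk_conj_Uom (i := 0) (by decide) hnR
      (om_Vm (inv_mem (xx_mem_Vm (by norm_num) (by decide) z)))
  rcases stateA_reduce (hgd := hgd) he h2 hδ h3 hv' hp' with h | ⟨z', hz'⟩
  · refine Cov.of_mirror (Cov.of_conj (a := n) ?_ (eg ▸ h))
    rw [hn]; exact ng_mem_group hC (show chevG2.simple 0 < chevG2.nroots by decide) _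
  have hp11 : p = xx 11 z' := by
    have e0 : n * xx 0 z' * n⁻¹ = (xx 0 z' : GG) := by
      rw [hn, ng_conj_x hC (by decide) (by decide), eta_two h2, one_mul,
        show chevG2.reflectRoot 0 0 = 0 from by decide +kernel]
    have h1 : om p⁻¹ = xx 0 z' := mul_left_cancel (mul_right_cancel (hz'.trans e0.symm))
    have h2' : om p⁻¹ = om (xx 11 z') := by rw [h1, om_two h2 (by norm_num)]; rfl
    have := (om (F := F)).injective h2'
    rw [← inv_inv p, this, xx_inv, hneg]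
  subst hp11
  obtain ⟨m, hm⟩ : ∃ m : GG, m = ng hC (chevG2.simple 1) 1 := ⟨_, rfl⟩
  refine Cov.of_conj (a := m) (hm ▸ ng_mem_group hC (show chevG2.simple 1 < chevG2.nroots by decide) _) ?_
  have e : m * (xx 0 z * xx 7 1 * xx 11 z') * m⁻¹ = xx 1 z * (xx 8 1 * xx 10 z') := by
    have c : ∀ r < 12, ∀ a : F, m * xx r a * m⁻¹ = xx (chevG2.reflectRoot 1 r) a := fun r hr a => by
      rw [hm, ng_conj_x hC (by decide) hr, eta_two h2, one_mul]
    have h0 := c 0 (by norm_num) z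
    have h7 := c 7 (by norm_num) (1 : F)
    have h11 := c 11 (by norm_num) z'
    rw [show chevG2.reflectRoot 1 0 = 1 from by decide +kernel] at h0
    rw [show chevG2.reflectRoot 1 7 = 8 from by decide +kernel] at h7
    rw [show chevG2.reflectRoot 1 11 = 10 from by decide +kernel] at h11
    calc _ = (m * xx 0 z * m⁻¹) * ((m * xx 7 1 * m⁻¹) * (m * xx 11 z' * m⁻¹)) := by group
      _ = _ := by rw [h0, h7, h11]
  have h := cov_tri hgd he (xx_mem_Vm (p := 7) (r := 1) (by norm_num) (by decide) z)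
    (mul_mem (xx_mem_Uom (r := 8) (p := 7) (by norm_num) (by norm_num) (by norm_num) 1)
      (xx_mem_Uom (r := 10) (p := 7) (by norm_num) (by norm_num) (by norm_num) z'))
    (l := 1) (Or.inr (Or.inr (by ext i j; fin_cases i <;> fin_cases j <;> simp)))
  rw [map_one, mul_one] at h
  rwa [e]

theorem cov_one_case {hgd : Good δ t} (he : NoRoot δ t)
    (hδ : ((2 : F) ≠ 0 ∧ δ = -1) ∨ ((2 : F) = 0 ∧ δ * δ ≠ 1)) (h3 : 3 ≤ Fintype.card F) {v u : GG}
    (hv : v ∈ chevG2.negUnipotent F) (hu : u ∈ chevG2.posUnipotent F) (a : Fˣ) :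
    Cov hgd (v * tt a 1 * u) := by
  obtain ⟨w, hw, p, hp, c, e, h⟩ := to_lev hv hu a 1
  rw [h]
  obtain ⟨M, hM⟩ : ∃ M, M = g4 (a : F) (a * e) (c * a) (c * a * e + ((1 : Fˣ) : F) / a)
    (three_ne c a 1 e) := ⟨_, rfl⟩
  rw [← hM]
  have hd : (M : M2).det = 1 := by
    rw [hM, coe_g4, Matrix.det_fin_two_of]
    simp
    field_simp
    ring
  rcases hδ with ⟨h2, rfl⟩ | ⟨h2, hδ⟩
  · exact cov_tri hgd he hw hp (ok_neg_one h2 hd)
  by_cases ht : (M : M2).trace = 0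
  swap
  · exact cov_tri hgd he hw hp (ok_trace h2 hgd (Or.inr hd) ht)
  by_cases hne : (M : M2) = 1
  · refine cov_tri hgd he hw hp (Or.inr (Or.inr ?_))
    rw [hne]
    ext i j; fin_cases i <;> fin_cases j <;> simp
  obtain ⟨P, U, hU, rfl⟩ := unipotent_conj h2 hd ht hne
  refine Cov.of_conj (inv_mem (Lev_mem P)) ?_
  have := stateA (hgd := hgd) he h2 hδ h3 (Lev_conj_Vm P⁻¹ hw) (Lev_conj_Uom P⁻¹ hp)
  refine (congrArg (Cov hgd) ?_).mp this
  rw [← Lev_upper 1 U hU, map_mul, map_mul, map_inv]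
  group

theorem cov_all {hgd : Good δ t} (he : NoRoot δ t)
    (hδ : ((2 : F) ≠ 0 ∧ δ = -1) ∨ ((2 : F) = 0 ∧ δ * δ ≠ 1)) (h3 : 3 ≤ Fintype.card F) {g : GG}
    (hg : g ∈ chevG2.group F) : Cov hgd g := by
  obtain ⟨a, ha, b, hb, h, hh, c, hc, rfl⟩ := cell_all hg
  obtain ⟨x, y, rfl⟩ := mem_H hh
  refine Cov.of_conj (inv_mem (U_le_group ha)) ?_
  have := main_cases (fun v hv u hu a => cov_one_case (hgd := hgd) he hδ h3 hv hu a) hb
    (mul_mem hc ha) x y
  refine (congrArg (Cov hgd) ?_).mp this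
  group

/-- `G₂(q)`, `q ≥ 3`, is the square of a semisimple class. -/
theorem exists_semisimple_class (p : ℕ) [Fact p.Prime] [CharP F p] (h3 : 3 ≤ Fintype.card F) :
    ∃ x : chevG2.group F, ¬ p ∣ orderOf x ∧
      ∀ g : chevG2.group F, ∃ u v : chevG2.group F, g = (u * x * u⁻¹) * (v * x * v⁻¹) := by
  obtain ⟨δ, t, hgd, he, hδ⟩ := exists_params h3
  refine ⟨⟨xel hgd, Lev_mem _⟩, fun hdvd => ?_, fun g => ?_⟩
  · rw [← Subgroup.orderOf_coe] at hdvd
    have h := hdvd.trans (orderOf_dvd_of_pow_eq_one (xel_pow hgd he))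
    have hp : p ∣ Fintype.card F := by
      obtain ⟨n, hp', hn⟩ := FiniteField.card F p
      rw [hn]; exact dvd_pow_self p n.ne_zero
    rcases (Fact.out : p.Prime).dvd_mul.1 h with h' | h'
    · exact (Fact.out : p.Prime).not_dvd_one ((Nat.dvd_add_right hp).1 h')
    · exact (Fact.out : p.Prime).not_dvd_one ((Nat.dvd_add_right h').1
        (by rwa [Nat.sub_add_cancel (by omega)]))
  · obtain ⟨b, c, ⟨u, hu, rfl⟩, ⟨v, hv, rfl⟩, e⟩ := cov_all (hgd := hgd) he hδ h3 g.2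
    exact ⟨⟨u, hu⟩, ⟨v, hv⟩, Subtype.ext e⟩

end Cfsg.Agent.Involutions.ClassSquare.G2
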