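import Cfsg.Agent.Lib.Chevalley.SL2
import Cfsg.Agent.Lib.Chevalley.Types.G2

/-!
The maximal parabolic subgroup of `G₂(q)` with a short root in its Levi factor, with both radicals.
-/

set_option autoImplicit false
set_option linter.unusedSectionVars false

open scoped Matrix

namespace Cfsg.Agent.Involutions.ClassSquare.G2

open Cfsg.Lie Cfsg.Agent.Chevalley Cfsg.Agent.Chevalley.Cert Cfsg.Agent.Chevalley.Group
  Cfsg.Agent.Chevalley.Table Cfsg.Agent.Chevalley.Unip Cfsg.Agent.Chevalley.Bruhat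
  Cfsg.Agent.Chevalley.Borel

abbrev hC : Certified chevG2 Data.G2.tab := Types.G2.certified

variable {F : Type*} [Field F]

local notation "GG" => GL chevG2.Idx F
local notation "SL" => Matrix.SpecialLinearGroup (Fin 2) F

/-- Root elements. -/
abbrev xx (r : ℕ) (t : F) : GL chevG2.Idx F := xg hC r t

/-- The index of the `i`th simple root. -/
theorem simple0 : chevG2.simple 0 = 7 := rfl
theorem simple1 : chevG2.simple 1 = 6 := rfl

theorem phi_pos : ∀ r < 12, (0 < Data.G2.tab.phi r ↔ 6 ≤ r) := by decide +kernel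

theorem phi_pos_iff {r : ℕ} (hr : r < chevG2.nroots) : 0 < Data.G2.tab.phi r ↔ 6 ≤ r := phi_pos r hr

theorem xx_zero (r : ℕ) : xx r (0 : F) = 1 := xg_zero hC r
theorem xx_add (r : ℕ) (s t : F) : xx r (s + t) = xx r s * xx r t := xg_add hC r s t
theorem xx_inv (r : ℕ) (t : F) : (xx r t)⁻¹ = xx r (-t) := xg_inv hC r t

/-! ### The torus -/

/-- Two parameters. -/
def c2 (u v : Fˣ) : ℕ → Fˣ := fun i => if i = 0 then u else v

/-- The torus element with two parameters. -/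
def tt (u v : Fˣ) : GL chevG2.Idx F := tor chevG2 (c2 u v)

theorem torChar_eq (c : ℕ → Fˣ) (s : ℕ) :
    torChar chevG2 c s = c 0 ^ chevG2.cartan 0 s * c 1 ^ chevG2.cartan 1 s := by
  rw [torChar, show chevG2.rank = 2 from rfl, Finset.prod_range_succ, Finset.prod_range_one]

theorem tor_eq_tt (c : ℕ → Fˣ) : tor chevG2 c = tt (c 0) (c 1) :=
  dg_congr fun s _ => by rw [torChar_eq, torChar_eq]; rfl

theorem tt_mul (u v u' v' : Fˣ) : tt u v * tt u' v' = tt (u * u') (v * v') := by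
  rw [tt, tt, tor_mul, tor_eq_tt]; rfl

theorem tt_one : tt (1 : Fˣ) 1 = (1 : GG) := by
  rw [← tor_one (D := chevG2) (F := F), tor_eq_tt]; rfl

theorem tt_inv (u v : Fˣ) : (tt u v : GG)⁻¹ = tt u⁻¹ v⁻¹ := by
  refine inv_eq_of_mul_eq_one_right ?_
  rw [tt_mul, mul_inv_cancel, mul_inv_cancel, tt_one]

theorem tt_mem_H (u v : Fˣ) : tt u v ∈ chevG2.diagonalSubgroup F := tor_mem_H hC _

theorem mem_H {h : GG} (hh : h ∈ chevG2.diagonalSubgroup F) : ∃ u v : Fˣ, h = tt u v := by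
  obtain ⟨c, rfl⟩ := (mem_H_iff hC).1 hh
  exact ⟨_, _, tor_eq_tt c⟩

theorem tt_conj (u v : Fˣ) (r : ℕ) (hr : r < 12) (t : F) :
    tt u v * xx r t * (tt u v)⁻¹ =
      xx r (((u ^ chevG2.cartan 0 r * v ^ chevG2.cartan 1 r : Fˣ) : F) * t) := by
  rw [tt, tor_conj_x hC _ r t hr, torChar_eq]; rfl

theorem hg_eq_tt {r : ℕ} (hr : r < 12) (a b : ℤ) (ha : cor chevG2 r 0 = a) (hb : cor chevG2 r 1 = b)
    (t : Fˣ) : hg hC r (t : F) = tt (t ^ a) (t ^ b) := by
  rw [hg_eq_tor hC hr, tor_eq_tt, ← ha, ← hb]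

theorem hg7 (t : Fˣ) : hg hC 7 (t : F) = tt t 1 := by
  rw [hg_eq_tt (by norm_num) 1 0 (by decide) (by decide), zpow_one, zpow_zero]

theorem hg6 (t : Fˣ) : hg hC 6 (t : F) = tt 1 t := by
  rw [hg_eq_tt (by norm_num) 0 1 (by decide) (by decide), zpow_one, zpow_zero]

theorem hg11 (t : Fˣ) : hg hC 11 (t : F) = tt t (t * t) := by
  rw [hg_eq_tt (by norm_num) 1 2 (by decide) (by decide), zpow_one, zpow_two]

/-! ### The opposition element -/

/-- The word of the longest element. -/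
def w0 : List ℕ := [1, 0, 1, 0, 1, 0]

theorem w0_lt : ∀ i ∈ w0, i < chevG2.rank := by decide

theorem wL_w0 : ∀ r < 12, wL chevG2 w0 r = chevG2.neg r := by decide +kernel

theorem wL_w0_rev : ∀ r < 12, wL chevG2 w0.reverse r = chevG2.neg r := by decide +kernel

/-- The longest element. -/
def n0 : GL chevG2.Idx F := nL hC F w0

/-- Conjugation by the longest element. -/
def om : MulAut (GL chevG2.Idx F) := MulAut.conj n0

theorem om_apply (g : GG) : om g = n0 * g * n0⁻¹ := rfl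

theorem n0_mem : (n0 : GG) ∈ chevG2.group F := N_le_group hC (nL_mem_N hC w0_lt)

theorem om_xx {r : ℕ} (hr : r < 12) :
    ∃ η : F, η ≠ 0 ∧ ∀ t : F, om (xx r t) = xx (chevG2.neg r) (η * t) := by
  obtain ⟨η, hη, h⟩ := nL_conj_x (F := F) hC w0_lt (r := r) hr
  exact ⟨η, hη, fun t => by rw [om_apply, ← wL_w0 r hr]; exact h t⟩

theorem nL_conj_tor {L : List ℕ} (hL : ∀ i ∈ L, i < chevG2.rank) (c : ℕ → Fˣ) :
    ∃ c' : ℕ → Fˣ, nL hC F L * tor chevG2 c * (nL hC F L)⁻¹ = tor chevG2 c' ∧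
      ∀ s < 12, torChar chevG2 c' s = torChar chevG2 c (wL chevG2 L.reverse s) := by
  induction L with
  | nil => exact ⟨c, by simp [nL], fun s _ => rfl⟩
  | cons i L ih =>
    have hi := hL i List.mem_cons_self
    obtain ⟨c1, h1, h1'⟩ := ih fun j hj => hL j (List.mem_cons_of_mem i hj)
    obtain ⟨c2, h2, h2'⟩ := ng_conj_tor hC hi c1
    refine ⟨c2, ?_, fun s hs => ?_⟩
    · rw [← h2, ← h1, show nL hC F (i :: L) = ng hC (chevG2.simple i) 1 * nL hC F L by simp [nL]]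
      group
    · rw [h2' s hs, h1' _ (hC.reflect_lt hi hs), List.reverse_cons, wL_append]
      rfl

theorem om_tt (u v : Fˣ) : om (tt u v) = (tt u v : GG)⁻¹ := by
  obtain ⟨c', h, h'⟩ := nL_conj_tor w0_lt (c2 u v)
  rw [om_apply, tt, tor_inv, show n0 * tor chevG2 (c2 u v) * n0⁻¹ = tor chevG2 c' from h]
  refine dg_congr fun s hs => ?_
  rw [h' s hs, wL_w0_rev s hs, torChar_eq, torChar_eq]
  have e0 : ∀ r < 12, chevG2.cartan 0 (chevG2.neg r) = -chevG2.cartan 0 r := by decide +kernel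
  have e1 : ∀ r < 12, chevG2.cartan 1 (chevG2.neg r) = -chevG2.cartan 1 r := by decide +kernel
  rw [e0 s hs, e1 s hs, Pi.inv_apply, Pi.inv_apply, inv_zpow', inv_zpow']

/-! ### The opposite unipotent subgroups -/

/-- The negative root elements other than `-p`. -/
def Vm (F : Type*) [Field F] (p : ℕ) : Subgroup (GL chevG2.Idx F) :=
  (Uom hC F p).map (om (F := F)).toMonoidHom

theorem xx_mem_U {r : ℕ} (h6 : 6 ≤ r) (hr : r < 12) (t : F) :
    xx r t ∈ chevG2.posUnipotent F :=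
  xg_mem_U hC hr ((phi_pos r hr).2 h6) t

theorem xx_mem_Uom {r p : ℕ} (h6 : 6 ≤ r) (hr : r < 12) (hne : r ≠ p) (t : F) :
    xx r t ∈ Uom hC F p :=
  Subgroup.subset_closure ⟨r, t, hr, ⟨(phi_pos r hr).2 h6, hne⟩, rfl⟩

theorem xx_mem_Vm {r p : ℕ} (h6 : r < 6) (hne : chevG2.neg r ≠ p) (t : F) : xx r t ∈ Vm F p := by
  have hn : ∀ r < 6, 6 ≤ chevG2.neg r ∧ chevG2.neg r < 12 ∧ chevG2.neg (chevG2.neg r) = r := by
    decide
  obtain ⟨h1, h2, h3⟩ := hn r h6
  obtain ⟨η, hη, h⟩ := om_xx (F := F) h2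
  exact ⟨_, xx_mem_Uom h1 h2 hne (η⁻¹ * t), by
    show om (xx (chevG2.neg r) (η⁻¹ * t)) = _
    rw [h, h3, mul_inv_cancel_left₀ hη]⟩

theorem neg_pos : ∀ r < 12, 6 ≤ r → chevG2.neg r < 6 := by decide +kernel

theorem xx_mem_V {r : ℕ} (h6 : r < 6) (t : F) : xx r t ∈ chevG2.negUnipotent F := by
  refine xg_mem_V hC (show r < 12 by omega) ?_ t
  have h1 := hC.phi_ne_zero (r := r) (show r < 12 by omega)
  have h2 := phi_pos r (show r < 12 by omega)
  rcases lt_trichotomy (Data.G2.tab.phi r) 0 with h | h | h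
  · exact h
  · exact absurd h h1
  · have := h2.1 h; omega

theorem om_U {u : GG} (hu : u ∈ chevG2.posUnipotent F) : om u ∈ chevG2.negUnipotent F := by
  suffices h : chevG2.posUnipotent F ≤ (chevG2.negUnipotent F).comap (om (F := F)).toMonoidHom from h hu
  rw [U_eq_closure hC, Subgroup.closure_le]
  rintro g ⟨r, t, hr, hp, rfl⟩
  obtain ⟨η, -, h⟩ := om_xx (F := F) (r := r) hr
  show om (xx r t) ∈ chevG2.negUnipotent F
  rw [h]
  exact xx_mem_V (neg_pos r hr ((phi_pos r hr).1 hp)) _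

theorem om_V {v : GG} (hv : v ∈ chevG2.negUnipotent F) : om v ∈ chevG2.posUnipotent F := by
  suffices h : chevG2.negUnipotent F ≤ (chevG2.posUnipotent F).comap (om (F := F)).toMonoidHom from h hv
  rw [V_eq_closure hC, Subgroup.closure_le]
  rintro g ⟨r, t, hr, hp, rfl⟩
  obtain ⟨η, -, h⟩ := om_xx (F := F) (r := r) hr
  show om (xx r t) ∈ chevG2.posUnipotent F
  rw [h]
  exact xg_mem_U hC (hC.neg_lt hr) (by rw [hC.phi_neg hr]; omega) _

theorem Vm_le_V (p : ℕ) : Vm F p ≤ chevG2.negUnipotent F := by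
  rintro _ ⟨u, hu, rfl⟩
  exact om_U (Uom_le_U hC p hu)

theorem om_Vm_mem {p : ℕ} {u : GG} (hu : u ∈ Uom hC F p) : om u ∈ Vm F p := ⟨u, hu, rfl⟩

theorem om_Vm {p : ℕ} {v : GG} (hv : v ∈ Vm F p) : om v ∈ Uom hC F p := by
  suffices h : Uom hC F p ≤ ((Uom hC F p).comap (om (F := F)).toMonoidHom).comap (om (F := F)).toMonoidHom by
    obtain ⟨u, hu, rfl⟩ := hv; exact h hu
  refine (Subgroup.closure_le _).2 ?_
  rintro g ⟨r, t, hr, ⟨hp, hne⟩, rfl⟩
  obtain ⟨η, -, h⟩ := om_xx (F := F) (r := r) hr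
  obtain ⟨η', -, h'⟩ := om_xx (F := F) (r := chevG2.neg r) (hC.neg_lt hr)
  show om (om (xx r t)) ∈ Uom hC F p
  rw [h, h', hC.neg_neg hr]
  exact Subgroup.subset_closure ⟨r, _, hr, ⟨hp, hne⟩, rfl⟩

/-- Root elements of a simple root and of its negative. -/
def Rk (F : Type*) [Field F] (p : ℕ) : Subgroup (GL chevG2.Idx F) :=
  chevG2.rootSubgroup F p ⊔ chevG2.rootSubgroup F (chevG2.neg p)

theorem xx_mem_Rk {r p : ℕ} (h : r = p ∨ r = chevG2.neg p) (t : F) : xx r t ∈ Rk F p := by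
  rcases h with rfl | rfl
  · exact Subgroup.mem_sup_left ((mem_rootSubgroup hC).2 ⟨t, rfl⟩)
  · exact Subgroup.mem_sup_right ((mem_rootSubgroup hC).2 ⟨t, rfl⟩)

theorem Rk_conj_Uom {i : ℕ} (hi : i < chevG2.rank) {y u : GG} (hy : y ∈ Rk F (chevG2.simple i))
    (hu : u ∈ Uom hC F (chevG2.simple i)) : y * u * y⁻¹ ∈ Uom hC F (chevG2.simple i) :=
  (Subgroup.mem_normalizer_iff.1 (rootSubgroups_le_normalizer hC hi hy) u).1 hu

theorem Rk_conj_Vm {i : ℕ} (hi : i < chevG2.rank) {y v : GG} (hy : y ∈ Rk F (chevG2.simple i))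
    (hv : v ∈ Vm F (chevG2.simple i)) : y * v * y⁻¹ ∈ Vm F (chevG2.simple i) := by
  obtain ⟨u, hu, rfl⟩ := hv
  suffices h : Rk F (chevG2.simple i) ≤ (Rk F (chevG2.simple i)).map (om (F := F)).toMonoidHom by
    obtain ⟨y', hy', rfl⟩ := h hy
    exact ⟨_, Rk_conj_Uom hi hy' hu, by simp⟩
  have hs := hC.simple_lt hi
  refine sup_le (fun g hg => ?_) fun g hg => ?_
  · obtain ⟨t, rfl⟩ := (mem_rootSubgroup hC).1 hg
    obtain ⟨η, hη, h⟩ := om_xx (F := F) (r := chevG2.neg (chevG2.simple i)) (hC.neg_lt hs)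
    exact ⟨_, xx_mem_Rk (Or.inr rfl) (η⁻¹ * t), by
      show om (xx _ _) = _
      rw [h, hC.neg_neg hs, mul_inv_cancel_left₀ hη]⟩
  · obtain ⟨t, rfl⟩ := (mem_rootSubgroup hC).1 hg
    obtain ⟨η, hη, h⟩ := om_xx (F := F) (r := chevG2.simple i) hs
    exact ⟨_, xx_mem_Rk (Or.inl rfl) (η⁻¹ * t), by
      show om (xx _ _) = _
      rw [h, mul_inv_cancel_left₀ hη]⟩

theorem H_conj_Uom {h u : GG} (p : ℕ) (hh : h ∈ chevG2.diagonalSubgroup F)
    (hu : u ∈ Uom hC F p) : h * u * h⁻¹ ∈ Uom hC F p :=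
  (Subgroup.mem_normalizer_iff.1 (H_normalizes_Uom hC p hh) u).1 hu

theorem H_conj_Vm {h v : GG} (p : ℕ) (hh : h ∈ chevG2.diagonalSubgroup F)
    (hv : v ∈ Vm F p) : h * v * h⁻¹ ∈ Vm F p := by
  obtain ⟨u, hu, rfl⟩ := hv
  obtain ⟨a, b, rfl⟩ := mem_H hh
  refine ⟨_, H_conj_Uom p (tt_mem_H a⁻¹ b⁻¹) hu, ?_⟩
  simp [om_tt, tt_inv]

theorem H_conj_U {h u : GG} (hh : h ∈ chevG2.diagonalSubgroup F)
    (hu : u ∈ chevG2.posUnipotent F) : h * u * h⁻¹ ∈ chevG2.posUnipotent F :=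
  (Subgroup.mem_normalizer_iff.1 (H_normalizes_U hC hh) u).1 hu

theorem H_conj_V {h v : GG} (hh : h ∈ chevG2.diagonalSubgroup F)
    (hv : v ∈ chevG2.negUnipotent F) : h * v * h⁻¹ ∈ chevG2.negUnipotent F :=
  (Subgroup.mem_normalizer_iff.1 (H_normalizes_V hC hh) v).1 hv

theorem U_split' {i : ℕ} (hi : i < chevG2.rank) {u : GG} (hu : u ∈ chevG2.posUnipotent F) :
    ∃ p ∈ Uom hC F (chevG2.simple i), ∃ c : F, u = p * xx (chevG2.simple i) c :=
  U_split hC (hC.simple_lt hi) (hC.phi_simple hi) hu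

theorem U_split_left {i : ℕ} (hi : i < chevG2.rank) {u : GG} (hu : u ∈ chevG2.posUnipotent F) :
    ∃ c : F, ∃ p ∈ Uom hC F (chevG2.simple i), u = xx (chevG2.simple i) c * p := by
  obtain ⟨p, hp, c, rfl⟩ := U_split' hi hu
  refine ⟨c, _, Rk_conj_Uom hi (inv_mem (xx_mem_Rk (r := chevG2.simple i) (Or.inl rfl) c)) hp, ?_⟩
  group

theorem om_om_xx {r : ℕ} (hr : r < 12) :
    ∃ η : F, η ≠ 0 ∧ ∀ t : F, xx r t = om (xx (chevG2.neg r) (η * t)) := by
  obtain ⟨η, hη, h⟩ := om_xx (F := F) (r := chevG2.neg r) (hC.neg_lt (show r < chevG2.nroots from hr))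
  exact ⟨η⁻¹, inv_ne_zero hη, fun t => by rw [h, hC.neg_neg hr, mul_inv_cancel_left₀ hη]⟩

theorem V_split_left {i : ℕ} (hi : i < chevG2.rank) {v : GG} (hv : v ∈ chevG2.negUnipotent F) :
    ∃ c : F, ∃ w ∈ Vm F (chevG2.simple i), v = xx (chevG2.neg (chevG2.simple i)) c * w := by
  suffices h : chevG2.negUnipotent F ≤ (chevG2.posUnipotent F).map (om (F := F)).toMonoidHom by
    obtain ⟨u, hu, rfl⟩ := h hv
    obtain ⟨c, p, hp, rfl⟩ := U_split_left hi hu
    obtain ⟨η, -, hη⟩ := om_xx (F := F) (r := chevG2.simple i) (hC.simple_lt hi)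
    exact ⟨η * c, om p, om_Vm_mem hp, by simp [hη]⟩
  rw [V_eq_closure hC, Subgroup.closure_le]
  rintro g ⟨r, t, hr, hp, rfl⟩
  obtain ⟨η, -, h⟩ := om_om_xx (F := F) (r := r) hr
  exact ⟨_, xg_mem_U hC (hC.neg_lt hr) (by rw [hC.phi_neg hr]; omega) _, (h t).symm⟩

/-! ### The rank one subgroups -/

/-- The map from `SL₂` attached to a root. -/
noncomputable def phi (r : ℕ) (hr : r < chevG2.nroots) : SL →* GL chevG2.Idx F :=
  (SL2.exists_hom (SL2.rank1 (F := F) hC hr)).choose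

theorem phi_sx {r : ℕ} (hr : r < chevG2.nroots) (t : F) : phi r hr (SL2.sx t) = xx r t :=
  (SL2.exists_hom (SL2.rank1 (F := F) hC hr)).choose_spec.1 t

theorem phi_sy {r : ℕ} (hr : r < chevG2.nroots) (t : F) :
    phi r hr (SL2.sy t) = xx (chevG2.neg r) t :=
  (SL2.exists_hom (SL2.rank1 (F := F) hC hr)).choose_spec.2.1 t

theorem phi_mem_Rk {r : ℕ} (hr : r < chevG2.nroots) (g : SL) : phi r hr g ∈ Rk F r := by
  refine (Subgroup.closure_le _).2 ?_ ((SL2.exists_hom (SL2.rank1 (F := F) hC hr)).choose_spec.2.2 g)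
  rintro x (⟨t, rfl⟩ | ⟨t, rfl⟩)
  · exact xx_mem_Rk (Or.inl rfl) t
  · exact xx_mem_Rk (Or.inr rfl) t

/-- A diagonal element as a word. -/
def dw (a : Fˣ) : SL :=
  SL2.sx (a : F) * SL2.sy (-(a : F)⁻¹) * SL2.sx (a : F) *
    (SL2.sx (-1 : F) * SL2.sy 1 * SL2.sx (-1 : F))

theorem coe_dw (a : Fˣ) :
    ((dw a : SL) : Matrix (Fin 2) (Fin 2) F) = !![(a : F), 0; 0, (a : F)⁻¹] := by
  ext i j
  fin_cases i <;> fin_cases j <;> simp [dw, Matrix.mul_apply, Fin.sum_univ_two]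

theorem phi_dw {r : ℕ} (hr : r < chevG2.nroots) (a : Fˣ) : phi r hr (dw a) = hg hC r (a : F) := by
  simp only [dw, map_mul, phi_sx, phi_sy, hg, ng, inv_neg, inv_one, neg_neg]

theorem ldu {M : SL} (h : SL2.el M 0 0 ≠ 0) :
    M = SL2.sy (SL2.el M 1 0 / SL2.el M 0 0) * dw (Units.mk0 _ h) *
      SL2.sx (SL2.el M 0 1 / SL2.el M 0 0) := by
  have hdet := SL2.el_det M
  apply Subtype.ext
  rw [Matrix.SpecialLinearGroup.coe_mul, Matrix.SpecialLinearGroup.coe_mul, coe_dw]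
  ext i j
  fin_cases i <;> fin_cases j <;>
    simp [SL2.el, Matrix.mul_apply, Fin.sum_univ_two] at h hdet ⊢ <;> field_simp
  linear_combination hdet

theorem sx_sy {r c : F} (hs : 1 + r * c ≠ 0) :
    (SL2.sx r * SL2.sy c : SL) =
      SL2.sy (c / (1 + r * c)) * dw (Units.mk0 _ hs) * SL2.sx (r / (1 + r * c)) := by
  apply Subtype.ext
  rw [Matrix.SpecialLinearGroup.coe_mul, Matrix.SpecialLinearGroup.coe_mul,
    Matrix.SpecialLinearGroup.coe_mul, coe_dw]
  ext i j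
  fin_cases i <;> fin_cases j <;>
    simp [Matrix.mul_apply, Fin.sum_univ_two] <;>
    generalize hS : 1 + r * c = S at hs ⊢ <;> field_simp <;> rw [← hS] <;> ring

theorem xx_sx_sy {i : ℕ} (hi : i < chevG2.rank) {r c : F} (hs : 1 + r * c ≠ 0) :
    xx (chevG2.simple i) r * xx (chevG2.neg (chevG2.simple i)) c =
      xx (chevG2.neg (chevG2.simple i)) (c / (1 + r * c)) *
        hg hC (chevG2.simple i) ((Units.mk0 _ hs : Fˣ) : F) *
        xx (chevG2.simple i) (r / (1 + r * c)) := by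
  have hr := hC.simple_lt hi
  have := congrArg (phi (chevG2.simple i) hr) (sx_sy (F := F) hs)
  simpa only [map_mul, phi_sx, phi_sy, phi_dw] using this

/-! ### The big cell -/

theorem group_le {K : Subgroup (GL chevG2.Idx F)}
    (hK : ∀ i < chevG2.rank, ∀ t : F, xx (chevG2.simple i) t ∈ K ∧
      xx (chevG2.neg (chevG2.simple i)) t ∈ K) : chevG2.group F ≤ K := by
  have hn : ∀ i < chevG2.rank, ng hC (chevG2.simple i) (1 : F) ∈ K := fun i hi =>
    mul_mem (mul_mem (hK i hi 1).1 (hK i hi _).2) (hK i hi 1).1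
  rw [group_eq_closure hC, Subgroup.closure_le]
  rintro g ⟨r, t, hr, rfl⟩
  revert t
  refine Root.simple_induction hC (P := fun r => ∀ t : F, xx r t ∈ K)
    (fun i hi t => (hK i hi t).1) (fun r hr i hi ih t => ?_) r hr
  obtain ⟨η, hη, he⟩ := Weyl.eta_field (F := F) (i := i) (r := r) hC
  have := mul_mem (mul_mem (hn i hi) (ih (η⁻¹ * t))) (inv_mem (hn i hi))
  rwa [ng_conj_x hC hi hr, ← he, mul_inv_cancel_left₀ hη] at this

/-- The translates of the big cell. -/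
def Cell (g : GL chevG2.Idx F) : Prop :=
  ∃ a ∈ chevG2.posUnipotent F, ∃ b ∈ chevG2.negUnipotent F, ∃ h ∈ chevG2.diagonalSubgroup F,
    ∃ c ∈ chevG2.posUnipotent F, g = a * b * h * c

theorem cell_pos {i : ℕ} (hi : i < chevG2.rank) (t : F) {g : GG} (hg : Cell g) :
    Cell (xx (chevG2.simple i) t * g) := by
  obtain ⟨a, ha, b, hb, h, hh, c, hc, rfl⟩ := hg
  exact ⟨_, mul_mem (xg_mem_U hC (hC.simple_lt hi) (hC.phi_simple hi) t) ha, b, hb, h, hh, c, hc,
    by simp only [mul_assoc]⟩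

theorem xx_neg_mem_V {i : ℕ} (hi : i < chevG2.rank) (t : F) :
    xx (chevG2.neg (chevG2.simple i)) t ∈ chevG2.negUnipotent F := by
  have hs := hC.simple_lt hi
  refine xg_mem_V hC (hC.neg_lt hs) ?_ t
  rw [hC.phi_neg hs]
  have := hC.phi_simple hi
  omega

theorem cell_neg {i : ℕ} (hi : i < chevG2.rank) (t : F) {g : GG} (hg : Cell g) :
    Cell (xx (chevG2.neg (chevG2.simple i)) t * g) := by
  obtain ⟨a, ha, b, hb, h, hh, c, hc, rfl⟩ := hg
  obtain ⟨p, hp, s, rfl⟩ := U_split' hi ha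
  obtain ⟨r, w, hw, rfl⟩ := V_split_left hi hb
  have hs := hC.simple_lt hi
  obtain ⟨M, hM⟩ : ∃ M : SL, M = SL2.sy t * SL2.sx s * SL2.sy r := ⟨_, rfl⟩
  have hM' : phi _ hs M = xx (chevG2.neg (chevG2.simple i)) t * xx (chevG2.simple i) s *
      xx (chevG2.neg (chevG2.simple i)) r := by
    simp only [hM, map_mul, phi_sx, phi_sy]
  obtain ⟨s0, M', hMM, h00⟩ : ∃ (s0 : F) (M' : SL), M = SL2.sx s0 * M' ∧ SL2.el M' 0 0 ≠ 0 := by
    by_cases h00 : SL2.el M 0 0 = 0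
    · refine ⟨1, (SL2.sx (1 : F))⁻¹ * M, by group, fun h => ?_⟩
      have e : (SL2.sx (1 : F))⁻¹ = SL2.sx (-1) := inv_eq_of_mul_eq_one_right (by
        ext i j; fin_cases i <;> fin_cases j <;> simp [Matrix.mul_apply, Fin.sum_univ_two])
      rw [e, SL2.el_mul] at h
      simp [SL2.el] at h h00
      have := SL2.el_det M
      simp [SL2.el, h00] at this
      rw [h00] at h
      simp at h
      rw [h] at this
      simp at this
    · refine ⟨0, M, ?_, h00⟩
      have e : SL2.sx (0 : F) = 1 := by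
        ext i j; fin_cases i <;> fin_cases j <;> simp
      rw [e, one_mul]
  obtain ⟨l, d, m, hd, hlm⟩ : ∃ (l : F) (d : GG) (m : F), d ∈ chevG2.diagonalSubgroup F ∧
      phi _ hs M' = xx (chevG2.neg (chevG2.simple i)) l * d * xx (chevG2.simple i) m := by
    refine ⟨_, hg hC (chevG2.simple i) ((Units.mk0 _ h00 : Fˣ) : F), _, ?_,
      (congrArg (phi _ hs) (ldu h00)).trans (by simp only [map_mul, phi_sx, phi_sy, phi_dw]; rfl)⟩
    rw [hg_eq_tor hC hs]
    exact tor_mem_H hC _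
  rw [hMM, map_mul, phi_sx, hlm] at hM'
  obtain ⟨w', hw', hwm⟩ : ∃ w' ∈ Vm F (chevG2.simple i),
      xx (chevG2.simple i) m * w = w' * xx (chevG2.simple i) m :=
    ⟨_, Rk_conj_Vm hi (xx_mem_Rk (Or.inl rfl) m) hw, by group⟩
  have hpU : xx (chevG2.neg (chevG2.simple i)) t * p * (xx (chevG2.neg (chevG2.simple i)) t)⁻¹ ∈
      chevG2.posUnipotent F :=
    Uom_le_U hC _ (Rk_conj_Uom hi (xx_mem_Rk (Or.inr rfl) t) hp)
  refine ⟨_, mul_mem hpU (xg_mem_U hC hs (hC.phi_simple hi) s0), _,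
    mul_mem (xx_neg_mem_V hi l) (H_conj_V hd (Vm_le_V _ hw')), d * h, mul_mem hd hh, _,
    mul_mem (H_conj_U (inv_mem hh) (xg_mem_U hC hs (hC.phi_simple hi) m)) hc, ?_⟩
  calc _ = (xx (chevG2.neg (chevG2.simple i)) t * p * (xx (chevG2.neg (chevG2.simple i)) t)⁻¹) *
        (xx (chevG2.neg (chevG2.simple i)) t * xx (chevG2.simple i) s *
          xx (chevG2.neg (chevG2.simple i)) r) * w * h * c := by group
    _ = (xx (chevG2.neg (chevG2.simple i)) t * p * (xx (chevG2.neg (chevG2.simple i)) t)⁻¹) *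
        xx (chevG2.simple i) s0 * xx (chevG2.neg (chevG2.simple i)) l * d *
          (xx (chevG2.simple i) m * w) * h * c := by rw [← hM']; group
    _ = _ := by rw [hwm]; group

theorem cell_all {g : GG} (hg : g ∈ chevG2.group F) : Cell g := by
  let K : Subgroup (GL chevG2.Idx F) := Subgroup.closure
    {x | ∃ i < chevG2.rank, ∃ t : F, x = xx (chevG2.simple i) t ∨
      x = xx (chevG2.neg (chevG2.simple i)) t}
  have hle : chevG2.group F ≤ K := group_le fun i hi t =>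
    ⟨Subgroup.subset_closure ⟨i, hi, t, Or.inl rfl⟩, Subgroup.subset_closure ⟨i, hi, t, Or.inr rfl⟩⟩
  have h1 : Cell (1 : GG) := ⟨1, one_mem _, 1, one_mem _, 1, one_mem _, 1, one_mem _, by simp⟩
  refine Subgroup.closure_induction_left (p := fun x _ => Cell x) h1 ?_ ?_ (hle hg)
  · rintro x ⟨i, hi, t, rfl | rfl⟩ y - hy
    exacts [cell_pos hi t hy, cell_neg hi t hy]
  · rintro x ⟨i, hi, t, rfl | rfl⟩ y - hy
    · rw [xx_inv]; exact cell_pos hi _ hy
    · rw [xx_inv]; exact cell_neg hi _ hy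

/-! ### The Levi factor -/

/-- Conjugation of `SL₂` by a diagonal matrix, as a function. -/
def cdFun (d : Fˣ) (N : SL) : SL :=
  ⟨!![SL2.el N 0 0, (d : F) * SL2.el N 0 1; (d : F)⁻¹ * SL2.el N 1 0, SL2.el N 1 1], by
    have := SL2.el_det N
    rw [Matrix.det_fin_two_of]
    field_simp
    linear_combination this⟩

theorem coe_cdFun (d : Fˣ) (N : SL) : ((cdFun d N : SL) : Matrix (Fin 2) (Fin 2) F) =
    !![SL2.el N 0 0, (d : F) * SL2.el N 0 1; (d : F)⁻¹ * SL2.el N 1 0, SL2.el N 1 1] := rfl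

/-- Conjugation of `SL₂` by a diagonal matrix. -/
def cd (d : Fˣ) : SL →* SL where
  toFun := cdFun d
  map_one' := by
    ext i j; fin_cases i <;> fin_cases j <;> simp [coe_cdFun, SL2.el]
  map_mul' N N' := by
    ext i j
    fin_cases i <;> fin_cases j <;>
      simp [coe_cdFun, SL2.el, Matrix.mul_apply, Fin.sum_univ_two] <;> field_simp

theorem coe_cd (d : Fˣ) (N : SL) : ((cd d N : SL) : Matrix (Fin 2) (Fin 2) F) =
    !![SL2.el N 0 0, (d : F) * SL2.el N 0 1; (d : F)⁻¹ * SL2.el N 1 0, SL2.el N 1 1] := rfl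

theorem phi_cd (d : Fˣ) (N : SL) :
    tt d d * phi 7 (by decide) N * (tt d d)⁻¹ = phi (F := F) 7 (by decide) (cd d N) := by
  have h := SL2.mem_of_generators (K := MonoidHom.eqLocus
    ((MulAut.conj (tt d d : GG)).toMonoidHom.comp (phi 7 (by decide)))
    ((phi 7 (by decide)).comp (cd d))) (fun t => ?_) (fun t => ?_) N
  · exact h
  · show tt d d * phi 7 (by decide) (SL2.sx t) * (tt d d)⁻¹ = phi 7 (by decide) (cd d (SL2.sx t))
    have e : cd d (SL2.sx t) = SL2.sx ((d : F) * t) := by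
      ext i j; fin_cases i <;> fin_cases j <;> simp [coe_cd, SL2.el]
    rw [e, phi_sx, phi_sx, tt_conj _ _ _ (by norm_num),
      show chevG2.cartan 0 7 = 2 from rfl, show chevG2.cartan 1 7 = -1 from rfl]
    congr 1
    push_cast
    field_simp
  · show tt d d * phi 7 (by decide) (SL2.sy t) * (tt d d)⁻¹ = phi 7 (by decide) (cd d (SL2.sy t))
    have e : cd d (SL2.sy t) = SL2.sy ((d : F)⁻¹ * t) := by
      ext i j; fin_cases i <;> fin_cases j <;> simp [coe_cd, SL2.el]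
    rw [e, phi_sy, phi_sy, tt_conj _ _ _ (by decide),
      show chevG2.cartan 0 (chevG2.neg 7) = -2 from rfl, show chevG2.cartan 1 (chevG2.neg 7) = 1 from rfl]
    congr 1
    push_cast
    field_simp

/-- The determinant one part. -/
def unim (M : GL (Fin 2) F) : SL :=
  ⟨!![(M : Matrix (Fin 2) (Fin 2) F) 0 0 / (Matrix.GeneralLinearGroup.det M : F),
      (M : Matrix (Fin 2) (Fin 2) F) 0 1;
      (M : Matrix (Fin 2) (Fin 2) F) 1 0 / (Matrix.GeneralLinearGroup.det M : F),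
      (M : Matrix (Fin 2) (Fin 2) F) 1 1], by
    have h : (M : Matrix (Fin 2) (Fin 2) F).det = (Matrix.GeneralLinearGroup.det M : F) := rfl
    have h0 : (Matrix.GeneralLinearGroup.det M : F) ≠ 0 := Units.ne_zero _
    rw [Matrix.det_fin_two] at h
    rw [Matrix.det_fin_two_of]
    field_simp
    linear_combination h⟩

theorem coe_unim (M : GL (Fin 2) F) : ((unim M : SL) : Matrix (Fin 2) (Fin 2) F) =
    !![(M : Matrix (Fin 2) (Fin 2) F) 0 0 / (Matrix.GeneralLinearGroup.det M : F),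
      (M : Matrix (Fin 2) (Fin 2) F) 0 1;
      (M : Matrix (Fin 2) (Fin 2) F) 1 0 / (Matrix.GeneralLinearGroup.det M : F),
      (M : Matrix (Fin 2) (Fin 2) F) 1 1] := rfl

/-- The embedding of the Levi factor. -/
noncomputable def Lev : GL (Fin 2) F →* GL chevG2.Idx F where
  toFun M := phi 7 (by decide) (unim M) *
    tt (Matrix.GeneralLinearGroup.det M) (Matrix.GeneralLinearGroup.det M)
  map_one' := by
    have e : unim (1 : GL (Fin 2) F) = 1 := by
      ext i j; fin_cases i <;> fin_cases j <;> simp [coe_unim]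
    rw [e, map_one, map_one, tt_one, mul_one]
  map_mul' M N := by
    have e : unim (M * N) = unim M * cd (Matrix.GeneralLinearGroup.det M) (unim N) := by
      have h0 : (Matrix.GeneralLinearGroup.det M : F) ≠ 0 := Units.ne_zero _
      have h1 : (Matrix.GeneralLinearGroup.det N : F) ≠ 0 := Units.ne_zero _
      ext i j
      fin_cases i <;> fin_cases j <;>
        simp [coe_unim, coe_cd, SL2.el, Matrix.mul_apply, Fin.sum_univ_two, -Matrix.GeneralLinearGroup.val_det_apply] <;>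
        field_simp
    rw [e, map_mul, map_mul, ← phi_cd, ← tt_mul]
    group

theorem Lev_diag (u v : Fˣ) (M : GL (Fin 2) F)
    (hM : (M : Matrix (Fin 2) (Fin 2) F) = !![(u : F), 0; 0, (v : F)]) :
    Lev M = (tt u (u * v) : GG) := by
  have hd : Matrix.GeneralLinearGroup.det M = u * v := by
    ext; simp [hM]
  have e : unim M = dw v⁻¹ := by
    apply Subtype.ext
    rw [coe_dw]
    ext i j
    fin_cases i <;> fin_cases j <;> simp [coe_unim, hd, hM]
    field_simp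
  show phi 7 _ (unim M) * tt _ _ = _
  rw [e, phi_dw, hg7, hd, tt_mul, one_mul]
  congr 1
  rw [mul_comm u v, inv_mul_cancel_left]

theorem Lev_upper (t : F) (M : GL (Fin 2) F)
    (hM : (M : Matrix (Fin 2) (Fin 2) F) = !![1, t; 0, 1]) : Lev M = (xx 7 t : GG) := by
  have hd : Matrix.GeneralLinearGroup.det M = 1 := by ext; simp [hM]
  have e : unim M = SL2.sx t := by
    ext i j; fin_cases i <;> fin_cases j <;> simp [coe_unim, hd, hM]
  show phi 7 _ (unim M) * tt _ _ = _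
  rw [e, phi_sx, hd, tt_one, mul_one]

theorem Lev_lower (t : F) (M : GL (Fin 2) F)
    (hM : (M : Matrix (Fin 2) (Fin 2) F) = !![1, 0; t, 1]) : Lev M = (xx 4 t : GG) := by
  have hd : Matrix.GeneralLinearGroup.det M = 1 := by ext; simp [hM]
  have e : unim M = SL2.sy t := by
    ext i j; fin_cases i <;> fin_cases j <;> simp [coe_unim, hd, hM]
  show phi 7 _ (unim M) * tt _ _ = _
  rw [e, phi_sy, hd, tt_one, mul_one]
  rfl

theorem Lev_scalar (s : Fˣ) (M : GL (Fin 2) F)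
    (hM : (M : Matrix (Fin 2) (Fin 2) F) = !![(s : F), 0; 0, (s : F)]) :
    Lev M = (tt s (s * s) : GG) := Lev_diag s s M hM

theorem Lev_mem (M : GL (Fin 2) F) : Lev M ∈ chevG2.group F := by
  refine mul_mem ?_ (H_le_group hC (tt_mem_H _ _))
  have h := phi_mem_Rk (F := F) (r := 7) (by decide) (unim M)
  refine (sup_le ?_ ?_ : Rk F 7 ≤ chevG2.group F) h <;> intro g hg <;>
    obtain ⟨t, rfl⟩ := (mem_rootSubgroup hC).1 hg
  · exact xg_mem_group hC (show 7 < chevG2.nroots by decide) t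
  · exact xg_mem_group hC (show chevG2.neg 7 < chevG2.nroots by decide) t

theorem Lev_conj_Uom (M : GL (Fin 2) F) {u : GG} (hu : u ∈ Uom hC F 7) :
    Lev M * u * (Lev M)⁻¹ ∈ Uom hC F 7 := by
  show phi 7 _ (unim M) * tt _ _ * u * (phi 7 _ (unim M) * tt _ _)⁻¹ ∈ _
  have := Rk_conj_Uom (i := 0) (by decide) (phi_mem_Rk (F := F) (r := 7) (by decide) (unim M))
    (H_conj_Uom 7 (tt_mem_H (Matrix.GeneralLinearGroup.det M) (Matrix.GeneralLinearGroup.det M)) hu)
  simpa [mul_assoc] using! this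

theorem Lev_conj_Vm (M : GL (Fin 2) F) {v : GG} (hv : v ∈ Vm F 7) :
    Lev M * v * (Lev M)⁻¹ ∈ Vm F 7 := by
  show phi 7 _ (unim M) * tt _ _ * v * (phi 7 _ (unim M) * tt _ _)⁻¹ ∈ _
  have := Rk_conj_Vm (i := 0) (by decide) (phi_mem_Rk (F := F) (r := 7) (by decide) (unim M))
    (H_conj_Vm 7 (tt_mem_H (Matrix.GeneralLinearGroup.det M) (Matrix.GeneralLinearGroup.det M)) hv)
  simpa [mul_assoc] using! this

end Cfsg.Agent.Involutions.ClassSquare.G2
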