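import Cfsg.Agent.Lib.Involutions.ClassSquare.TwoByTwo
import Cfsg.Agent.Lib.Involutions.ClassSquare.G2Setup

/-!
Elliptic elements of the Levi factor act on both radicals without fixed points.
-/

set_option autoImplicit false
set_option linter.unusedSectionVars false

open scoped Matrix

namespace Cfsg.Agent.Involutions.ClassSquare.G2

open Cfsg.Lie Cfsg.Agent.Chevalley Cfsg.Agent.Chevalley.Cert Cfsg.Agent.Chevalley.Group
  Cfsg.Agent.Chevalley.Table Cfsg.Agent.Chevalley.Unip Cfsg.Agent.Chevalley.Bruhat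
  Cfsg.Agent.Chevalley.Borel

variable {F : Type*} [Field F]

local notation "GG" => GL chevG2.Idx F
local notation "M2" => Matrix (Fin 2) (Fin 2) F

/-- The characteristic polynomial has no root. -/
def NoRoot (δ t : F) : Prop := ∀ a : F, a * a - t * a + δ ≠ 0

theorem exists_sq_add_four [Fintype F] (h2 : (2 : F) ≠ 0) : ∃ t : F, ¬ IsSquare (t * t + 4) := by
  classical
  by_contra hcon
  push Not at hcon
  have hchar : ringChar F ≠ 2 := fun h => h2 (by
    have := ringChar.Nat.cast_ringChar (R := F)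
    rw [h] at this
    exact_mod_cast this)
  have h4 : ∀ a b : F, IsSquare (a * a + b * b) := by
    intro a b
    by_cases hb : b = 0
    · exact ⟨a, by rw [hb]; ring⟩
    · obtain ⟨c, hc⟩ := hcon (a * 2 / b)
      refine ⟨b / 2 * c, ?_⟩
      have : b / 2 * c * (b / 2 * c) = b * b / (2 * 2) * (c * c) := by field_simp
      rw [this, ← hc]
      field_simp
      ring
  obtain ⟨n, hn⟩ := FiniteField.exists_nonsquare hchar
  obtain ⟨a, b, hab⟩ := FiniteField.exists_root_sum_quadratic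
    (f := (Polynomial.X ^ 2 : Polynomial F)) (g := Polynomial.X ^ 2 - Polynomial.C n)
    (Polynomial.degree_X_pow 2)
    (Polynomial.degree_X_pow_sub_C (by norm_num) n)
    (Nat.mod_two_ne_zero.1 fun h => hchar ((FiniteField.even_card_iff_char_two (F := F)).2 h))
  simp only [Polynomial.eval_pow, Polynomial.eval_X, Polynomial.eval_sub, Polynomial.eval_C] at hab
  exact hn (by
    have := h4 a b
    rwa [show n = a * a + b * b by linear_combination -hab])

theorem exists_not_artin_schreier [Fintype F] (h2 : (2 : F) = 0) (h3 : 3 ≤ Fintype.card F) :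
    ∃ δ : F, δ ≠ 1 ∧ ∀ y : F, y * y + y ≠ δ := by
  classical
  by_contra hcon
  push Not at hcon
  let f : F →+ F :=
    { toFun := fun y => y * y + y
      map_zero' := by simp
      map_add' := fun a b => by linear_combination (a * b) * h2 }
  have hker : (2 : ℕ) ≤ Nat.card f.ker := by
    have h1 : (1 : F) ∈ f.ker := by
      show (1 : F) * 1 + 1 = 0
      linear_combination h2
    haveI : Nontrivial f.ker := ⟨⟨0, ⟨1, h1⟩, fun h => zero_ne_one (congrArg Subtype.val h)⟩⟩
    exact Finite.one_lt_card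
  have hrange : Fintype.card F - 1 ≤ Nat.card f.range := by
    have hsub : (Finset.univ.erase (1 : F)) ⊆ Finset.univ.filter (fun d => d ∈ f.range) := by
      intro d hd
      obtain ⟨y, hy⟩ := hcon d (Finset.ne_of_mem_erase hd)
      exact Finset.mem_filter.2 ⟨Finset.mem_univ _, y, hy⟩
    have := Finset.card_le_card hsub
    rw [Finset.card_erase_of_mem (Finset.mem_univ _), Finset.card_univ] at this
    rwa [Nat.card_eq_fintype_card, Fintype.card_subtype]
  have hmul : Nat.card f.ker * Nat.card f.range = Fintype.card F := by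
    rw [← Nat.card_eq_fintype_card, ← AddSubgroup.index_ker, AddSubgroup.card_mul_index]
  have hm := Nat.mul_le_mul hker hrange
  omega

theorem exists_params [Fintype F] (h3 : 3 ≤ Fintype.card F) :
    ∃ δ t : F, Good δ t ∧ NoRoot δ t ∧
      (((2 : F) ≠ 0 ∧ δ = -1) ∨ ((2 : F) = 0 ∧ δ * δ ≠ 1)) := by
  by_cases h2 : (2 : F) = 0
  · obtain ⟨δ, hδ1, hδ⟩ := exists_not_artin_schreier h2 h3
    have hδ0 : δ ≠ 0 := fun h => hδ 0 (by rw [h]; ring)
    refine ⟨δ, 1, ⟨hδ0, hδ1, one_ne_zero, fun h => hδ0 (by linear_combination -h),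
      fun h => hδ0 (by linear_combination h - h2), fun h => one_ne_zero (α := F) ?_⟩,
      fun a ha => hδ a ?_, Or.inr ⟨h2, fun h => hδ1 ?_⟩⟩
    · linear_combination h + 2 * δ * h2
    · linear_combination ha + (a - δ) * h2
    · have : (δ - 1) * (δ - 1) = 0 := by linear_combination h + (1 - δ) * h2
      exact sub_eq_zero.1 (mul_self_eq_zero.1 this)
  · obtain ⟨t, ht⟩ := exists_sq_add_four h2
    refine ⟨-1, t, ⟨neg_ne_zero.2 one_ne_zero, fun h => h2 (by linear_combination -h),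
      fun h => ht ⟨2, by rw [h]; ring⟩, fun h => ht ⟨2, by rw [h]; ring⟩,
      fun h => ht ⟨2, by rw [h]; ring⟩, fun h => ht ⟨0, by rw [h]; ring⟩⟩,
      fun a ha => ht ⟨2 * a - t, by linear_combination -4 * ha⟩, Or.inl ⟨h2, rfl⟩⟩

theorem cA_pow [Fintype F] {δ t : F} (he : NoRoot δ t) :
    cA δ t ^ (Fintype.card F + 1) = δ • (1 : M2) := by
  classical
  obtain ⟨f, hf⟩ : ∃ f : Polynomial F,
      f = Polynomial.X ^ 2 - Polynomial.C t * Polynomial.X + Polynomial.C δ := ⟨_, rfl⟩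
  have hdeg : f.natDegree = 2 := by rw [hf]; compute_degree!
  have hroot : ∀ a, ¬ f.IsRoot a := fun a ha => he a (by
    rw [hf] at ha
    simp [Polynomial.IsRoot.def] at ha
    linear_combination ha)
  haveI hirr : Fact (Irreducible f) :=
    ⟨Polynomial.irreducible_of_degree_le_three_of_not_isRoot
      (Finset.mem_Icc.2 ⟨by omega, by omega⟩) hroot⟩
  obtain ⟨r, hr⟩ : ∃ r : AdjoinRoot f, r = AdjoinRoot.root f := ⟨_, rfl⟩
  have hr2 : r ^ 2 - algebraMap F (AdjoinRoot f) t * r + algebraMap F (AdjoinRoot f) δ = 0 := by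
    have := AdjoinRoot.aeval_eq (f := f) f
    rw [AdjoinRoot.mk_self] at this
    conv_lhs at this => arg 2; rw [hf]
    simpa [hr] using this
  have hinj := (algebraMap F (AdjoinRoot f)).injective
  have hne : r ^ Fintype.card F ≠ r := by
    intro h
    have hnotin : r ∉ Finset.univ.image (algebraMap F (AdjoinRoot f)) := by
      intro hm
      obtain ⟨a, -, ha⟩ := Finset.mem_image.1 hm
      refine he a (hinj ?_)
      rw [← ha] at hr2
      simp only [map_add, map_sub, map_mul, map_zero]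
      linear_combination hr2
    have hq : 1 < Fintype.card F := Fintype.one_lt_card
    have := Polynomial.card_le_degree_of_subset_roots
      (p := (Polynomial.X ^ Fintype.card F - Polynomial.X : Polynomial (AdjoinRoot f)))
      (Z := insert r (Finset.univ.image (algebraMap F (AdjoinRoot f)))) (by
        intro x hx
        rw [Polynomial.mem_roots (FiniteField.X_pow_card_sub_X_ne_zero _ hq)]
        simp only [Polynomial.IsRoot.def, Polynomial.eval_sub, Polynomial.eval_pow,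
          Polynomial.eval_X, sub_eq_zero]
        rcases Finset.mem_insert.1 hx with rfl | hx
        · exact h
        · obtain ⟨a, -, rfl⟩ := Finset.mem_image.1 hx
          rw [← map_pow, FiniteField.pow_card])
    rw [Finset.card_insert_of_notMem hnotin, Finset.card_image_of_injective _ hinj,
      Finset.card_univ, FiniteField.X_pow_card_sub_X_natDegree_eq _ hq] at this
    omega
  have hs2 : (r ^ Fintype.card F) ^ 2 - algebraMap F (AdjoinRoot f) t * r ^ Fintype.card F +
      algebraMap F (AdjoinRoot f) δ = 0 := by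
    have := congrArg (FiniteField.frobeniusAlgHom F (AdjoinRoot f)) hr2
    simp only [map_add, map_sub, map_mul, map_pow, map_zero, AlgHom.commutes] at this
    exact this
  have hsum : r ^ Fintype.card F = algebraMap F (AdjoinRoot f) t - r := by
    have : (r ^ Fintype.card F - r) * (r ^ Fintype.card F + r - algebraMap F (AdjoinRoot f) t) = 0 := by
      linear_combination hs2 - hr2
    have := (mul_eq_zero.1 this).resolve_left (sub_ne_zero.2 hne)
    linear_combination this
  have hprod : r ^ (Fintype.card F + 1) = algebraMap F (AdjoinRoot f) δ := by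
    rw [pow_succ, hsum]; linear_combination -hr2
  have hdvd : f ∣ Polynomial.X ^ (Fintype.card F + 1) - Polynomial.C δ := by
    rw [← AdjoinRoot.mk_eq_zero, map_sub, map_pow, AdjoinRoot.mk_X, AdjoinRoot.mk_C, ← hr, hprod]
    simp [AdjoinRoot.algebraMap_eq]
  obtain ⟨g, hg⟩ := hdvd
  have hA : Polynomial.aeval (cA δ t) f = 0 := by
    rw [hf]
    simp only [map_add, map_sub, map_mul, Polynomial.aeval_X, Polynomial.aeval_C, map_pow,
      Algebra.algebraMap_eq_smul_one]
    ext i j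
    fin_cases i <;> fin_cases j <;> simp [cA, pow_two, Matrix.mul_apply, Fin.sum_univ_two] <;> ring
  have := congrArg (Polynomial.aeval (cA δ t)) hg
  rw [map_mul, hA, zero_mul, map_sub, map_pow, Polynomial.aeval_X, Polynomial.aeval_C, sub_eq_zero,
    Algebra.algebraMap_eq_smul_one] at this
  exact this

/-- A scalar matrix. -/
def sG (s : Fˣ) : GL (Fin 2) F where
  val := !![(s : F), 0; 0, (s : F)]
  inv := !![(s : F)⁻¹, 0; 0, (s : F)⁻¹]
  val_inv := by ext i j; fin_cases i <;> fin_cases j <;> simp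
  inv_val := by ext i j; fin_cases i <;> fin_cases j <;> simp

theorem coe_sG (s : Fˣ) : ((sG s : GL (Fin 2) F) : M2) = (s : F) • 1 := by
  ext i j; fin_cases i <;> fin_cases j <;> simp [sG]

theorem Lev_sG (s : Fˣ) : Lev (sG s) = (tt s (s * s) : GG) := Lev_scalar s _ rfl

theorem sG_comm (s : Fˣ) (N : GL (Fin 2) F) : sG s * N = N * sG s := by
  apply Units.ext
  rw [Units.val_mul, Units.val_mul, coe_sG, Matrix.smul_mul, Matrix.mul_smul, Matrix.one_mul,
    Matrix.mul_one]

theorem sG_mul (s u : Fˣ) : sG s * sG u = sG (s * u) := by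
  apply Units.ext
  rw [Units.val_mul, coe_sG, coe_sG, coe_sG, Matrix.smul_mul, Matrix.one_mul, smul_smul,
    Units.val_mul]

theorem sG_pow (s : Fˣ) (k : ℕ) : sG s ^ k = sG (s ^ k) := by
  induction k with
  | zero => apply Units.ext; rw [pow_zero, pow_zero, coe_sG]; simp
  | succ k ih => rw [pow_succ, pow_succ, ih, sG_mul]

theorem det_sG (s : Fˣ) : Matrix.GeneralLinearGroup.det (sG s) = s * s := by
  ext; simp [sG]

/-! ### Fixed points -/

theorem Uom7_coords {u : GG} (hu : u ∈ Uom hC F 7) :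
    ∃ f : ℕ → F, u = prodX hC [6, 8, 9, 10, 11] f := by
  obtain ⟨f, hf⟩ := exists_prodX hC (Uom_le_U hC 7 hu)
  have e : chevG2.posRoots = [6, 7, 8, 9, 10, 11] := by decide +kernel
  have e' : u = xx 6 (f 6) * xx 7 (f 7) * (xx 8 (f 8) * (xx 9 (f 9) * (xx 10 (f 10) * xx 11 (f 11)))) := by
    rw [hf, e]; simp [prodX, mul_assoc]
  have h7 : xx 7 (f 7) ∈ Uom hC F 7 := by
    have e7 : xx 7 (f 7) = (xx 6 (f 6))⁻¹ * u *
        (xx 8 (f 8) * (xx 9 (f 9) * (xx 10 (f 10) * xx 11 (f 11))))⁻¹ := by rw [e']; group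
    rw [e7]
    exact mul_mem (mul_mem (inv_mem (xx_mem_Uom (by norm_num) (by norm_num) (by norm_num) _)) hu)
      (inv_mem (mul_mem (xx_mem_Uom (by norm_num) (by norm_num) (by norm_num) _)
        (mul_mem (xx_mem_Uom (by norm_num) (by norm_num) (by norm_num) _)
          (mul_mem (xx_mem_Uom (by norm_num) (by norm_num) (by norm_num) _)
            (xx_mem_Uom (by norm_num) (by norm_num) (by norm_num) _)))))
  have hn := (Subgroup.mem_normalizer_iff.1 (ng_normalizes_Uom (F := F) hC (i := 0) (by decide))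
    (xx 7 (f 7))).1 h7
  rw [ng_conj_x hC (by decide) (by decide)] at hn
  have h1 := U_inf_V hC (Uom_le_U hC _ hn)
    (xx_mem_V (show chevG2.reflectRoot 0 7 < 6 by decide +kernel) _)
  have h2 : xx 7 (f 7) = 1 := by
    have e2 := ng_conj_x (F := F) hC (i := 0) (r := 7) (by decide) (by decide) (f 7)
    rw [h1] at e2
    exact conj_eq_one_iff.1 e2
  refine ⟨f, ?_⟩
  rw [e', h2]
  simp [prodX]

/-- An element of the positive radical fixed by a scalar element lies in the highest root group. -/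
theorem fixed_top {s : Fˣ} (hs : (s : F) ≠ 1) {u : GG} (hu : u ∈ Uom hC F 7)
    (hc : tt s (s * s) * u * (tt s (s * s))⁻¹ = u) : ∃ c : F, u = xx 11 c := by
  obtain ⟨f, rfl⟩ := Uom7_coords hu
  have e : ∀ r : ℕ, r = 6 ∨ r = 8 ∨ r = 9 ∨ r = 10 → ∀ t : F,
      tt s (s * s) * xx r t * (tt s (s * s))⁻¹ = xx r ((s : F) * t) := by
    intro r hr t
    rw [tt_conj _ _ _ (by omega)]
    congr 2
    rcases hr with rfl | rfl | rfl | rfl
    · rw [show chevG2.cartan 0 6 = -3 from rfl, show chevG2.cartan 1 6 = 2 from rfl]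
      push_cast; field_simp
    · rw [show chevG2.cartan 0 8 = -1 from rfl, show chevG2.cartan 1 8 = 1 from rfl]
      push_cast; field_simp
    · rw [show chevG2.cartan 0 9 = 1 from rfl, show chevG2.cartan 1 9 = 0 from rfl]
      push_cast; simp
    · rw [show chevG2.cartan 0 10 = 3 from rfl, show chevG2.cartan 1 10 = -1 from rfl]
      push_cast; field_simp
  obtain ⟨χ, hχ⟩ : ∃ χ : F, ∀ t : F, tt s (s * s) * xx 11 t * (tt s (s * s))⁻¹ = xx 11 (χ * t) :=
    ⟨_, fun t => tt_conj _ _ _ (by norm_num) t⟩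
  have h' : tt s (s * s) * prodX hC [6, 8, 9, 10, 11] f * (tt s (s * s))⁻¹ =
      prodX hC [6, 8, 9, 10, 11] (fun r => if r = 11 then χ * f 11 else (s : F) * f r) := by
    simp only [prodX, List.map_cons, List.map_nil, List.prod_cons, List.prod_nil, mul_one]
    norm_num
    show _ = xx 6 ((s : F) * f 6) * (xx 8 ((s : F) * f 8) * (xx 9 ((s : F) * f 9) *
      (xx 10 ((s : F) * f 10) * xx 11 (χ * f 11))))
    rw [← e 6 (by norm_num), ← e 8 (by norm_num), ← e 9 (by norm_num), ← e 10 (by norm_num), ← hχ]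
    group
  rw [h'] at hc
  have hinj := prodX_inj hC (L := [6, 8, 9, 10, 11]) (by decide)
    (fun r hr => ⟨(show ∀ r ∈ [6, 8, 9, 10, 11], r < 12 by decide) r hr,
      (phi_pos r ((show ∀ r ∈ [6, 8, 9, 10, 11], r < 12 by decide) r hr)).2
        ((show ∀ r ∈ [6, 8, 9, 10, 11], 6 ≤ r by decide) r hr)⟩) hc
  have hz : ∀ r, r = 6 ∨ r = 8 ∨ r = 9 ∨ r = 10 → f r = 0 := by
    intro r hr
    have h := hinj r (by rcases hr with rfl | rfl | rfl | rfl <;> simp)
    rw [if_neg (by omega)] at h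
    have : ((s : F) - 1) * f r = 0 := by linear_combination h
    exact (mul_eq_zero.1 this).resolve_left (sub_ne_zero.2 hs)
  refine ⟨f 11, ?_⟩
  simp [prodX, hz 6, hz 8, hz 9, hz 10, xg_zero hC]

theorem xx_comm_of_nil {r s : ℕ} (hr : r < 12) (hs : s < 12) (h1 : s ≠ r) (h2 : s ≠ chevG2.neg r)
    (h : chevG2.commTerms r s = []) (t u : F) : Commute (xx r t) (xx s u) := by
  have := xg_comm hC hr hs h1 h2 t u
  simp only [ChevalleyDatum.commWord, h, List.map_nil, List.prod_nil, mul_one] at this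
  exact this.symm

theorem phi7_comm {r : ℕ} (hr : r = 0 ∨ r = 11) (N : Matrix.SpecialLinearGroup (Fin 2) F) (t : F) :
    Commute (xx r t) (phi 7 (by decide) N) := by
  have h := SL2.mem_of_generators
    (K := (Subgroup.centralizer {(xx r t : GG)}).comap (phi 7 (by decide))) ?_ ?_ N
  · exact (Subgroup.mem_centralizer_iff.1 h _ rfl)
  · intro a
    refine Subgroup.mem_centralizer_iff.2 fun y hy => ?_
    rw [Set.mem_singleton_iff.1 hy, phi_sx]
    rcases hr with rfl | rfl
    · exact (xx_comm_of_nil (by norm_num) (by norm_num) (by norm_num) (by decide) (by decide +kernel) t a).eq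
    · exact (xx_comm_of_nil (by norm_num) (by norm_num) (by norm_num) (by decide) (by decide +kernel) t a).eq
  · intro a
    refine Subgroup.mem_centralizer_iff.2 fun y hy => ?_
    rw [Set.mem_singleton_iff.1 hy, phi_sy, show chevG2.neg 7 = 4 from rfl]
    rcases hr with rfl | rfl
    · exact (xx_comm_of_nil (by norm_num) (by norm_num) (by norm_num) (by decide) (by decide +kernel) t a).eq
    · exact (xx_comm_of_nil (by norm_num) (by norm_num) (by norm_num) (by decide) (by decide +kernel) t a).eq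

theorem Lev_conj_top (N : GL (Fin 2) F) (c : F) :
    Lev N * xx 11 c * (Lev N)⁻¹ = (xx 11 ((Matrix.GeneralLinearGroup.det N : F) * c) : GG) := by
  show phi 7 _ (unim N) * tt _ _ * _ * (phi 7 _ (unim N) * tt _ _)⁻¹ = _
  have e := tt_conj (Matrix.GeneralLinearGroup.det N) (Matrix.GeneralLinearGroup.det N) 11
    (by norm_num) c
  rw [show chevG2.cartan 0 11 = 0 from rfl, show chevG2.cartan 1 11 = 1 from rfl, zpow_zero, zpow_one,
    one_mul] at e
  rw [mul_inv_rev, show ∀ a b y : GG, a * b * y * (b⁻¹ * a⁻¹) = a * (b * y * b⁻¹) * a⁻¹ from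
    fun a b y => by group, e, ← (phi7_comm (Or.inr rfl) (unim N) _).eq, mul_inv_cancel_right]

theorem Lev_conj_bot (N : GL (Fin 2) F) (c : F) :
    Lev N * xx 0 c * (Lev N)⁻¹ = (xx 0 ((Matrix.GeneralLinearGroup.det N : F)⁻¹ * c) : GG) := by
  show phi 7 _ (unim N) * tt _ _ * _ * (phi 7 _ (unim N) * tt _ _)⁻¹ = _
  have e := tt_conj (Matrix.GeneralLinearGroup.det N) (Matrix.GeneralLinearGroup.det N) 0
    (by norm_num) c
  rw [show chevG2.cartan 0 0 = 0 from rfl, show chevG2.cartan 1 0 = -1 from rfl, zpow_zero,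
    zpow_neg_one, one_mul, Units.val_inv_eq_inv_val] at e
  rw [mul_inv_rev, show ∀ a b y : GG, a * b * y * (b⁻¹ * a⁻¹) = a * (b * y * b⁻¹) * a⁻¹ from
    fun a b y => by group, e, ← (phi7_comm (Or.inl rfl) (unim N) _).eq, mul_inv_cancel_right]

/-- Elements of the Levi factor with a regular central power. -/
def Tw (N : GL (Fin 2) F) : Prop :=
  ∃ (k : ℕ) (s : Fˣ), N ^ k = sG s ∧ (s : F) ≠ 1 ∧ (Matrix.GeneralLinearGroup.det N : F) ≠ 1

theorem fixed_up {N : GL (Fin 2) F} (hN : Tw N) {u : GG} (hu : u ∈ Uom hC F 7)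
    (hc : Lev N * u = u * Lev N) : u = 1 := by
  obtain ⟨k, s, hk, hs, hd⟩ := hN
  have hz : Commute (tt s (s * s)) u := by
    rw [← Lev_sG, ← hk, map_pow]; exact Commute.pow_left hc k
  obtain ⟨c, rfl⟩ := fixed_top hs hu (mul_inv_eq_iff_eq_mul.2 hz.eq)
  have h := Lev_conj_top N c
  rw [mul_inv_eq_iff_eq_mul.2 hc] at h
  have h' := prodX_inj hC (L := [11]) (by simp) (fun r hr => by
    rw [List.mem_singleton] at hr; subst hr; exact ⟨by decide, (phi_pos 11 (by norm_num)).2 (by norm_num)⟩)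
    (t := fun _ => c) (t' := fun _ => (Matrix.GeneralLinearGroup.det N : F) * c)
    (by simpa [prodX] using h) 11 (by simp)
  have : ((Matrix.GeneralLinearGroup.det N : F) - 1) * c = 0 := by linear_combination -h'
  rw [(mul_eq_zero.1 this).resolve_left (sub_ne_zero.2 hd), xx_zero]

theorem fixed_dn {N : GL (Fin 2) F} (hN : Tw N) {v : GG} (hv : v ∈ Vm F 7)
    (hc : Lev N * v = v * Lev N) : v = 1 := by
  obtain ⟨k, s, hk, hs, hd⟩ := hN
  obtain ⟨u, hu, rfl⟩ := hv
  have hz : Commute (tt s (s * s)) (om u) := by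
    rw [← Lev_sG, ← hk, map_pow]; exact Commute.pow_left hc k
  have hz' : Commute (tt s (s * s)) u := by
    have h1 : Commute (om (tt s (s * s))⁻¹) (om u) := by
      rw [map_inv, om_tt, inv_inv]; exact hz
    have h2 := h1.map (om (F := F)).symm.toMonoidHom
    simp at h2
    exact h2
  obtain ⟨c, rfl⟩ := fixed_top hs hu (mul_inv_eq_iff_eq_mul.2 hz'.eq)
  obtain ⟨η, hη, e⟩ := om_xx (F := F) (r := 11) (by norm_num)
  have he : (om (F := F)).toMonoidHom (xx 11 c) = xx 0 (η * c) := e c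
  rw [he] at hc ⊢
  have h := Lev_conj_bot N (η * c)
  rw [mul_inv_eq_iff_eq_mul.2 hc] at h
  obtain ⟨η', hη', e'⟩ := om_xx (F := F) (r := 0) (by norm_num)
  have h2 := congrArg (om (F := F)) h
  rw [e', e'] at h2
  have h' := prodX_inj hC (L := [11]) (by simp) (fun r hr => by
    rw [List.mem_singleton] at hr; subst hr; exact ⟨by decide, (phi_pos 11 (by norm_num)).2 (by norm_num)⟩)
    (t := fun _ => η' * (η * c))
    (t' := fun _ => η' * ((Matrix.GeneralLinearGroup.det N : F)⁻¹ * (η * c)))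
    (by simpa [prodX, show chevG2.neg 0 = 11 from rfl] using h2) 11 (by simp)
  have : η' * η * ((Matrix.GeneralLinearGroup.det N : F)⁻¹ - 1) * c = 0 := by linear_combination -h'
  have hc0 : c = 0 := (mul_eq_zero.1 this).resolve_left
    (mul_ne_zero (mul_ne_zero hη' hη) (sub_ne_zero.2 fun h => hd (inv_eq_one.1 h)))
  rw [hc0, mul_zero, xx_zero]

/-! ### Twisting -/

theorem twist_bij {G : Type*} [Group G] {U : Subgroup G} [Finite U] {z : G}
    (hn : ∀ u ∈ U, z * u * z⁻¹ ∈ U) (hc : ∀ u ∈ U, z * u = u * z → u = 1) {u : G} (hu : u ∈ U) :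
    ∃ w ∈ U, u * z = w * z * w⁻¹ := by
  let f : U → U := fun w => ⟨w * (z * (w : G)⁻¹ * z⁻¹), mul_mem w.2 (hn _ (inv_mem w.2))⟩
  have hinj : Function.Injective f := by
    intro a b hab
    have h : (a : G) * (z * (a : G)⁻¹ * z⁻¹) = (b : G) * (z * (b : G)⁻¹ * z⁻¹) :=
      congrArg Subtype.val hab
    have h' : (a : G) * z * (a : G)⁻¹ = (b : G) * z * (b : G)⁻¹ :=
      mul_right_cancel (b := z⁻¹) (by simpa [mul_assoc] using h)
    have h1 := hc _ (mul_mem (inv_mem b.2) a.2) (by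
      calc z * ((b : G)⁻¹ * a) = (b : G)⁻¹ * ((b : G) * z * (b : G)⁻¹) * a := by group
        _ = _ := by rw [← h']; group)
    exact Subtype.ext (inv_mul_eq_one.1 h1).symm
  obtain ⟨w, hw⟩ := (Finite.injective_iff_surjective.1 hinj) ⟨u, hu⟩
  have h : (w : G) * (z * (w : G)⁻¹ * z⁻¹) = u := congrArg Subtype.val hw
  exact ⟨w, w.2, by rw [← h]; group⟩

theorem Uom_le_group (p : ℕ) : Uom hC F p ≤ chevG2.group F :=
  (Uom_le_U hC p).trans (le_sup_left.trans (U_sup_V hC).le)

theorem Vm_le_group (p : ℕ) : Vm F p ≤ chevG2.group F :=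
  (Vm_le_V p).trans (le_sup_right.trans (U_sup_V hC).le)

theorem twist_dn [Finite F] {N : GL (Fin 2) F} (hN : Tw N) {v : GG} (hv : v ∈ Vm F 7) :
    ∃ a ∈ chevG2.group F, v * Lev N = a * Lev N * a⁻¹ := by
  obtain ⟨w, hw, e⟩ := twist_bij (z := Lev N) (fun u hu => Lev_conj_Vm N hu)
    (fun u hu h => fixed_dn hN hu h) hv
  exact ⟨w, Vm_le_group 7 hw, e⟩

theorem twist_up [Finite F] {N : GL (Fin 2) F} (hN : Tw N) {u : GG} (hu : u ∈ Uom hC F 7) :
    ∃ a ∈ chevG2.group F, Lev N * u = a * Lev N * a⁻¹ := by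
  obtain ⟨w, hw, e⟩ := twist_bij (z := Lev N) (fun u hu => Lev_conj_Uom N hu)
    (fun u hu h => fixed_up hN hu h) hu
  refine ⟨Lev N * w, mul_mem (Lev_mem N) (Uom_le_group 7 hw), ?_⟩
  calc Lev N * u = Lev N * (u * Lev N) * (Lev N)⁻¹ := by group
    _ = _ := by rw [e]; group

/-! ### The class -/

variable {δ t : F}

/-- The companion matrix as an invertible matrix. -/
def cG (hg : Good δ t) : GL (Fin 2) F :=
  Matrix.GeneralLinearGroup.mkOfDetNeZero (cA δ t) (by simp [cA, hg.d0])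

theorem coe_cG (hg : Good δ t) : ((cG hg : GL (Fin 2) F) : M2) = cA δ t := rfl

theorem cG_pow [Fintype F] (hg : Good δ t) (he : NoRoot δ t) :
    cG hg ^ (Fintype.card F + 1) = sG (Units.mk0 δ hg.d0) := by
  apply Units.ext
  rw [Units.val_pow_eq_pow_val, coe_cG, coe_sG, cA_pow he]
  rfl

theorem det_cG (hg : Good δ t) : (Matrix.GeneralLinearGroup.det (cG hg) : F) = δ := by
  simp [coe_cG, cA]

/-- The semisimple element. -/
noncomputable def xel (hg : Good δ t) : GL chevG2.Idx F := Lev (cG hg)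

theorem xel_pow [Fintype F] (hg : Good δ t) (he : NoRoot δ t) :
    (xel hg : GG) ^ ((Fintype.card F + 1) * (Fintype.card F - 1)) = 1 := by
  rw [xel, ← map_pow, pow_mul, cG_pow hg he, sG_pow]
  have : Units.mk0 δ hg.d0 ^ (Fintype.card F - 1) = 1 := by
    ext
    simp [FiniteField.pow_card_sub_one_eq_one δ hg.d0]
  rw [this, Lev_sG, mul_one, tt_one]

/-- Being conjugate to the semisimple element. -/
def Cj (hg : Good δ t) (g : GG) : Prop := ∃ a ∈ chevG2.group F, g = a * xel hg * a⁻¹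

/-- Being a product of two conjugates. -/
def Cov (hg : Good δ t) (g : GG) : Prop := ∃ b c, Cj hg b ∧ Cj hg c ∧ g = b * c

theorem Cj.conj {hg : Good δ t} {g : GG} (h : Cj hg g) {a : GG} (ha : a ∈ chevG2.group F) :
    Cj hg (a * g * a⁻¹) := by
  obtain ⟨b, hb, rfl⟩ := h
  exact ⟨a * b, mul_mem ha hb, by group⟩

theorem Cov.conj {hg : Good δ t} {g : GG} (h : Cov hg g) {a : GG} (ha : a ∈ chevG2.group F) :
    Cov hg (a * g * a⁻¹) := by
  obtain ⟨b, c, hb, hc, rfl⟩ := h
  exact ⟨_, _, hb.conj ha, hc.conj ha, by group⟩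

theorem n11_conj_Lev (M : GL (Fin 2) F) :
    ng hC 11 1 * Lev M * (ng hC 11 (1 : F))⁻¹ =
      (Lev (sG (Matrix.GeneralLinearGroup.det M)⁻¹ * M) : GG) := by
  show ng hC 11 1 * (phi 7 _ (unim M) * tt _ _) * _ = _
  obtain ⟨d, hd⟩ : ∃ d, d = Matrix.GeneralLinearGroup.det M := ⟨_, rfl⟩
  rw [← hd]
  have hcomm : Commute (ng hC 11 (1 : F)) (phi 7 (by decide) (unim M)) := by
    rw [ng, show chevG2.neg 11 = 0 from rfl]
    exact ((phi7_comm (Or.inr rfl) _ _).mul_left (phi7_comm (Or.inl rfl) _ _)).mul_left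
      (phi7_comm (Or.inr rfl) _ _)
  have e1 : tt d d * ng hC 11 (1 : F) * (tt d d : GG)⁻¹ = hg hC 11 (d : F) * ng hC 11 1 := by
    rw [← ng_eq_hg_mul, ng, ng, show chevG2.neg 11 = 0 from rfl]
    have h11 := tt_conj (F := F) d d 11 (by norm_num)
    have h0 := tt_conj (F := F) d d 0 (by norm_num)
    rw [show chevG2.cartan 0 11 = 0 from rfl, show chevG2.cartan 1 11 = 1 from rfl, zpow_zero,
      zpow_one, one_mul] at h11
    rw [show chevG2.cartan 0 0 = 0 from rfl, show chevG2.cartan 1 0 = -1 from rfl, zpow_zero,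
      zpow_neg_one, one_mul, Units.val_inv_eq_inv_val] at h0
    have k1 : xx 11 (d : F) = tt d d * xx 11 1 * (tt d d : GG)⁻¹ := by rw [h11, mul_one]
    have k0 : xx 0 (-(d : F)⁻¹) = tt d d * xx 0 (-(1 : F)⁻¹) * (tt d d : GG)⁻¹ := by
      rw [h0, inv_one, mul_neg, mul_one]
    show _ = xx 11 (d : F) * xx 0 (-(d : F)⁻¹) * xx 11 (d : F)
    rw [k1, k0]
    group
  have e2 : ng hC 11 (1 : F) * tt d d * (ng hC 11 (1 : F))⁻¹ =
      tt d d * (hg hC 11 (d : F))⁻¹ := by
    have k : tt d d * ng hC 11 (1 : F) = hg hC 11 (d : F) * ng hC 11 1 * tt d d := by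
      rw [← e1, inv_mul_cancel_right]
    have hc : (hg hC 11 (d : F))⁻¹ * tt d d = tt d d * (hg hC 11 (d : F))⁻¹ := by
      rw [hg11, tt_inv, tt_mul, tt_mul, mul_comm d⁻¹ d, mul_comm (d * d)⁻¹ d]
    rw [← hc]
    calc _ = (hg hC 11 (d : F))⁻¹ * (hg hC 11 (d : F) * ng hC 11 1 * tt d d) * (ng hC 11 (1 : F))⁻¹ := by
          group
      _ = _ := by rw [← k]; group
  rw [sG_comm, map_mul, Lev_sG, show ∀ a b n : GG, n * (a * b) * n⁻¹ = n * a * n⁻¹ * (n * b * n⁻¹) from
    fun a b n => by group, hcomm.eq, mul_inv_cancel_right, e2, hg11, tt_inv, ← mul_assoc,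
    show (Lev M : GG) = phi 7 (by decide) (unim M) * tt d d by rw [hd]; rfl]
  congr 1

/-- The blocks covered by products. -/
def Ok (δ : F) (l : GL (Fin 2) F) : Prop :=
  IsTarget δ (l : M2) ∨ IsTarget δ (δ • (l : M2))

theorem cov_tri [Fintype F] (hg : Good δ t) (he : NoRoot δ t) {v u : GG} (hv : v ∈ Vm F 7)
    (hu : u ∈ Uom hC F 7) {l : GL (Fin 2) F} (hl : Ok δ l) : Cov hg (v * Lev l * u) := by
  obtain ⟨D, hD⟩ : ∃ D : Fˣ, D = Units.mk0 δ hg.d0 := ⟨_, rfl⟩
  have hDv : (D : F) = δ := by rw [hD]; rfl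
  have hconj : ∀ P : GL (Fin 2) F, (P * cG hg * P⁻¹) ^ (Fintype.card F + 1) = sG D ∧
      (Matrix.GeneralLinearGroup.det (P * cG hg * P⁻¹) : F) = δ := by
    intro P
    refine ⟨?_, ?_⟩
    · rw [conj_pow, cG_pow hg he, ← sG_comm, ← hD, mul_inv_cancel_right]
    · rw [map_mul, map_mul, map_inv, mul_inv_cancel_comm, det_cG]
  have hA : ∀ P : GL (Fin 2) F, Tw (P * cG hg * P⁻¹) ∧ Cj hg (Lev (P * cG hg * P⁻¹)) := by
    intro P
    refine ⟨⟨_, D, (hconj P).1, by rw [hDv]; exact hg.d1, by rw [(hconj P).2]; exact hg.d1⟩,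
      Lev P, Lev_mem P, ?_⟩
    rw [xel, map_mul, map_mul, map_inv]
  have hB : ∀ P : GL (Fin 2) F, Tw (sG D⁻¹ * (P * cG hg * P⁻¹)) ∧
      Cj hg (Lev (sG D⁻¹ * (P * cG hg * P⁻¹))) := by
    intro P
    obtain ⟨hp, hd⟩ := hconj P
    refine ⟨⟨Fintype.card F + 1, D⁻¹ ^ (Fintype.card F + 1) * D, ?_, ?_, ?_⟩, ?_⟩
    · rw [(show Commute (sG D⁻¹) (P * cG hg * P⁻¹) from sG_comm _ _).mul_pow, sG_pow, hp, sG_mul]
    · have := hg.d0
      rw [Units.val_mul, Units.val_pow_eq_pow_val, Units.val_inv_eq_inv_val, hDv, pow_succ,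
        FiniteField.pow_card]
      intro h
      apply hg.d1
      field_simp at h
      linear_combination -h
    · rw [map_mul, Units.val_mul, det_sG, Units.val_mul, hd, Units.val_inv_eq_inv_val, hDv]
      intro h
      apply hg.d1
      have := hg.d0
      field_simp at h
      linear_combination -h
    · have hd' : Matrix.GeneralLinearGroup.det (P * cG hg * P⁻¹) = D :=
        Units.ext (by rw [hd, hDv])
      rw [← hd', ← n11_conj_Lev]
      exact (hA P).2.conj (ng_mem_group hC (show 11 < chevG2.nroots by decide) _)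
  obtain ⟨M, N, hlMN, ⟨hTM, hCM⟩, hTN, hCN⟩ : ∃ M N : GL (Fin 2) F, l = M * N ∧
      (Tw M ∧ Cj hg (Lev M)) ∧ Tw N ∧ Cj hg (Lev N) := by
    rcases hl with h | h
    · obtain ⟨P, Q, hPQ⟩ := isTarget_factor hg h
      exact ⟨P * cG hg * P⁻¹, Q * cG hg * Q⁻¹, Units.ext hPQ, hA P, hA Q⟩
    · obtain ⟨P, Q, hPQ⟩ := isTarget_factor hg h
      refine ⟨P * cG hg * P⁻¹, sG D⁻¹ * (Q * cG hg * Q⁻¹), ?_, hA P, hB Q⟩
      apply Units.ext
      rw [Units.val_mul _ (sG D⁻¹ * _), Units.val_mul (sG D⁻¹), coe_sG, Matrix.smul_mul,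
        Matrix.one_mul, Matrix.mul_smul, Units.val_inv_eq_inv_val, hDv]
      simp only [Units.val_mul, coe_cG]
      rw [← hPQ, smul_smul, inv_mul_cancel₀ hg.d0, one_smul]
  obtain ⟨a, ha, ea⟩ := twist_dn hTM hv
  obtain ⟨b, hb, eb⟩ := twist_up hTN hu
  refine ⟨v * Lev M, Lev N * u, ea ▸ hCM.conj ha, eb ▸ hCN.conj hb, ?_⟩
  rw [hlMN, map_mul]
  group

end Cfsg.Agent.Involutions.ClassSquare.G2
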