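import Mathlib

/-!
Products of two matrices similar to a fixed companion matrix `!![0, -δ; 1, t]`.
-/

set_option autoImplicit false

namespace Cfsg.Agent.Involutions.ClassSquare

open Matrix

variable {F : Type*} [Field F]

/-- The parameters of a regular semisimple `2 × 2` matrix with no fixed symmetric form. -/
structure Good (δ t : F) : Prop where
  d0 : δ ≠ 0
  d1 : δ ≠ 1
  t0 : t ≠ 0
  tp : t ≠ δ + 1
  tm : t ≠ -(δ + 1)
  disc : t * t ≠ 4 * δ

/-- The companion matrix of `X² - tX + δ`. -/
def cA (δ t : F) : Matrix (Fin 2) (Fin 2) F := !![0, -δ; 1, t]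

theorem exists_good [Fintype F] (h3 : 3 ≤ Fintype.card F) : ∃ δ t : F, Good δ t := by
  classical
  by_cases h2 : (2 : F) = 0
  · have hq4 : 4 ≤ Fintype.card F := by
      have h : ringChar F = 2 :=
        (CharP.ringChar_of_prime_eq_zero Nat.prime_two (by exact_mod_cast h2))
      have := (FiniteField.even_card_iff_char_two (F := F)).1 h
      omega
    obtain ⟨δ, hδ⟩ := Finset.exists_mem_notMem_of_card_lt_card (s := ({0, 1} : Finset F))
      (t := Finset.univ) (lt_of_le_of_lt Finset.card_le_two (by rw [Finset.card_univ]; omega))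
    simp only [Finset.mem_univ, Finset.mem_insert, Finset.mem_singleton, not_or, true_and] at hδ
    obtain ⟨t, ht⟩ := Finset.exists_mem_notMem_of_card_lt_card (s := ({0, δ + 1} : Finset F))
      (t := Finset.univ) (lt_of_le_of_lt Finset.card_le_two (by rw [Finset.card_univ]; omega))
    simp only [Finset.mem_univ, Finset.mem_insert, Finset.mem_singleton, not_or, true_and] at ht
    refine ⟨δ, t, hδ.1, hδ.2, ht.1, ht.2, fun h => ht.2 ?_, fun h => ht.1 ?_⟩
    · linear_combination h + (-(δ + 1)) * h2
    · exact mul_self_eq_zero.1 (by linear_combination h + 2 * δ * h2)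
  · by_cases h5 : (5 : F) = 0
    · refine ⟨-1, 2, neg_ne_zero.2 one_ne_zero, fun h => h2 (by linear_combination -h), h2,
        fun h => h2 (by linear_combination h), fun h => h2 (by linear_combination h),
        fun h => h2 ?_⟩
      have h8 : (8 : F) = 0 := by linear_combination h
      exact (mul_eq_zero.1 (show (2 : F) * 4 = 0 by linear_combination h8)).elim id
        fun h4 => mul_self_eq_zero.1 (show (2 : F) * 2 = 0 by linear_combination h4)
    · refine ⟨-1, 1, neg_ne_zero.2 one_ne_zero, fun h => h2 (by linear_combination -h),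
        one_ne_zero, fun h => one_ne_zero (by linear_combination h),
        fun h => one_ne_zero (by linear_combination h), fun h => h5 (by linear_combination h)⟩

/-- A conic met in the product of two classes has a point. -/
theorem conic_point [Fintype F] {δ t T : F} (hg : Good δ t) (hT : T ≠ 2 * δ) :
    ∃ a c : F, a * (t - a) - (c * (δ * δ) + a * T - t * δ) * c = δ := by
  classical
  by_cases h2 : (2 : F) = 0
  · have hT0 : T ≠ 0 := fun h => hT (by rw [h, h2, zero_mul])
    have h : ringChar F = 2 :=
      (CharP.ringChar_of_prime_eq_zero Nat.prime_two (by exact_mod_cast h2))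
    obtain ⟨c, hc⟩ : ∃ c, T * c = t := ⟨t / T, by field_simp⟩
    obtain ⟨a, ha⟩ := FiniteField.isSquare_of_char_two h (-(δ * δ * c * c) + t * δ * c - δ)
    exact ⟨a, c, by linear_combination ha - a * hc⟩
  · have hodd : Fintype.card F % 2 = 1 := by
      refine Nat.mod_two_ne_zero.1 fun h => h2 ?_
      have hp := (FiniteField.even_card_iff_char_two (F := F)).2 h
      have := ringChar.Nat.cast_ringChar (R := F)
      rw [hp] at this
      exact_mod_cast this
    by_cases hΔ : T * T = 4 * (δ * δ)
    · have hT' : T = -(2 * δ) := by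
        rcases mul_eq_zero.1 (show (T - 2 * δ) * (T + 2 * δ) = 0 by linear_combination hΔ) with h | h
        · exact absurd (sub_eq_zero.1 h) hT
        · exact eq_neg_of_add_eq_zero_left h
      refine ⟨δ / (2 * t), 1 / (2 * t), ?_⟩
      have := hg.t0
      rw [hT']
      field_simp
      ring
    · have h4 : (4 : F) ≠ 0 := by
        rw [show (4 : F) = 2 * 2 by norm_num]; exact mul_ne_zero h2 h2
      obtain ⟨z, c, hzc⟩ := FiniteField.exists_root_sum_quadratic
        (f := (Polynomial.X ^ 2 : Polynomial F))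
        (g := Polynomial.C (-((T * T - 4 * (δ * δ)) / 4)) * Polynomial.X ^ 2 +
          Polynomial.C (t * T / 2 - t * δ) * Polynomial.X + Polynomial.C (δ - t * t / 4))
        (Polynomial.degree_X_pow 2)
        (Polynomial.degree_quadratic (neg_ne_zero.2 (div_ne_zero (sub_ne_zero.2 hΔ) h4))) hodd
      refine ⟨z + (t - T * c) / 2, c, ?_⟩
      simp only [Polynomial.eval_add, Polynomial.eval_mul, Polynomial.eval_pow, Polynomial.eval_C,
        Polynomial.eval_X] at hzc
      have key : (z + (t - T * c) / 2) * (t - (z + (t - T * c) / 2)) -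
          (c * (δ * δ) + (z + (t - T * c) / 2) * T - t * δ) * c - δ =
          -(z ^ 2 + (-((T * T - 4 * (δ * δ)) / 4) * c ^ 2 + (t * T / 2 - t * δ) * c +
            (δ - t * t / 4))) := by
        field_simp
        ring
      rw [hzc, neg_zero] at key
      exact sub_eq_zero.1 key

/-- A matrix with the trace and the determinant of `cA δ t` is similar to it. -/
theorem sim_cA {δ t : F} (hg : Good δ t) {M : Matrix (Fin 2) (Fin 2) F} (ht : M.trace = t)
    (hd : M.det = δ) :
    ∃ P : GL (Fin 2) F, M = (P : Matrix (Fin 2) (Fin 2) F) * cA δ t *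
      ((P⁻¹ : GL (Fin 2) F) : Matrix (Fin 2) (Fin 2) F) := by
  rw [trace_fin_two] at ht
  rw [det_fin_two] at hd
  obtain ⟨x, y, hxy⟩ : ∃ x y : F,
      x * (M 1 0 * x + M 1 1 * y) - (M 0 0 * x + M 0 1 * y) * y ≠ 0 := by
    by_cases h10 : M 1 0 = 0
    · by_cases h01 : M 0 1 = 0
      · refine ⟨1, 1, fun h => hg.disc ?_⟩
        rw [h10, h01] at h hd
        linear_combination 4 * hd + (M 1 1 - M 0 0) * h - (t + M 0 0 + M 1 1) * ht
      · exact ⟨0, 1, by simpa using h01⟩
    · exact ⟨1, 0, by simpa using h10⟩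
  set P : Matrix (Fin 2) (Fin 2) F :=
    !![x, M 0 0 * x + M 0 1 * y; y, M 1 0 * x + M 1 1 * y] with hP
  have hdet : P.det ≠ 0 := by rw [hP, det_fin_two_of]; exact hxy
  set u := Matrix.GeneralLinearGroup.mkOfDetNeZero P hdet with hu
  refine ⟨u, ?_⟩
  have e : M * P = P * cA δ t := by
    ext i j
    fin_cases i <;> fin_cases j
    · simp [hP, cA, mul_apply, Fin.sum_univ_two]
    · simp [hP, cA, mul_apply, Fin.sum_univ_two]
      linear_combination (-(x)) * hd + (M 0 0 * x + M 0 1 * y) * ht
    · simp [hP, cA, mul_apply, Fin.sum_univ_two]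
    · simp [hP, cA, mul_apply, Fin.sum_univ_two]
      linear_combination (-(y)) * hd + (M 1 0 * x + M 1 1 * y) * ht
  calc M = M * (u : Matrix (Fin 2) (Fin 2) F) * (u⁻¹ : GL (Fin 2) F) := by
        rw [Matrix.mul_assoc, Units.mul_inv, Matrix.mul_one]
    _ = _ := by
      have hc : (u : Matrix (Fin 2) (Fin 2) F) = P := rfl
      rw [hc, e]

/-- The diagonal blocks that are products of two matrices similar to `cA δ t`. -/
def IsTarget (δ : F) (x : Matrix (Fin 2) (Fin 2) F) : Prop :=
  (x.det = δ * δ ∧ x.trace ≠ 2 * δ ∧ ∀ s : F, x ≠ scalar (Fin 2) s) ∨ x = scalar (Fin 2) δ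

theorem isTarget_factor [Fintype F] {δ t : F} (hg : Good δ t) {x : Matrix (Fin 2) (Fin 2) F}
    (hx : IsTarget δ x) :
    ∃ P Q : GL (Fin 2) F, x =
      ((P : Matrix (Fin 2) (Fin 2) F) * cA δ t * (P⁻¹ : GL (Fin 2) F)) *
      ((Q : Matrix (Fin 2) (Fin 2) F) * cA δ t * (Q⁻¹ : GL (Fin 2) F)) := by
  rcases hx with ⟨hd, hT, hs⟩ | hx
  · -- bring `x` to companion form
    rw [det_fin_two] at hd
    set T := x.trace with hTdef
    rw [trace_fin_two] at hTdef
    obtain ⟨a, c, hac⟩ := conic_point hg hT
    obtain ⟨v, w, hvw⟩ : ∃ v w : F,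
        v * (x 1 0 * v + x 1 1 * w) - (x 0 0 * v + x 0 1 * w) * w ≠ 0 := by
      by_cases h10 : x 1 0 = 0
      · by_cases h01 : x 0 1 = 0
        · refine ⟨1, 1, fun h => hs (x 0 0) ?_⟩
          rw [h10, h01] at h
          ext i j
          fin_cases i <;> fin_cases j
          · simp
          · simp [h01]
          · simp [h10]
          · simp; linear_combination h
        · exact ⟨0, 1, by simpa using h01⟩
      · exact ⟨1, 0, by simpa using h10⟩
    set R : Matrix (Fin 2) (Fin 2) F :=
      !![v, x 0 0 * v + x 0 1 * w; w, x 1 0 * v + x 1 1 * w] with hR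
    have hRdet : R.det ≠ 0 := by rw [hR, det_fin_two_of]; exact hvw
    set u := Matrix.GeneralLinearGroup.mkOfDetNeZero R hRdet with hu
    have huR : (u : Matrix (Fin 2) (Fin 2) F) = R := rfl
    have e : x * R = R * !![0, -(δ * δ); 1, T] := by
      ext i j
      fin_cases i <;> fin_cases j
      · simp [hR, mul_apply, Fin.sum_univ_two]
      · simp [hR, mul_apply, Fin.sum_univ_two]
        linear_combination (-(v)) * hd - (x 0 0 * v + x 0 1 * w) * hTdef
      · simp [hR, mul_apply, Fin.sum_univ_two]
      · simp [hR, mul_apply, Fin.sum_univ_two]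
        linear_combination (-(w)) * hd - (x 1 0 * v + x 1 1 * w) * hTdef
    set M : Matrix (Fin 2) (Fin 2) F := !![a, c * (δ * δ) + a * T - t * δ; c, t - a] with hM
    set N : Matrix (Fin 2) (Fin 2) F := δ⁻¹ • (!![t - a, -(c * (δ * δ) + a * T - t * δ); -c, a] *
      !![0, -(δ * δ); 1, T]) with hN
    have hMN : M * N = !![0, -(δ * δ); 1, T] := by
      rw [hN, Matrix.mul_smul, ← Matrix.mul_assoc]
      have hMa : M * !![t - a, -(c * (δ * δ) + a * T - t * δ); -c, a] = δ • 1 := by
        rw [hM]
        ext i j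
        fin_cases i <;> fin_cases j <;> simp [mul_apply, Fin.sum_univ_two] <;>
          first | linear_combination hac | linear_combination (0 : F) * hac
      rw [hMa, Matrix.smul_mul, Matrix.one_mul, smul_smul, inv_mul_cancel₀ hg.d0, one_smul]
    have hMd : M.det = δ := by
      rw [hM, det_fin_two_of]; linear_combination hac
    have hNt : N.trace = t := by
      have := hg.d0
      rw [hN, trace_smul, trace_fin_two, smul_eq_mul]
      simp [mul_apply, Fin.sum_univ_two]
      field_simp
    have hNd : N.det = δ := by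
      have h := congrArg Matrix.det hMN
      rw [det_mul, hMd, det_fin_two_of] at h
      exact mul_left_cancel₀ hg.d0 (by linear_combination h)
    obtain ⟨P, hP⟩ := sim_cA hg (show M.trace = t by rw [hM, trace_fin_two]; simp) hMd
    obtain ⟨Q, hQ⟩ := sim_cA hg hNt hNd
    refine ⟨u * P, u * Q, ?_⟩
    calc x = x * R * (u⁻¹ : GL (Fin 2) F) := by
          rw [Matrix.mul_assoc, ← huR, Units.mul_inv, Matrix.mul_one]
      _ = R * (M * N) * (u⁻¹ : GL (Fin 2) F) := by rw [e, hMN]
      _ = _ := by
        rw [hP, hQ, ← huR]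
        simp only [Units.val_mul, _root_.mul_inv_rev, Matrix.mul_assoc]
        simp only [Units.inv_mul_cancel_left]
  · have hA : (cA δ t).det = δ := by simp [cA, det_fin_two_of]
    set N : Matrix (Fin 2) (Fin 2) F := !![t, δ; -1, 0] with hN
    obtain ⟨Q, hQ⟩ := sim_cA hg (M := N) (by rw [hN, trace_fin_two]; simp)
      (by rw [hN, det_fin_two_of]; ring)
    refine ⟨1, Q, ?_⟩
    rw [← hQ, inv_one, Units.val_one, Matrix.mul_one, Matrix.one_mul, hx, hN, cA]
    ext i j
    fin_cases i <;> fin_cases j <;> simp [mul_apply, Fin.sum_univ_two] <;> ring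

/-- A power of the companion matrix with unipotent value is trivial. -/
theorem cA_pow_eq_one_of_nilpotent {δ t : F} (hg : Good δ t) (p : ℕ) [Fact p.Prime] [CharP F p]
    (k : ℕ) (h : (cA δ t) ^ (p * k) = 1) : (cA δ t) ^ k = 1 := by
  obtain ⟨α, β, hαβ⟩ : ∃ α β : F, (cA δ t) ^ k = α • cA δ t + β • 1 := by
    clear h
    induction k with
    | zero => exact ⟨0, 1, by simp⟩
    | succ k ih =>
      obtain ⟨α, β, hk⟩ := ih
      refine ⟨α * t + β, -(α * δ), ?_⟩
      rw [pow_succ, hk]
      ext i j
      fin_cases i <;> fin_cases j <;> simp [cA, mul_apply, Fin.sum_univ_two] <;> ring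
  have hnil : IsNilpotent (α • cA δ t + (β - 1) • (1 : Matrix (Fin 2) (Fin 2) F)) := by
    refine ⟨p, ?_⟩
    have e : α • cA δ t + (β - 1) • (1 : Matrix (Fin 2) (Fin 2) F) = (cA δ t) ^ k - 1 := by
      rw [hαβ, sub_smul, one_smul]; abel
    rw [e, sub_pow_char_of_commute p (Commute.one_right _), one_pow, ← pow_mul, mul_comm, h,
      sub_self]
  have htr := (Matrix.isNilpotent_trace_of_isNilpotent hnil).eq_zero
  have hdet : (α • cA δ t + (β - 1) • (1 : Matrix (Fin 2) (Fin 2) F)).det = 0 := by
    obtain ⟨n, hn⟩ := hnil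
    have := congrArg Matrix.det hn
    rw [det_pow, det_zero] at this
    exact (pow_eq_zero_iff'.1 this).1
  rw [trace_fin_two] at htr
  rw [det_fin_two] at hdet
  simp [cA] at htr hdet
  have hα : α = 0 := by
    have : α * α * (4 * δ - t * t) = 0 := by
      linear_combination 4 * hdet - (α * t + (β - 1) + (β - 1)) * htr
    rcases mul_eq_zero.1 this with h' | h'
    · exact mul_self_eq_zero.1 h'
    · exact absurd (sub_eq_zero.1 h').symm hg.disc
  have hβ : β = 1 := by
    have : (β - 1) * (β - 1) = 0 := by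
      rw [hα] at hdet; linear_combination hdet
    exact sub_eq_zero.1 (mul_self_eq_zero.1 this)
  rw [hαβ, hα, hβ, zero_smul, one_smul, zero_add]

end Cfsg.Agent.Involutions.ClassSquare
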