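import Mathlib
import Cfsg.Agent.Lib.Involutions.ClassSquare.TwoByTwo

/-!
Block decomposition in `Sp(4,q)` with a prescribed middle block.
-/

set_option autoImplicit false

namespace Cfsg.Agent.Involutions.ClassSquare

open Matrix

variable {F : Type*} [Field F]

local notation "Sp4" F => Matrix.symplecticGroup (Fin 2) F
local notation "M2" F => Matrix (Fin 2) (Fin 2) F

theorem blocks_mem_iff {A B C D : M2 F} :
    fromBlocks A B C D ∈ Matrix.symplecticGroup (Fin 2) F ↔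
      B * Aᵀ = A * Bᵀ ∧ B * Cᵀ - A * Dᵀ = -1 ∧ D * Aᵀ - C * Bᵀ = 1 ∧ D * Cᵀ = C * Dᵀ := by
  rw [SymplecticGroup.mem_iff, J, fromBlocks_transpose, fromBlocks_multiply, fromBlocks_multiply,
    fromBlocks_inj]
  simp only [Matrix.mul_zero, Matrix.mul_one, Matrix.mul_neg, Matrix.neg_mul, zero_add, add_zero,
    ← sub_eq_add_neg, sub_eq_zero]

/-- The embedding of `GL(2)` as block diagonal symplectic matrices. -/
def iota : GL (Fin 2) F →* Sp4 F where
  toFun P := ⟨fromBlocks (P : M2 F) 0 0 (((P⁻¹ : GL (Fin 2) F) : M2 F))ᵀ, by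
    rw [blocks_mem_iff]
    refine ⟨by simp, ?_, ?_, by simp⟩
    · rw [Matrix.zero_mul, transpose_transpose, Units.mul_inv, zero_sub]
    · rw [Matrix.zero_mul, sub_zero, ← transpose_mul, Units.mul_inv, transpose_one]⟩
  map_one' := by apply Subtype.ext; simp
  map_mul' P Q := by
    apply Subtype.ext
    simp [fromBlocks_multiply, transpose_mul]

/-- The lower unipotent element of a symmetric matrix. -/
def lowU (R : M2 F) (hR : Rᵀ = R) : Sp4 F :=
  ⟨fromBlocks 1 0 R 1, by rw [blocks_mem_iff]; simp [hR]⟩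

/-- The upper unipotent element of a symmetric matrix. -/
def upU (S : M2 F) (hS : Sᵀ = S) : Sp4 F :=
  ⟨fromBlocks 1 S 0 1, by rw [blocks_mem_iff]; simp [hS]⟩

theorem iota_val (P : GL (Fin 2) F) :
    ((iota P : Sp4 F) : Matrix (Fin 2 ⊕ Fin 2) (Fin 2 ⊕ Fin 2) F) =
      fromBlocks (P : M2 F) 0 0 (((P⁻¹ : GL (Fin 2) F) : M2 F))ᵀ := rfl

theorem lowU_val (R : M2 F) (hR : Rᵀ = R) :
    ((lowU R hR : Sp4 F) : Matrix (Fin 2 ⊕ Fin 2) (Fin 2 ⊕ Fin 2) F) = fromBlocks 1 0 R 1 := rfl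

theorem upU_val (S : M2 F) (hS : Sᵀ = S) :
    ((upU S hS : Sp4 F) : Matrix (Fin 2 ⊕ Fin 2) (Fin 2 ⊕ Fin 2) F) = fromBlocks 1 S 0 1 := rfl

theorem symm_conj (P : M2 F) {R : M2 F} (hR : Rᵀ = R) : (Pᵀ * R * P)ᵀ = Pᵀ * R * P := by
  rw [transpose_mul, transpose_mul, transpose_transpose, hR, Matrix.mul_assoc]

theorem symm_conj' (P : M2 F) {R : M2 F} (hR : Rᵀ = R) : (P * R * Pᵀ)ᵀ = P * R * Pᵀ := by
  rw [transpose_mul, transpose_mul, transpose_transpose, hR, Matrix.mul_assoc]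

/-- The block diagonal element of the companion matrix. -/
noncomputable def cGL {δ t : F} (hg : Good δ t) : GL (Fin 2) F :=
  Matrix.GeneralLinearGroup.mkOfDetNeZero (cA δ t) (by simp [cA, det_fin_two_of, hg.d0])

theorem fixed_form {δ t : F} (hg : Good δ t) {R : M2 F} (hR : Rᵀ = R)
    (h : (cA δ t)ᵀ * R * cA δ t = R) : R = 0 := by
  have hs : R 0 1 = R 1 0 := by simpa using congrArg (fun M : M2 F => M 1 0) hR
  have h00 := congrArg (fun M : M2 F => M 0 0) h
  have h01 := congrArg (fun M : M2 F => M 0 1) h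
  have h11 := congrArg (fun M : M2 F => M 1 1) h
  simp [cA, mul_apply, Fin.sum_univ_two] at h00 h01 h11
  set a := R 0 0
  set b := R 0 1
  set c := R 1 1
  rw [← hs] at h01 h11
  have e1 : a * ((δ - 1) * ((δ + 1) ^ 2 - t ^ 2)) = 0 := by
    linear_combination (δ + 1) * h11 - ((δ + 1) * (t ^ 2 - 1) - 2 * t ^ 2 * δ) * h00 -
      2 * t * δ * h01
  have hk : (δ - 1) * ((δ + 1) ^ 2 - t ^ 2) ≠ 0 := by
    refine mul_ne_zero (sub_ne_zero.2 hg.d1) fun h0 => ?_
    rcases mul_eq_zero.1 (show (t - (δ + 1)) * (t + (δ + 1)) = 0 by linear_combination -h0) with h' | h'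
    · exact hg.tp (sub_eq_zero.1 h')
    · exact hg.tm (eq_neg_of_add_eq_zero_left h')
  have ha : a = 0 := (mul_eq_zero.1 e1).resolve_right hk
  have hc : c = 0 := by linear_combination h00 + ha
  have hb : b = 0 := by
    by_cases hd : δ + 1 = 0
    · rw [ha, hc] at h11
      have h2 : (2 : F) ≠ 0 := fun h2 => hg.d1 (by linear_combination hd - h2)
      have : (2 * t * δ) * b = 0 := by linear_combination -h11
      exact (mul_eq_zero.1 this).resolve_left (mul_ne_zero (mul_ne_zero h2 hg.t0) hg.d0)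
    · have : (δ + 1) * b = 0 := by
        rw [hc] at h01; linear_combination -h01
      exact (mul_eq_zero.1 this).resolve_left hd
  ext i j
  fin_cases i <;> fin_cases j
  · exact ha
  · exact hb
  · exact hs.symm.trans hb
  · exact hc

theorem fixed_form' {δ t : F} (hg : Good δ t) {S : M2 F} (hS : Sᵀ = S)
    (h : cA δ t * S * (cA δ t)ᵀ = S) : S = 0 := by
  have hA : cA δ t * !![-δ, 0; 0, 1] = !![-δ, 0; 0, 1] * (!![0, 1; -δ, t] : M2 F) := by
    ext i j
    fin_cases i <;> fin_cases j <;> simp [cA, mul_apply, Fin.sum_univ_two] <;> ring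
  set K : M2 F := !![-δ, 0; 0, 1] with hK
  have hKt : Kᵀ = K := by
    rw [hK]; ext i j; fin_cases i <;> fin_cases j <;> simp
  have hKu : IsUnit K.det := by rw [hK, det_fin_two_of]; simp [hg.d0]
  have hKi : (K⁻¹)ᵀ = K⁻¹ := by rw [transpose_nonsing_inv, hKt]
  have hAt : (!![0, 1; -δ, t] : M2 F) = (cA δ t)ᵀ := by
    ext i j; fin_cases i <;> fin_cases j <;> simp [cA]
  rw [hAt] at hA
  have hA' : K⁻¹ * cA δ t = (cA δ t)ᵀ * K⁻¹ := by
    calc K⁻¹ * cA δ t = K⁻¹ * (cA δ t * K) * K⁻¹ := by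
          rw [← Matrix.mul_assoc, Matrix.mul_nonsing_inv_cancel_right _ _ hKu]
      _ = _ := by rw [hA, Matrix.nonsing_inv_mul_cancel_left _ _ hKu]
  have hA'' : (cA δ t)ᵀ * K⁻¹ = K⁻¹ * cA δ t := hA'.symm
  have hR := fixed_form hg (R := K⁻¹ * S * K⁻¹) (by
    rw [transpose_mul, transpose_mul, hKi, hS, Matrix.mul_assoc]) (by
    calc (cA δ t)ᵀ * (K⁻¹ * S * K⁻¹) * cA δ t
        = ((cA δ t)ᵀ * K⁻¹) * S * (K⁻¹ * cA δ t) := by simp only [Matrix.mul_assoc]
      _ = K⁻¹ * (cA δ t * S * (cA δ t)ᵀ) * K⁻¹ := by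
          rw [hA']
          simp only [← Matrix.mul_assoc]
          rw [hA']
      _ = _ := by rw [h])
  calc S = K * (K⁻¹ * S * K⁻¹) * K := by
        rw [Matrix.mul_assoc K⁻¹ S, Matrix.mul_nonsing_inv_cancel_left _ _ hKu,
          Matrix.nonsing_inv_mul_cancel_right _ _ hKu]
    _ = 0 := by rw [hR, Matrix.mul_zero, Matrix.zero_mul]

theorem twist_surj [Finite F] (f : (M2 F) →+ (M2 F)) (hf : ∀ R : M2 F, Rᵀ = R → (f R)ᵀ = f R)
    (hinj : ∀ R : M2 F, Rᵀ = R → f R = 0 → R = 0) {R : M2 F} (hR : Rᵀ = R) :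
    ∃ R0 : M2 F, R0ᵀ = R0 ∧ f R0 = R := by
  let g : {R : M2 F // Rᵀ = R} → {R : M2 F // Rᵀ = R} := fun R => ⟨f R.1, hf _ R.2⟩
  have hg : Function.Injective g := fun A B hAB => by
    have e : f A.1 = f B.1 := congrArg Subtype.val hAB
    exact Subtype.ext (sub_eq_zero.1 (hinj (A.1 - B.1)
      (by rw [transpose_sub, A.2, B.2]) (by rw [map_sub, e, sub_self])))
  obtain ⟨R0, h0⟩ := Finite.surjective_of_injective hg ⟨R, hR⟩
  exact ⟨R0.1, R0.2, congrArg Subtype.val h0⟩

theorem low_twist [Finite F] {δ t : F} (hg : Good δ t) (P : GL (Fin 2) F) (R : M2 F) (hR : Rᵀ = R) :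
    ∃ u : Sp4 F, lowU R hR * iota (P * cGL hg * P⁻¹) = u * iota (cGL hg) * u⁻¹ := by
  set A := cA δ t with hA
  set Pm : M2 F := ((P : GL (Fin 2) F) : M2 F) with hPm
  have hR' := symm_conj Pm hR
  set R' := Pmᵀ * R * Pm with hR'def
  let f : (M2 F) →+ (M2 F) :=
    { toFun := fun X => Aᵀ * X * A - X
      map_zero' := by simp
      map_add' := fun X Y => by simp [Matrix.mul_add, Matrix.add_mul]; abel }
  obtain ⟨R0, hR0, hf0⟩ := twist_surj f
    (fun X hX => by
      show (Aᵀ * X * A - X)ᵀ = Aᵀ * X * A - X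
      rw [transpose_sub, symm_conj A hX, hX])
    (fun X hX h0 => fixed_form hg hX (sub_eq_zero.1 h0)) (symm_conj A hR')
  have hf0' : Aᵀ * R0 * A = Aᵀ * R' * A + R0 := sub_eq_iff_eq_add.1 hf0
  have hcA : ((cGL hg : GL (Fin 2) F) : M2 F) = A := rfl
  have key : lowU R' hR' * iota (cGL hg) * lowU R0 hR0 = lowU R0 hR0 * iota (cGL hg) := by
    apply Subtype.ext
    simp only [Submonoid.coe_mul, lowU_val, iota_val, fromBlocks_multiply, Matrix.mul_zero,
      Matrix.zero_mul, Matrix.mul_one, Matrix.one_mul, add_zero, zero_add, hcA]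
    congr 1
    have hd : ((((cGL hg)⁻¹ : GL (Fin 2) F) : M2 F))ᵀ * Aᵀ = 1 := by
      rw [← transpose_mul, ← hcA, Units.mul_inv, transpose_one]
    have hd' : Aᵀ * ((((cGL hg)⁻¹ : GL (Fin 2) F) : M2 F))ᵀ = 1 := by
      rw [← transpose_mul, ← hcA, Units.inv_mul, transpose_one]
    set W := ((((cGL hg)⁻¹ : GL (Fin 2) F) : M2 F))ᵀ
    calc R' * A + W * R0 = W * (Aᵀ * R' * A) + W * R0 := by
          rw [← Matrix.mul_assoc, ← Matrix.mul_assoc, hd, Matrix.one_mul]
      _ = W * (Aᵀ * R0 * A) := by rw [hf0', Matrix.mul_add]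
      _ = R0 * A := by rw [← Matrix.mul_assoc, ← Matrix.mul_assoc, hd, Matrix.one_mul]
  have key2 : lowU R hR * iota P = iota P * lowU R' hR' := by
    apply Subtype.ext
    simp only [Submonoid.coe_mul, lowU_val, iota_val, fromBlocks_multiply, Matrix.mul_zero,
      Matrix.zero_mul, Matrix.mul_one, Matrix.one_mul, add_zero, zero_add]
    congr 1
    rw [hR'def, ← Matrix.mul_assoc, ← Matrix.mul_assoc, ← hPm, ← transpose_mul, Units.mul_inv,
      transpose_one, Matrix.one_mul]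
  refine ⟨iota P * lowU R0 hR0, ?_⟩
  calc lowU R hR * iota (P * cGL hg * P⁻¹)
      = (lowU R hR * iota P) * iota (cGL hg) * (iota P)⁻¹ := by
        rw [map_mul, map_mul, map_inv]; group
    _ = iota P * (lowU R' hR' * iota (cGL hg)) * (iota P)⁻¹ := by rw [key2]; group
    _ = iota P * (lowU R0 hR0 * iota (cGL hg) * (lowU R0 hR0)⁻¹) * (iota P)⁻¹ := by
        rw [← key]; group
    _ = _ := by group

theorem up_twist [Finite F] {δ t : F} (hg : Good δ t) (P : GL (Fin 2) F) (S : M2 F) (hS : Sᵀ = S) :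
    ∃ u : Sp4 F, iota (P * cGL hg * P⁻¹) * upU S hS = u * iota (cGL hg) * u⁻¹ := by
  set A := cA δ t with hA
  set Pi : M2 F := ((P⁻¹ : GL (Fin 2) F) : M2 F) with hPi
  have hS' := symm_conj' Pi hS
  set S' := Pi * S * Piᵀ with hS'def
  let f : (M2 F) →+ (M2 F) :=
    { toFun := fun X => X - A * X * Aᵀ
      map_zero' := by simp
      map_add' := fun X Y => by simp [Matrix.mul_add, Matrix.add_mul]; abel }
  obtain ⟨S0, hS0, hf0⟩ := twist_surj f
    (fun X hX => by
      show (X - A * X * Aᵀ)ᵀ = X - A * X * Aᵀ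
      rw [transpose_sub, symm_conj' A hX, hX])
    (fun X hX h0 => fixed_form' hg hX (sub_eq_zero.1 h0).symm) (symm_conj' A hS')
  have hf0' : S0 = A * S' * Aᵀ + A * S0 * Aᵀ := sub_eq_iff_eq_add.1 hf0
  have hcA : ((cGL hg : GL (Fin 2) F) : M2 F) = A := rfl
  have key : iota (cGL hg) * upU S' hS' * upU S0 hS0 = upU S0 hS0 * iota (cGL hg) := by
    apply Subtype.ext
    simp only [Submonoid.coe_mul, upU_val, iota_val, fromBlocks_multiply, Matrix.mul_zero,
      Matrix.zero_mul, Matrix.mul_one, Matrix.one_mul, add_zero, zero_add, hcA]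
    congr 1
    have hd : Aᵀ * ((((cGL hg)⁻¹ : GL (Fin 2) F) : M2 F))ᵀ = 1 := by
      rw [← transpose_mul, ← hcA, Units.inv_mul, transpose_one]
    set W := ((((cGL hg)⁻¹ : GL (Fin 2) F) : M2 F))ᵀ
    calc A * S0 + A * S' = (A * S' * Aᵀ + A * S0 * Aᵀ) * W := by
          simp only [Matrix.add_mul, Matrix.mul_assoc, hd, Matrix.mul_one]
          abel
      _ = S0 * W := by rw [← hf0']
  have key2 : upU S' hS' * iota P⁻¹ = iota P⁻¹ * upU S hS := by
    apply Subtype.ext
    simp only [Submonoid.coe_mul, upU_val, iota_val, fromBlocks_multiply, Matrix.mul_zero,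
      Matrix.zero_mul, Matrix.mul_one, Matrix.one_mul, add_zero, zero_add, inv_inv]
    congr 1
    rw [hS'def, hPi, Matrix.mul_assoc, ← transpose_mul, Units.mul_inv, transpose_one,
      Matrix.mul_one]
  refine ⟨iota P * upU S0 hS0, ?_⟩
  calc iota (P * cGL hg * P⁻¹) * upU S hS
      = iota P * iota (cGL hg) * (iota P⁻¹ * upU S hS) := by
        rw [map_mul, map_mul]; group
    _ = iota P * (iota (cGL hg) * upU S' hS') * (iota P)⁻¹ := by rw [← key2, map_inv]; group
    _ = iota P * (upU S0 hS0 * iota (cGL hg) * (upU S0 hS0)⁻¹) * (iota P)⁻¹ := by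
        rw [← key]; group
    _ = _ := by group

/-- The upper left and lower left blocks of a conjugate. -/
theorem conj_upU (A B C D S : M2 F) :
    fromBlocks 1 S 0 1 * fromBlocks A B C D * fromBlocks 1 (-S) 0 1 =
      fromBlocks (A + S * C) (-((A + S * C) * S) + (B + S * D)) C (-(C * S) + D) := by
  simp only [fromBlocks_multiply, Matrix.one_mul, Matrix.zero_mul, Matrix.mul_zero, Matrix.mul_one,
    add_zero, zero_add, Matrix.mul_neg]

theorem conj_J (A B C D : M2 F) :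
    fromBlocks 0 (-1) 1 0 * fromBlocks A B C D * fromBlocks 0 1 (-1) 0 =
      fromBlocks D (-C) (-B) A := by
  simp [fromBlocks_multiply]

theorem isTarget_scalar (δ : F) (x : M2 F) (h0 : x 0 0 = δ) (h1 : x 1 1 = δ) (h01 : x 0 1 = 0)
    (h10 : x 1 0 = 0) : IsTarget δ x := by
  refine Or.inr ?_
  ext i j
  fin_cases i <;> fin_cases j <;> simp [h0, h1, h01, h10]

theorem isTarget_nonscalar {δ : F} (x : M2 F) (hd : x 0 0 * x 1 1 - x 0 1 * x 1 0 = δ * δ)
    (ht : x 0 0 + x 1 1 ≠ 2 * δ) (hn : x 0 1 ≠ 0 ∨ x 1 0 ≠ 0 ∨ x 0 0 ≠ x 1 1) : IsTarget δ x := by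
  refine Or.inl ⟨by rw [det_fin_two, hd], by rw [trace_fin_two]; exact ht, fun s hs => ?_⟩
  rcases hn with h | h | h <;> exact h (by rw [hs]; simp)

theorem exists_symm [Fintype F] {δ t : F} (hg : Good δ t) (h3 : 3 ≤ Fintype.card F) (A C : M2 F)
    (hcol : ¬ (A 0 1 = 0 ∧ A 1 1 = 0 ∧ C 0 1 = 0 ∧ C 1 1 = 0))
    (hC : (C 0 0 ≠ 0 ∧ C 0 1 = 0) ∨
      (C 0 0 = 0 ∧ C 1 1 = 0 ∧ C 1 0 = -C 0 1 ∧ C 0 1 ≠ 0)) :
    ∃ S : M2 F, Sᵀ = S ∧ IsTarget δ (A + S * C) := by
  classical
  have hδ := hg.d0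
  suffices ∃ s r w : F, IsTarget δ (A + !![s, r; r, w] * C) by
    obtain ⟨s, r, w, h⟩ := this
    refine ⟨_, ?_, h⟩
    ext i j
    fin_cases i <;> fin_cases j <;> simp
  rcases hC with ⟨hk, hl⟩ | ⟨h00, h11, hanti, hk⟩
  · set k := C 0 0
    by_cases he : C 1 1 = 0
    · -- the right column is fixed
      by_cases hP : A 0 1 = 0
      · have hR : A 1 1 ≠ 0 := fun h => hcol ⟨hP, h, hl, he⟩
        by_cases hRd : A 1 1 = δ
        · -- scalar
          refine ⟨(δ - A 0 0 - (-(A 1 0) / k) * C 1 0) / k, -(A 1 0) / k, 0, ?_⟩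
          apply isTarget_scalar <;>
            simp [mul_apply, vecMul, dotProduct, Fin.sum_univ_two, hl, he, hP, hRd, show C 0 0 = k from rfl]
          · field_simp; ring
          · field_simp; ring
        · refine ⟨(δ * δ / A 1 1 - A 0 0 - ((1 - A 1 0) / k) * C 1 0) / k, (1 - A 1 0) / k, 0, ?_⟩
          apply isTarget_nonscalar <;>
            simp [mul_apply, vecMul, dotProduct, Fin.sum_univ_two, hl, he, hP, show C 0 0 = k from rfl]
          · field_simp; ring
          · intro h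
            apply hRd
            field_simp at h
            have : k * ((A 1 1 - δ) * (A 1 1 - δ)) = k * 0 := by linear_combination h
            replace this := mul_left_cancel₀ hk this
            exact sub_eq_zero.1 (mul_self_eq_zero.1 this)
          · left; field_simp; simp
      · -- trace freely prescribed
        set u := 2 * δ + 1 - A 1 1 with hu
        set v := (u * A 1 1 - δ * δ) / A 0 1 with hv
        refine ⟨(u - A 0 0 - ((v - A 1 0) / k) * C 1 0) / k, (v - A 1 0) / k, 0, ?_⟩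
        apply isTarget_nonscalar <;>
          simp [mul_apply, vecMul, dotProduct, Fin.sum_univ_two, hl, he, show C 0 0 = k from rfl]
        · rw [hv]; field_simp; ring
        · intro h
          field_simp at h
          apply one_ne_zero (α := F)
          rw [hu] at h
          apply mul_left_cancel₀ hk
          linear_combination h
        · left; exact hP
    · set e := C 1 1
      -- the entry below the diagonal is affine in the right column
      have key : ∀ p ρ : F, ρ ≠ 0 →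
          let w' := A 1 0 + (p - A 0 1) / e * k + (ρ - A 1 1) / e * C 1 0
          (ρ - δ) * (ρ - δ) + p * w' ≠ 0 → (p ≠ 0 ∨ w' ≠ 0 ∨ δ * δ ≠ ρ * ρ) →
          ∃ s r w : F, IsTarget δ (A + !![s, r; r, w] * C) := by
        intro p ρ hρ w' hf hn
        refine ⟨((δ * δ + p * w') / ρ - A 0 0 - (p - A 0 1) / e * C 1 0) / k, (p - A 0 1) / e,
          (ρ - A 1 1) / e, ?_⟩
        set x := A + !![((δ * δ + p * w') / ρ - A 0 0 - (p - A 0 1) / e * C 1 0) / k,
          (p - A 0 1) / e; (p - A 0 1) / e, (ρ - A 1 1) / e] * C with hx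
        have x00 : x 0 0 = (δ * δ + p * w') / ρ := by
          simp [hx, mul_apply, vecMul, dotProduct, Fin.sum_univ_two, show C 0 0 = k from rfl]; field_simp; ring
        have x01 : x 0 1 = p := by
          simp [hx, mul_apply, vecMul, dotProduct, Fin.sum_univ_two, hl, show C 1 1 = e from rfl]; field_simp; ring
        have x11 : x 1 1 = ρ := by
          simp [hx, mul_apply, vecMul, dotProduct, Fin.sum_univ_two, hl, show C 1 1 = e from rfl]; field_simp; ring
        have x10 : x 1 0 = w' := by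
          simp [hx, w', mul_apply, vecMul, dotProduct, Fin.sum_univ_two, show C 0 0 = k from rfl]; ring
        apply isTarget_nonscalar <;> simp only [x00, x01, x10, x11]
        · field_simp; ring
        · intro h
          apply hf
          field_simp at h
          linear_combination h
        · rcases hn with h | h | h
          · exact Or.inl h
          · exact Or.inr (Or.inl h)
          · by_cases hp : p = 0
            · refine Or.inr (Or.inr fun h' => h ?_)
              field_simp at h'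
              rw [hp] at h'
              linear_combination h'
            · exact Or.inl hp
      by_cases h2 : (2 : F) = 0
      · obtain ⟨ρ, hρ⟩ := Finset.exists_mem_notMem_of_card_lt_card (s := ({0, δ} : Finset F))
          (t := Finset.univ) (lt_of_le_of_lt Finset.card_le_two (by rw [Finset.card_univ]; omega))
        simp only [Finset.mem_univ, Finset.mem_insert, Finset.mem_singleton, not_or, true_and] at hρ
        refine key 0 ρ hρ.1 ?_ (Or.inr (Or.inr fun h => hρ.2 ?_))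
        · simpa using sub_ne_zero.2 hρ.2
        · have : (ρ - δ) * (ρ - δ) = 0 := by linear_combination -h + (δ * δ - δ * ρ) * h2
          exact sub_eq_zero.1 (mul_self_eq_zero.1 this)
      · by_contra hcon
        have hf : ∀ p ρ : F, p ≠ 0 → ρ ≠ 0 →
            (ρ - δ) * (ρ - δ) + p * (A 1 0 + (p - A 0 1) / e * k + (ρ - A 1 1) / e * C 1 0) = 0 :=
          fun p ρ hp hρ => by_contra fun h => hcon (key p ρ hρ h (Or.inl hp))
        have h1 := hf 1 1 one_ne_zero one_ne_zero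
        have h1' := hf 1 (-1) one_ne_zero (neg_ne_zero.2 one_ne_zero)
        have h1'' := hf (-1) 1 (neg_ne_zero.2 one_ne_zero) one_ne_zero
        have h1''' := hf (-1) (-1) (neg_ne_zero.2 one_ne_zero) (neg_ne_zero.2 one_ne_zero)
        have : (2 * 2 * 2) * δ = 0 := by linear_combination -h1 + h1' - h1'' + h1'''
        exact mul_ne_zero (mul_ne_zero (mul_ne_zero h2 h2) h2) hg.d0 this
  · -- alternating lower left block
    set k := C 0 1
    by_cases hT : A 0 0 + A 1 1 = 2 * δ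
    · refine ⟨-(A 0 1) / k, (A 0 0 - δ) / k, A 1 0 / k, ?_⟩
      apply isTarget_scalar <;>
        simp [mul_apply, vecMul, dotProduct, Fin.sum_univ_two, h00, h11, hanti, show C 0 1 = k from rfl] <;>
        field_simp <;> first | linear_combination hT | ring
    · refine ⟨(1 - A 0 1) / k, 0, (A 1 0 - (A 0 0 * A 1 1 - δ * δ)) / k, ?_⟩
      apply isTarget_nonscalar <;>
        simp [mul_apply, vecMul, dotProduct, Fin.sum_univ_two, h00, h11, hanti, show C 0 1 = k from rfl]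
      · field_simp; ring
      · exact hT
      · left; field_simp; simp

theorem exists_conj_lower_ne (g : Sp4 F) (hg : g ∉ Subgroup.center (Sp4 F)) :
    ∃ h : Sp4 F, ((h * g * h⁻¹ : Sp4 F) : Matrix (Fin 2 ⊕ Fin 2) (Fin 2 ⊕ Fin 2) F).toBlocks₂₁ ≠ 0 := by
  by_contra hcon
  push Not at hcon
  let Jm : Sp4 F := ⟨fromBlocks 0 (-1) 1 0, by rw [blocks_mem_iff]; simp⟩
  let Ji : Sp4 F := ⟨fromBlocks 0 1 (-1) 0, by rw [blocks_mem_iff]; simp⟩
  have hJ : Jm⁻¹ = Ji := by
    refine inv_eq_of_mul_eq_one_right (Subtype.ext ?_)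
    simp [Jm, Ji, fromBlocks_multiply, fromBlocks_one]
  have hU : ∀ (S : M2 F) (hS : Sᵀ = S), (upU S hS : Sp4 F)⁻¹ = upU (-S) (by rw [transpose_neg, hS]) := by
    intro S hS
    refine inv_eq_of_mul_eq_one_right (Subtype.ext ?_)
    simp [upU_val, fromBlocks_multiply, fromBlocks_one]
  obtain ⟨A, B, C, D, hgv⟩ : ∃ A B C D : M2 F,
      (g : Matrix (Fin 2 ⊕ Fin 2) (Fin 2 ⊕ Fin 2) F) = fromBlocks A B C D :=
    ⟨_, _, _, _, (fromBlocks_toBlocks _).symm⟩
  have hC : C = 0 := by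
    have := hcon 1
    simpa [hgv] using this
  have hB : B = 0 := by
    have := hcon Jm
    rw [hJ] at this
    simp [Submonoid.coe_mul, Jm, Ji, hgv, conj_J] at this
    exact this
  have hS : ∀ S : M2 F, Sᵀ = S → S * D = A * S := by
    intro S hS
    have := hcon (Jm * upU S hS)
    rw [_root_.mul_inv_rev, hJ, hU] at this
    have e : ((Jm * upU S hS * g * (upU (-S) (by rw [transpose_neg, hS]) * Ji) : Sp4 F) :
        Matrix (Fin 2 ⊕ Fin 2) (Fin 2 ⊕ Fin 2) F) =
        fromBlocks 0 (-1) 1 0 * (fromBlocks 1 S 0 1 * fromBlocks A B C D * fromBlocks 1 (-S) 0 1) *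
          fromBlocks 0 1 (-1) 0 := by
      simp only [Submonoid.coe_mul, upU_val, hgv, Jm, Ji, Matrix.mul_assoc]
    rw [e, conj_upU, conj_J, toBlocks_fromBlocks₂₁, hB, hC, Matrix.mul_zero, add_zero, zero_add,
      neg_eq_zero] at this
    exact (neg_add_eq_zero.1 this).symm
  have hDA : D = A := by simpa using hS 1 transpose_one
  have h1 := hS !![1, 0; 0, 0] (by ext i j; fin_cases i <;> fin_cases j <;> simp)
  have h2 := hS !![0, 1; 1, 0] (by ext i j; fin_cases i <;> fin_cases j <;> simp)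
  rw [hDA] at h1 h2
  have e01 := congrArg (fun M : M2 F => M 0 1) h1
  have e10 := congrArg (fun M : M2 F => M 1 0) h1
  have e00 := congrArg (fun M : M2 F => M 1 0) h2
  simp [mul_apply, Fin.sum_univ_two] at e01 e10 e00
  have hscal : (g : Matrix (Fin 2 ⊕ Fin 2) (Fin 2 ⊕ Fin 2) F) = A 0 0 • 1 := by
    have hA : A = A 0 0 • (1 : M2 F) := by
      ext i j
      fin_cases i <;> fin_cases j <;> simp [e01, e10.symm, e00]
    rw [hgv, hB, hC, hDA, ← fromBlocks_one, fromBlocks_smul, smul_zero, ← hA]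
  apply hg
  rw [Subgroup.mem_center_iff]
  intro x
  apply Subtype.ext
  simp [Submonoid.coe_mul, hscal]

/-- Every noncentral element is conjugate to one with a target middle block. -/
theorem exists_conj_target [Fintype F] {δ t : F} (hg : Good δ t) (h3 : 3 ≤ Fintype.card F)
    (g : Sp4 F) (hgc : g ∉ Subgroup.center (Sp4 F)) :
    ∃ h : Sp4 F,
      IsTarget δ ((h * g * h⁻¹ : Sp4 F) : Matrix (Fin 2 ⊕ Fin 2) (Fin 2 ⊕ Fin 2) F).toBlocks₁₁ := by
  obtain ⟨h0, hh0⟩ := exists_conj_lower_ne g hgc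
  -- normalise the lower left block
  have hstep : ∀ (g' : Sp4 F) (P : GL (Fin 2) F),
      ((iota P⁻¹ * g' * (iota P⁻¹)⁻¹ : Sp4 F) :
          Matrix (Fin 2 ⊕ Fin 2) (Fin 2 ⊕ Fin 2) F).toBlocks₂₁ =
        (P : M2 F)ᵀ * (g' : Matrix (Fin 2 ⊕ Fin 2) (Fin 2 ⊕ Fin 2) F).toBlocks₂₁ * (P : M2 F) := by
    intro g' P
    rw [← map_inv, inv_inv, Submonoid.coe_mul, Submonoid.coe_mul, iota_val, iota_val]
    conv_lhs => rw [← fromBlocks_toBlocks (g' : Matrix (Fin 2 ⊕ Fin 2) (Fin 2 ⊕ Fin 2) F)]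
    simp [fromBlocks_multiply]
  obtain ⟨h, hC⟩ : ∃ h : Sp4 F,
      let C := ((h * g * h⁻¹ : Sp4 F) : Matrix (Fin 2 ⊕ Fin 2) (Fin 2 ⊕ Fin 2) F).toBlocks₂₁
      (C 0 0 ≠ 0 ∧ C 0 1 = 0) ∨ (C 0 0 = 0 ∧ C 1 1 = 0 ∧ C 1 0 = -C 0 1 ∧ C 0 1 ≠ 0) := by
    set C := ((h0 * g * h0⁻¹ : Sp4 F) : Matrix (Fin 2 ⊕ Fin 2) (Fin 2 ⊕ Fin 2) F).toBlocks₂₁
      with hCdef
    by_cases halt : C 0 0 = 0 ∧ C 1 1 = 0 ∧ C 1 0 = -C 0 1
    · refine ⟨h0, Or.inr ⟨halt.1, halt.2.1, halt.2.2, fun h01 => hh0 ?_⟩⟩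
      have h01' : C 0 1 = 0 := h01
      ext i j
      fin_cases i <;> fin_cases j <;> simp [halt.1, halt.2.1, halt.2.2, h01']
    obtain ⟨x, y, hxy⟩ : ∃ x y : F,
        x * C 0 0 * x + x * C 0 1 * y + y * C 1 0 * x + y * C 1 1 * y ≠ 0 := by
      by_cases h00 : C 0 0 = 0
      · by_cases h11 : C 1 1 = 0
        · refine ⟨1, 1, fun h => halt ⟨h00, h11, ?_⟩⟩
          rw [h00, h11] at h
          linear_combination h
        · exact ⟨0, 1, by simpa using h11⟩
      · exact ⟨1, 0, by simpa using h00⟩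
    set k := x * C 0 0 * x + x * C 0 1 * y + y * C 1 0 * x + y * C 1 1 * y with hk
    -- the second basis vector is orthogonal to the first
    set l0 := x * C 0 0 + y * C 1 0 with hl0
    set l1 := x * C 0 1 + y * C 1 1 with hl1
    have hdet : (!![x, -l1; y, l0] : M2 F).det ≠ 0 := by
      rw [det_fin_two_of]
      intro h
      apply hxy
      rw [hl0, hl1] at h
      linear_combination h
    refine ⟨iota (Matrix.GeneralLinearGroup.mkOfDetNeZero _ hdet)⁻¹ * h0, Or.inl ?_⟩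
    rw [show iota (Matrix.GeneralLinearGroup.mkOfDetNeZero _ hdet)⁻¹ * h0 * g *
        (iota (Matrix.GeneralLinearGroup.mkOfDetNeZero _ hdet)⁻¹ * h0)⁻¹ =
        iota (Matrix.GeneralLinearGroup.mkOfDetNeZero _ hdet)⁻¹ * (h0 * g * h0⁻¹) *
          (iota (Matrix.GeneralLinearGroup.mkOfDetNeZero _ hdet)⁻¹)⁻¹ by group,
      hstep, ← hCdef]
    have hcoe : ((Matrix.GeneralLinearGroup.mkOfDetNeZero _ hdet : GL (Fin 2) F) : M2 F) =
        !![x, -l1; y, l0] := rfl
    rw [hcoe]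
    constructor
    · intro h
      apply hxy
      simp [mul_apply, Fin.sum_univ_two] at h
      linear_combination h
    · simp [mul_apply, Fin.sum_univ_two, hl0, hl1]
      ring
  obtain ⟨A, B, C, D, hv⟩ : ∃ A B C D : M2 F,
      ((h * g * h⁻¹ : Sp4 F) : Matrix (Fin 2 ⊕ Fin 2) (Fin 2 ⊕ Fin 2) F) = fromBlocks A B C D :=
    ⟨_, _, _, _, (fromBlocks_toBlocks _).symm⟩
  simp only [hv, toBlocks_fromBlocks₂₁] at hC
  have hcol : ¬ (A 0 1 = 0 ∧ A 1 1 = 0 ∧ C 0 1 = 0 ∧ C 1 1 = 0) := by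
    rintro ⟨a1, a2, c1, c2⟩
    have hne := (SymplecticGroup.symplectic_det (h * g * h⁻¹ : Sp4 F).2).ne_zero
    apply hne
    refine Matrix.det_eq_zero_of_column_eq_zero (Sum.inl 1) fun i => ?_
    rw [hv]
    rcases i with i | i <;> fin_cases i <;> simp [a1, a2, c1, c2]
  obtain ⟨S, hS, hx⟩ := exists_symm hg h3 A C hcol hC
  refine ⟨upU S hS * h, ?_⟩
  have hU : (upU S hS : Sp4 F)⁻¹ = upU (-S) (by rw [transpose_neg, hS]) := by
    refine inv_eq_of_mul_eq_one_right (Subtype.ext ?_)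
    simp [upU_val, fromBlocks_multiply, fromBlocks_one]
  rw [show upU S hS * h * g * (upU S hS * h)⁻¹ = upU S hS * (h * g * h⁻¹) * (upU S hS)⁻¹ by group,
    hU, Submonoid.coe_mul, Submonoid.coe_mul, hv, upU_val, upU_val, conj_upU, toBlocks_fromBlocks₁₁]
  exact hx

/-- The class of the block diagonal element covers the noncentral elements twice. -/
theorem class_square [Fintype F] {δ t : F} (hg : Good δ t) (h3 : 3 ≤ Fintype.card F)
    (g : Sp4 F) (hgc : g ∉ Subgroup.center (Sp4 F)) :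
    ∃ u v : Sp4 F, g = (u * iota (cGL hg) * u⁻¹) * (v * iota (cGL hg) * v⁻¹) := by
  obtain ⟨h, hx⟩ := exists_conj_target hg h3 g hgc
  set g' := h * g * h⁻¹ with hg'
  obtain ⟨P, Q, hPQ⟩ := isTarget_factor hg hx
  set X : GL (Fin 2) F := P * cGL hg * P⁻¹ * (Q * cGL hg * Q⁻¹) with hX
  obtain ⟨A, B, C, D, hv⟩ : ∃ A B C D : M2 F,
      (g' : Matrix (Fin 2 ⊕ Fin 2) (Fin 2 ⊕ Fin 2) F) = fromBlocks A B C D :=
    ⟨_, _, _, _, (fromBlocks_toBlocks _).symm⟩
  rw [hv, toBlocks_fromBlocks₁₁] at hPQ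
  have hXA : (X : M2 F) = A := by rw [hPQ, hX]; rfl
  set Y : M2 F := ((X⁻¹ : GL (Fin 2) F) : M2 F) with hY
  have hAY : A * Y = 1 := by rw [← hXA, hY, Units.mul_inv]
  have hYA : Y * A = 1 := by rw [← hXA, hY, Units.inv_mul]
  have hAY' : Aᵀ * Yᵀ = 1 := by rw [← transpose_mul, hYA, transpose_one]
  have hYA' : Yᵀ * Aᵀ = 1 := by rw [← transpose_mul, hAY, transpose_one]
  obtain ⟨hBA, -, hDA, -⟩ := blocks_mem_iff.1 (hv ▸ g'.2)
  have hS : (Y * B)ᵀ = Y * B := by
    calc (Y * B)ᵀ = (Y * A) * (Bᵀ * Yᵀ) := by rw [hYA, Matrix.one_mul, transpose_mul]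
      _ = Y * (B * Aᵀ) * Yᵀ := by rw [hBA]; simp only [Matrix.mul_assoc]
      _ = Y * B := by rw [Matrix.mul_assoc, Matrix.mul_assoc, hAY', Matrix.mul_one]
  have hCA : Cᵀ * A = Aᵀ * C := by
    have := SymplecticGroup.mem_iff'.1 (hv ▸ g'.2)
    rw [J, fromBlocks_transpose, fromBlocks_multiply, fromBlocks_multiply, fromBlocks_inj] at this
    have h1 := this.1
    simp only [Matrix.mul_zero, Matrix.mul_one, Matrix.mul_neg, Matrix.neg_mul, zero_add, add_zero,
      ← sub_eq_add_neg, sub_eq_zero] at h1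
    exact h1
  have hR : (C * Y)ᵀ = C * Y := by
    calc (C * Y)ᵀ = Yᵀ * Cᵀ * (A * Y) := by rw [hAY, Matrix.mul_one, transpose_mul]
      _ = Yᵀ * (Cᵀ * A) * Y := by simp only [Matrix.mul_assoc]
      _ = C * Y := by rw [hCA, ← Matrix.mul_assoc, hYA', Matrix.one_mul]
  have hD : D = C * Y * B + Yᵀ := by
    calc D = D * Aᵀ * Yᵀ := by rw [Matrix.mul_assoc, hAY', Matrix.mul_one]
      _ = (1 + C * Bᵀ) * Yᵀ := by rw [← hDA, sub_add_cancel]
      _ = C * (Y * B)ᵀ + Yᵀ := by
        rw [Matrix.add_mul, Matrix.one_mul, transpose_mul, Matrix.mul_assoc, add_comm]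
      _ = _ := by rw [hS, Matrix.mul_assoc]
  have hdec : g' = lowU (C * Y) hR * iota (P * cGL hg * P⁻¹) *
      (iota (Q * cGL hg * Q⁻¹) * upU (Y * B) hS) := by
    rw [show lowU (C * Y) hR * iota (P * cGL hg * P⁻¹) * (iota (Q * cGL hg * Q⁻¹) * upU (Y * B) hS) =
      lowU (C * Y) hR * iota X * upU (Y * B) hS by rw [hX]; simp only [map_mul, mul_assoc]]
    apply Subtype.ext
    simp only [Submonoid.coe_mul, lowU_val, iota_val, upU_val, fromBlocks_multiply, hv, hXA, ← hY,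
      Matrix.mul_zero, Matrix.zero_mul, Matrix.mul_one, Matrix.one_mul, add_zero, zero_add]
    rw [Matrix.mul_assoc C Y A, hYA, Matrix.mul_one, ← Matrix.mul_assoc A Y B, hAY, Matrix.one_mul,
      ← Matrix.mul_assoc C Y B, hD]
  obtain ⟨u, hu⟩ := low_twist hg P (C * Y) hR
  obtain ⟨v, hv'⟩ := up_twist hg Q (Y * B) hS
  rw [hu, hv', hg'] at hdec
  refine ⟨h⁻¹ * u, h⁻¹ * v, ?_⟩
  calc g = h⁻¹ * (h * g * h⁻¹) * h := by group
    _ = _ := by rw [hdec]; group

theorem not_dvd_orderOf_cGL [Fintype F] {δ t : F} (hg : Good δ t) (p : ℕ) [Fact p.Prime]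
    [CharP F p] : ¬ p ∣ orderOf (cGL hg) := by
  rintro ⟨k, hk⟩
  have hpos := orderOf_pos (cGL hg)
  have h1 : (cA δ t) ^ (p * k) = 1 := by
    have h := congrArg (fun x : GL (Fin 2) F => (x : M2 F)) (pow_orderOf_eq_one (cGL hg))
    rw [hk] at h
    exact h
  have h2 : (cGL hg) ^ k = 1 := Units.ext (cA_pow_eq_one_of_nilpotent hg p k h1)
  have hk0 : 0 < k := Nat.pos_of_ne_zero fun h => by rw [hk, h, Nat.mul_zero] at hpos; omega
  have := Nat.le_of_dvd hk0 (orderOf_dvd_of_pow_eq_one h2)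
  rw [hk] at this
  have hp := (Fact.out : p.Prime).two_le
  nlinarith

end Cfsg.Agent.Involutions.ClassSquare
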